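import Cfsg.Agent.INV.CO1.Bas3
import Cfsg.Agent.CHAR.Burnside

/-! CO1/Bas2: normal structure of `J = 2^(2+8) : A₅`. Write `ē₀..ē₃` for the coordinates `2..5` of `V`. -/

set_option autoImplicit false
open Subgroup
open scoped commutatorElement

namespace CL.Co1S
open F4

/-- a perfect group has no proper subgroup of index at most 4 (act on the cosets; `S₄` is solvable) -/
theorem eq_of_index_le_four {G : Type*} [Group G] [Finite G] {H J : Subgroup G} (hp : J ≤ ⁅J, J⁆)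
    (hH : H ≤ J) (hc : Nat.card J ≤ 4 * Nat.card H) : H = J := by
  have hi : (H.subgroupOf J).index ≤ 4 := by
    have := (H.subgroupOf J).card_mul_index
    rw [Nat.card_congr (subgroupOfEquivOfLe hH).toEquiv] at this
    exact Nat.le_of_mul_le_mul_left (this.le.trans (hc.trans_eq (mul_comm _ _))) Nat.card_pos
  have : Group.IsSolvable (Equiv.Perm (J ⧸ H.subgroupOf J)) :=
    Char.isSolvable_of_card_dvd_pow_mul_pow (a := 3) (b := 1) Nat.prime_two Nat.prime_three (by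
      rw [Nat.card_perm]; exact Nat.factorial_dvd_factorial hi)
  let ψ := MulAction.toPermHom J (J ⧸ H.subgroupOf J)
  have hP : ⁅ψ.range, ψ.range⁆ = ψ.range := by
    refine le_antisymm (commutator_le.2 fun a ha b hb => mul_mem (mul_mem (mul_mem ha hb) (inv_mem ha)) (inv_mem hb)) ?_
    rw [MonoidHom.range_eq_map, ← map_commutator]
    refine map_mono fun g _ => ?_
    refine (mem_map_iff_mem (subtype_injective J)).1 ?_
    rw [map_commutator, ← MonoidHom.range_eq_map, range_subtype]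
    exact hp g.2
  have h0 : ψ.range = ⊥ := by_contra fun e => (Group.IsSolvable.commutator_lt_of_ne_bot e).ne hP
  refine le_antisymm hH fun g hg => (H.subgroupOf J).normalCore_le (x := ⟨g, hg⟩) ?_
  rw [normalCore_eq_ker]
  exact mem_bot.1 (h0.le ⟨_, rfl⟩)

theorem A5.list {σ : S8} (h : A5 σ) : ∃ s, ∃ i < 3, σ = pa s * c3 0 1 2 ^ i ∨
    ∃ t, σ = pa s * c3 0 1 2 ^ i * db 0 1 3 4 * pa t := by
  have n : db 0 1 3 4 = pa 1 * (db 0 1 3 4 * pa 1 * (db 0 1 3 4)⁻¹) * pa 1 := by decide +kernel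
  obtain ⟨s, i, e⟩ := B3.bruhat (x := pa) (m := fun t => db 0 1 3 4 * pa t * (db 0 1 3 4)⁻¹) (h := c3 0 1 2)
    (by decide +kernel) (by decide +kernel) n (fun _ => rfl) (by decide +kernel) (by decide +kernel)
    (by decide +kernel) ((closure_le _).2 (by
      rintro _ (rfl | rfl | rfl)
      exacts [subset_closure (.inl ⟨_, rfl⟩), subset_closure (.inl ⟨_, rfl⟩), by
        rw [SetLike.mem_coe, n]
        exact mul_mem (mul_mem (subset_closure (.inl ⟨_, rfl⟩)) (subset_closure (.inr ⟨1, by rw [← n]⟩)))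
          (subset_closure (.inl ⟨_, rfl⟩))]) (gen_A5 h))
  rw [pow_eq_pow_mod i (show c3 0 1 2 ^ 3 = 1 by decide +kernel)] at e
  exact ⟨s, _, Nat.mod_lt i (by norm_num), e⟩

theorem A5.all {p : S8 → Prop} (h1 : ∀ s, ∀ i < 3, p (pa s * c3 0 1 2 ^ i))
    (h2 : ∀ s t, ∀ i < 3, p (pa s * c3 0 1 2 ^ i * db 0 1 3 4 * pa t)) {σ : S8} (h : A5 σ) : p σ := by
  obtain ⟨s, i, hi, rfl | ⟨t, rfl⟩⟩ := h.list
  exacts [h1 s i hi, h2 s t i hi]

theorem A5.cen {σ : S8} (h : A5 σ) : pa 1 * σ = σ * pa 1 → ∃ s, σ = pa s :=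
  A5.all (p := fun σ => pa 1 * σ = σ * pa 1 → ∃ s, σ = pa s) (by decide +kernel) (by decide +kernel) h

theorem A5.std {σ : S8} (h : A5 σ) (h1 : σ ≠ 1) (h2 : σ * σ = 1) : ∃ τ, A5 τ ∧ τ * σ * τ⁻¹ = pa 1 := by
  have c : ∀ i, A5 (c3 0 1 2 ^ i) := fun i => by
    induction i with
    | zero => exact A5.one
    | succ i ih => exact pow_succ (c3 0 1 2) i ▸ ih.mul ⟨c3_mem (by decide) (by decide), rfl, rfl, rfl⟩
  obtain ⟨i, -, e | ⟨t, e⟩⟩ := A5.all (p := fun σ => σ ≠ 1 → σ * σ = 1 → ∃ i < 3,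
    c3 0 1 2 ^ i * σ * (c3 0 1 2 ^ i)⁻¹ = pa 1 ∨ ∃ t, c3 0 1 2 ^ i * db 0 1 3 4 * pa t * σ *
      (c3 0 1 2 ^ i * db 0 1 3 4 * pa t)⁻¹ = pa 1) (by decide +kernel) (by decide +kernel) h h1 h2
  exacts [⟨_, c i, e⟩, ⟨_, ((c i).mul na_mem).mul (pa_mem t), e⟩]

theorem B2.comm_cen {G : Type*} [Group G] {a b s t : G} (hs : ∀ g, Commute g s) (ht : ∀ g, Commute g t) :
    a * s * (b * t) * (a * s)⁻¹ * (b * t)⁻¹ = a * b * a⁻¹ * b⁻¹ := by
  rw [mul_inv_eq_iff_eq_mul, mul_inv_eq_iff_eq_mul, mul_assoc _ b⁻¹, inv_mul_cancel_left, mul_assoc _ a⁻¹,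
    (ht a⁻¹).eq, mul_assoc, mul_assoc, mul_assoc, mul_assoc, inv_mul_cancel_left, ← (hs _).eq, mul_assoc]

/-- the computation in `J / Y` -/
theorem B2.core {Q : Type*} [Group Q] (φ : Q →* Q) (q : F4 → F4 → F4 → F4 → Q) (x : F4 → Q) (H N : Q)
    (qm : ∀ a b c d a' b' c' d', q a b c d * q a' b' c' d' = q (a + a') (b + b') (c + c') (d + d'))
    (qi : ∀ {a b c d a' b' c' d'}, q a b c d = q a' b' c' d' → a = a' ∧ b = b' ∧ c = c' ∧ d = d')
    (qx : ∀ s a b c d, x s * q a b c d = q a (b + s * a) (c + s ^ 2 * a) (d + s ^ 3 * a + s ^ 2 * b + s * c) * x s)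
    (qh : ∀ a b c d, H * q a b c d = q a (v * b) (w * c) d * H) (qn : ∀ a b c d, N * q a b c d = q d c b a * N)
    (xa : ∀ s t, x (s + t) = x s * x t) (hx : ∀ t, H * x t = x (v * t) * H) (h3 : H * (H * H) = 1) (n2 : N * N = 1)
    (nh : N * H = H * (H * N)) (hq : ∀ g, ∃ a b c d, φ g = q a b c d * g)
    (sq : ∀ c d, φ (q 0 c c 0) = q 0 d d 0 → c = d) :
    ∃ a b c d, (∀ a' b' c' d', φ (q a' b' c' d') = q a b c d * q a' b' c' d' * (q a b c d)⁻¹) ∧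
      (∀ s ∈ [1, w], φ (x s) = q a b c d * x s * (q a b c d)⁻¹) ∧ φ N = q a b c d * N * (q a b c d)⁻¹ := by
  have h2 : (2 : F4) = 0 := by decide
  have hw : w * w = v := by decide
  have hv : w + v = 1 := by decide
  have q0 : q 0 0 0 0 = 1 := by simpa using qm 0 0 0 0 0 0 0 0
  have qc : ∀ a b c d a' b' c' d', q a b c d * q a' b' c' d' = q a' b' c' d' * q a b c d := fun a b c d a' b' c' d' => by
    rw [qm, qm, add_comm a, add_comm b, add_comm c, add_comm d]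
  have qv : ∀ a b c d, (q a b c d)⁻¹ = q a b c d := fun a b c d => inv_eq_of_mul_eq_one_left (by
    simp only [qm, f4_add_self, q0])
  have tr : ∀ {g u u' a b c d a' b' c' d'}, g * u = u' * g → φ u = q a b c d → g * q a b c d = q a' b' c' d' * g →
      φ u' = q a' b' c' d' := fun {g u u' a b c d a' b' c' d'} e1 e2 e3 => by
    obtain ⟨r, s, t, k, e⟩ := hq g
    have := congrArg φ e1
    rw [map_mul, map_mul, e, e2, mul_assoc, e3, ← mul_assoc, qc, ← mul_assoc, mul_left_inj, mul_left_inj] at this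
    exact this.symm
  have f1 : ∀ c, φ (q 0 c c 0) = q 0 c c 0 := fun c => by
    obtain ⟨r, s, t, k, e⟩ := hq (q 0 c c 0)
    rw [qm] at e
    obtain ⟨-, e1, -, e2⟩ := qi (e.symm.trans (tr (by simpa [f4_add_self] using qx 1 0 c c 0) e (qx ..)))
    obtain ⟨e3, -⟩ := qi (e.symm.trans (tr (qn ..) e (qn ..)))
    rw [show r + 0 = 0 by grind, show t + c = s + c by grind, show k + 0 = 0 by grind] at e
    rwa [← sq _ _ e] at e
  have fm : ∀ {a b c d a' b' c' d'}, φ (q a b c d) = q a b c d → φ (q a' b' c' d') = q a' b' c' d' →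
      φ (q (a + a') (b + b') (c + c') (d + d')) = q (a + a') (b + b') (c + c') (d + d') := fun e e' => by
    rw [← qm, map_mul, e, e']
  have f3 : ∀ b c, φ (q 0 b c 0) = q 0 b c 0 := fun b c => by
    obtain ⟨s, t, rfl, rfl⟩ := (by decide : ∀ b c : F4, ∃ s t, b = s + v * t ∧ c = s + w * t) b c
    simpa using fm (f1 s) (tr (qh ..) (f1 t) (qh ..))
  have f4 : ∀ d, φ (q 0 0 0 d) = q 0 0 0 d := fun d => by
    simpa [f4_add_self] using fm (f3 d 0) (tr (qx 1 ..) (f3 d 0) (qx ..))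
  have f5 : ∀ a b c d, φ (q a b c d) = q a b c d := fun a b c d => by
    simpa using fm (fm (tr (qn ..) (f4 a) (qn ..)) (f3 b c)) (f4 d)
  have mu : ∀ {g k a b c d a' b' c' d' r s t u}, φ g = q a b c d * g → φ k = q a' b' c' d' * k →
      g * q a' b' c' d' = q r s t u * g → φ (g * k) = q (a + r) (b + s) (c + t) (d + u) * (g * k) := fun e1 e2 e3 => by
    rw [map_mul, e1, e2, mul_assoc, ← mul_assoc _ (q ..), e3, ← qm]; simp only [mul_assoc]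
  have uq : ∀ {g k a b c d a' b' c' d'}, φ g = q a b c d * g → φ k = q a' b' c' d' * k → g = k →
      a = a' ∧ b = b' ∧ c = c' ∧ d = d' := fun e1 e2 e => qi (mul_right_cancel (e1.symm.trans (e ▸ e2)))
  have one : φ 1 = q 0 0 0 0 * 1 := by rw [map_one, q0, mul_one]
  obtain ⟨a2, a3, a4, a5, ea⟩ := hq (x 1)
  obtain ⟨b2, b3, b4, b5, eb⟩ := hq (x (v * 1))
  obtain ⟨c2, c3, c4, c5, ec⟩ := hq (x (v * (v * 1)))
  obtain ⟨h2, h3', h4, h5, eh⟩ := hq H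
  obtain ⟨n2', n3, n4, n5, en⟩ := hq N
  have r1 := uq (mu ea ea (qx ..)) one (by rw [← xa, f4_add_self]; simpa using xa 0 0)
  have r2 := uq (mu eh (mu eh eh (qh ..)) (qh ..)) one h3
  have r3 := uq (mu eh ea (qh ..)) (mu eb eh (qx ..)) (hx _)
  have r4 := uq (mu eh eb (qh ..)) (mu ec eh (qx ..)) (hx _)
  have r5 := uq (mu ea eb (qx ..)) ec (xa ..).symm
  have r6 := uq (mu en en (qn ..)) one n2
  have r7 := uq (mu en eh (qn ..)) (mu eh (mu eh en (qh ..)) (qh ..)) nh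
  have fin : ∀ {g a b c d a' b' c' d' r s t u}, φ g = q a b c d * g → g * q a' b' c' d' = q r s t u * g →
      a = a' + r → b = b' + s → c = c' + t → d = d' + u → φ g = q a' b' c' d' * g * (q a' b' c' d')⁻¹ := by
    rintro g _ _ _ _ a b c d r s t u e1 e2 rfl rfl rfl rfl
    rw [e1, qv, mul_assoc, e2, ← mul_assoc, qm]
  refine ⟨a3, v * h3', w * h4, n2' + a3, fun a b c d => by rw [f5, qc, mul_inv_cancel_right], ?_,
    fin en (qn ..) (by grind) (by grind) (by grind) (by grind)⟩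
  simp only [List.mem_cons, List.not_mem_nil, or_false, forall_eq_or_imp, forall_eq]
  exact ⟨fin ea (qx ..) (by grind) (by grind) (by grind) (by grind),
    fin ec (qx ..) (by grind) (by grind) (by grind) (by grind)⟩

namespace Dat
variable {M : Type*} [Group M] (D : Dat M)

/-- `xa t = [ha, xa s]`, `ma` likewise, `x3 = [xa, x2]`, `xb` is conjugate to `x3` under `na`,
`x1, x2` from `ha`, `y = [x3, xb]` -/
theorem J_perf : D.J ≤ ⁅D.J, D.J⁆ := by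
  have h := D.L_le_J D.ha_L
  have q : ∀ {g x}, g = D.qa x * D.y 0 → g ∈ D.J := fun e => D.QA_le_J (D.mem_QA.2 ⟨_, _, e⟩)
  have a := B3.comm D.xa_add h (fun t => D.L_le_J (D.xa_L t)) D.ha_a (by decide)
  have m := B3.comm D.ma_add h (fun t => D.L_le_J (subset_closure (.inr ⟨t, rfl⟩))) D.ha_ma (by decide)
  have x1 := B3.comm D.x1_add h (fun t => q (D.x1_qa t)) D.ha_1 (by decide)
  have x2 := B3.comm D.x2_add h (fun t => q (D.x2_qa t)) D.ha_2 (by decide)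
  have x3 : ∀ t, D.x3 t ∈ ⁅D.J, D.J⁆ := fun t => (mul_mem_cancel_left (x2 t)).1
    (one_mul t ▸ D.a_2 1 t ▸ mul_mem (mul_mem (a 1) (x2 t)) (inv_mem (a 1)) :)
  have n : D.na ∈ ⁅D.J, D.J⁆ := D.na_eq ▸ mul_mem (mul_mem (a 1) (m 1)) (a 1)
  have xb : ∀ t, D.xb t ∈ ⁅D.J, D.J⁆ := fun t => D.na_3 t ▸ mul_mem (mul_mem n (x3 t)) (inv_mem n)
  refine D.cenY.le.trans ((closure_le _).2 ?_)
  rintro _ ((((((⟨s, rfl⟩ | ⟨s, rfl⟩) | ⟨s, rfl⟩) | ⟨s, rfl⟩) | ⟨s, rfl⟩) | ⟨s, rfl⟩) | ⟨s, rfl⟩)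
  exacts [a s, xb s, x1 s, x2 s, x3 s, (mul_mem_cancel_left (mul_mem (xb 1) (x3 s))).1
    (mul_one s ▸ D.r_3b s 1 ▸ mul_mem (x3 s) (xb 1) :), m s]
theorem J_inv : D.J ≤ closure {j | j ∈ D.J ∧ j * j = 1} := D.cenY.le.trans (Subgroup.closure_mono fun g hg =>
  ⟨D.cenY.ge (subset_closure hg), by
  rcases hg with (((((⟨s, rfl⟩ | ⟨s, rfl⟩) | ⟨s, rfl⟩) | ⟨s, rfl⟩) | ⟨s, rfl⟩) | ⟨s, rfl⟩) | ⟨s, rfl⟩
  exacts [ad_sq D.xa_add s, ad_sq D.xb_add s, ad_sq D.x1_add s, ad_sq D.x2_add s, ad_sq D.x3_add s,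
    ad_sq D.y_add s, ad_sq D.ma_add s]⟩)
/-- A normal subgroup `B` of `J` not contained in `Y` contains `x3 c * y t` with `c ≠ 0`. If `B ≰ Q_A`, `CQ`
gives a commutator `[b, qa x] ∈ B ∩ Q_A` outside `Y`. The classes `x` of `B ∩ Q_A` form an additive set
invariant under `A₅`; if it is not zero, it contains a nonzero vector fixed by `pa 1`, `pa w`
(apply `1 + pa 1`, `1 + pa w` until fixed), i.e. a nonzero multiple of `ē₃`. -/
theorem N1 {B : Subgroup M} (hB : B ≤ D.J) (hn : D.J ≤ normalizer (B : Set M))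
    (h : ¬ ∀ b ∈ B, ∃ t, b = D.y t) : ∃ c t, c ≠ 0 ∧ D.x3 c * D.y t ∈ B := by
  obtain ⟨g, g1, g2, g3⟩ : ∃ g ∈ B, g ∈ D.QA ∧ ¬ ∃ t, g = D.y t := by
    push Not at h
    obtain ⟨b, hb, e⟩ := h
    by_cases m : b ∈ D.QA
    · exact ⟨b, hb, m, not_exists.2 e⟩
    obtain ⟨x, c⟩ := not_forall.1 fun c => m (D.CQ (hB hb) c)
    refine ⟨b * D.qa x * b⁻¹ * (D.qa x)⁻¹, by simpa [mul_assoc] using mul_mem hb (MSS.conj_mem_of_normalizes hn
      (D.QA_le_J (D.qa_QA x)) (inv_mem hb)), mul_mem (MSS.conj_mem_of_normalizes D.J_norm (hB hb) (D.qa_QA x))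
      (inv_mem (D.qa_QA x)), fun ⟨t, e⟩ => c ⟨t, ?_⟩⟩
    rw [mul_inv_eq_iff_eq_mul.1 e, (D.qa_y x t).eq]
  obtain ⟨x, t, rfl⟩ := D.mem_QA.1 g2
  have st : ∀ s x, (∃ t, D.qa x * D.y t ∈ B) → ∃ t, D.qa (P (pa s) x + x) * D.y t ∈ B := fun s x ⟨t, m⟩ => by
    obtain ⟨r, e⟩ := D.xa_qa s x
    have := mul_mem (MSS.conj_mem_of_normalizes hn (D.L_le_J (D.xa_L s)) m) m
    rw [← conj_mul, e, ← (D.c_ya t s).eq, mul_inv_cancel_right, mul_assoc _ (D.y r), ← D.y_add, D.qy_mul] at this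
    exact ⟨_, this⟩
  have k0 : ∀ x : V, x 2 = 0 → x 3 = 0 → x 4 = 0 → D.qa x = D.x3 (x 5) := fun x a b c => by
    rw [qa, a, b, c, ad_zero D.xb_add, ad_zero D.x1_add, ad_zero D.x2_add, mul_one, mul_one, one_mul]
  have k1 : ∀ x : V, x 2 = 0 → ¬ (x 3 = 0 ∧ x 4 = 0) → (∃ t, D.qa x * D.y t ∈ B) →
      ∃ c t, c ≠ 0 ∧ D.x3 c * D.y t ∈ B := fun x a b m => by
    obtain ⟨s, hs⟩ := (by decide : ∀ a b c : F4, ¬ (a = 0 ∧ b = 0) → ∃ s, c + s ^ 2 * a + s * b + c ≠ 0) _ _ (x 5) b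
    obtain ⟨t, m⟩ := st s x m
    rw [k0 _ (by simp [P_pa, a]) (by simp [P_pa, a, f4_add_self]) (by simp [P_pa, a, f4_add_self])] at m
    exact ⟨_, t, by simpa [P_pa, a] using hs, m⟩
  by_cases a : x 2 = 0
  · by_cases b : x 3 = 0 ∧ x 4 = 0
    · rw [k0 x a b.1 b.2] at g1 g3
      exact ⟨_, t, fun e => g3 ⟨t, by rw [e, ad_zero D.x3_add, one_mul]⟩, g1⟩
    · exact k1 x a b ⟨t, g1⟩
  · exact k1 _ (by simp [P_pa, f4_add_self]) (fun e => a (by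
      simpa [P_pa, add_right_comm _ (x 2), f4_add_self] using e.1)) (st 1 x ⟨t, g1⟩)
variable {D} in
theorem Ac.inv {j : M} {σ : S8} (h : D.Ac j σ) (hj : j ∈ D.J) : D.Ac j⁻¹ σ⁻¹ := fun x => by
  obtain ⟨t, e⟩ := h (P σ⁻¹ x)
  refine ⟨t, ?_⟩
  rw [P_P_inv, ← mul_inv_eq_iff_eq_mul, ad_inv D.y_add, mul_assoc, (D.J_y (inv_mem hj) t).eq] at e
  rw [← e]; group
variable {D} in
theorem Ac.eq {j : M} {σ τ : S8} (h : D.Ac j σ) (h' : D.Ac j τ) (hj : j ∈ D.J) (hσ : A5 σ) (hτ : A5 τ) : σ = τ :=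
  inv_mul_eq_one.1 (((h.inv hj).mul (inv_mem hj) h').uniq (hσ.inv.mul hτ) fun x =>
    ⟨0, by rw [inv_mul_cancel, ad_zero D.y_add]; simp⟩)
variable {D} in
theorem Ac.pow {j : M} {σ : S8} (h : D.Ac j σ) (hj : j ∈ D.J) (hσ : A5 σ) (n : ℕ) : A5 (σ ^ n) ∧ D.Ac (j ^ n) (σ ^ n) := by
  induction n with
  | zero => rw [pow_zero, pow_zero]; exact ⟨A5.one, D.ac_Q (one_mem _)⟩
  | succ n ih => rw [pow_succ, pow_succ]; exact ⟨ih.1.mul hσ, ih.2.mul (pow_mem hj n) h⟩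
variable {D} in
theorem Ac.std {j : M} {σ : S8} (h : D.Ac j σ) (hj : j ∈ D.J) (hσ : A5 σ) (h1 : σ ≠ 1) (h2 : σ * σ = 1) :
    ∃ l ∈ D.J, D.Ac (l * j * l⁻¹) (pa 1) := by
  obtain ⟨τ, hτ, e⟩ := A5.std hσ h1 h2
  obtain ⟨l, hl, a⟩ := D.L_surj hτ
  have m := D.L_le_J hl
  exact ⟨l, m, e ▸ (Ac.mul a m h).mul (mul_mem m hj) (Ac.inv a m)⟩
/-- `O₂(J) = Q_A`: the permutations of a normal 2-subgroup are involutions or 1 (`A5.two`), and a
nontrivial involution times a suitable conjugate in `A₅` has order 3 or 5 -/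
theorem O2J {B : Subgroup M} (hB : B ≤ D.J) (hn : D.J ≤ normalizer (B : Set M)) (hp : IsPGroup 2 B) :
    B ≤ D.QA := fun b hb => by
  have k : ∀ b ∈ B, ∀ σ, A5 σ → D.Ac b σ → σ * σ = 1 := fun b hb σ h1 h2 => by
    obtain ⟨n, e⟩ := MSS.isPGroup_iff_forall_mem.1 hp b hb
    obtain ⟨h3, h4⟩ := h2.pow (hB hb) h1 (2 ^ n)
    exact h1.two (h4.eq (e ▸ D.ac_Q (one_mem _)) (pow_mem (hB hb) _) h3 A5.one)
  obtain ⟨σ, h1, h2, h3⟩ := D.J_act (hB hb)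
  refine h3 (by_contra fun e => ?_)
  obtain ⟨l, hl, a⟩ := Ac.std h2 (hB hb) h1 e (k b hb σ h1 h2)
  have m := MSS.conj_mem_of_normalizes hn hl hb
  have n := D.L_le_J D.na_L
  exact absurd (k _ (mul_mem m (MSS.conj_mem_of_normalizes hn n m)) _
    ((pa_mem 1).mul ((na_mem.mul (pa_mem 1)).mul na_mem.inv))
    (a.mul (hB m) ((Ac.mul D.na_qa n a).mul (mul_mem n (hB m)) (Ac.inv D.na_qa n)))) (by decide +kernel)
theorem UW0 [Finite M] {B : Subgroup M} (hB : B ≤ D.J) (hs : ∀ b ∈ B, ∃ t, b * b = D.y t) {b : M} (hb : b ∈ B)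
    (h : D.Ac b (pa 1)) : Nat.card B ≤ 256 := by
  classical
  have cm : ∀ a ∈ B, ∃ t, b * a * b⁻¹ = a * D.y t := fun a ha => by
    obtain ⟨r, e1⟩ := hs a ha
    obtain ⟨s, e2⟩ := hs b hb
    obtain ⟨t, e3⟩ := hs _ (mul_mem hb ha)
    refine ⟨t + r + s, ?_⟩
    calc _ = b * a * (b * a) * a * (a * a)⁻¹ * (b * b)⁻¹ := by group
      _ = _ := by
        rw [e1, e2, e3, ad_inv D.y_add, ad_inv D.y_add, ← (D.J_y (hB ha) t).eq, D.y_add, D.y_add]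
        simp only [mul_assoc]
  let r : F4 → M := fun s => if h : ∃ a ∈ B, D.Ac a (pa s) then h.choose else 1
  refine (Nat.card_mono (Set.toFinite (Set.range fun p : F4 × F4 × F4 × F4 =>
    r p.1 * (D.qa ![0, 0, 0, p.2.1, p.2.1, p.2.2.1] * D.y p.2.2.2))) fun a ha => ?_).trans
    ((Finite.card_range_le _).trans (by simp [card_eq]))
  obtain ⟨σ, h1, h2, -⟩ := D.J_act (hB ha)
  obtain ⟨s, rfl⟩ : ∃ s, σ = pa s := by
    obtain ⟨t, e⟩ := cm a ha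
    refine A5.cen h1 (mul_inv_eq_iff_eq_mul.1 ?_)
    exact ((h.mul (hB hb) h2).mul (hB (mul_mem hb ha)) (h.inv (hB hb))).eq
      (e ▸ mul_one σ ▸ Ac.mul h2 (hB ha) (D.ac_Q (D.y_QA t)) :) (hB (mul_mem (mul_mem hb ha) (inv_mem hb)))
      (((pa_mem 1).mul h1).mul (pa_mem 1).inv) h1
  obtain ⟨r1, r2⟩ : r s ∈ B ∧ D.Ac (r s) (pa s) := by
    have c : ∃ a ∈ B, D.Ac a (pa s) := ⟨a, ha, h2⟩
    simp only [r, dif_pos c]
    exact c.choose_spec
  have m := mul_mem (inv_mem r1) ha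
  obtain ⟨x, t, e⟩ := D.mem_QA.1 (D.CQ (hB m) fun x => by
    simpa only [inv_mul_cancel, P_one] using (r2.inv (hB r1)).mul (hB (inv_mem r1)) h2 x)
  obtain ⟨t', e1⟩ := cm _ m
  obtain ⟨u, e2⟩ := h x
  rw [e, ← conj_mul, e2, (D.J_y (hB hb) t).eq, mul_inv_cancel_right, mul_assoc, mul_assoc, ← D.y_add, ← D.y_add,
    P_pa] at e1
  obtain ⟨-, k3, -, k5, -⟩ := D.qa_inj e1
  have k2 : x 2 = 0 := by simpa using k3
  have k4 : x 4 = x 3 := (by decide : ∀ a b : F4, a + b = 0 → b = a) _ _ (by simpa [k2, add_assoc] using k5)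
  exact ⟨(s, x 3, x 5, t), by rw [← mul_inv_cancel_left (r s) a, e, D.qa_congr (x' := ![0, 0, 0, x 3, x 3, x 5]) k2 rfl k4 rfl]⟩
/-- `Q_A / Y` is the only elementary abelian subgroup of order `≥ 256` of `J / Y`. If `b ∈ B` has
permutation `σ ≠ 1` then the classes of `B ∩ Q_A` are fixed by `σ`: at most 16 (`card_fix`: 256 = 16 · 16),
so `|B ∩ Q_A| ≤ 64`; the permutations of `B` form an elementary abelian subgroup of `A₅`, order `≤ 4`. -/
theorem UWc [Finite M] {B : Subgroup M} (hB : B ≤ D.J) (hs : ∀ b ∈ B, ∃ t, b * b = D.y t)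
    (hY : ∀ t, D.y t ∈ B) (hc : 1024 ≤ Nat.card B) : B = D.QA := by
  refine eq_of_le_of_card_ge (fun b hb => ?_) (D.card_QA.trans_le hc)
  obtain ⟨σ, h1, h2, h3⟩ := D.J_act (hB hb)
  refine h3 (by_contra fun e => ?_)
  obtain ⟨t, e1⟩ := hs b hb
  obtain ⟨l, hl, a⟩ := Ac.std h2 (hB hb) h1 e ((Ac.mul h2 (hB hb) h2).eq (e1 ▸ D.ac_Q (D.y_QA t))
    (hB (mul_mem hb hb)) (h1.mul h1) A5.one)
  have := D.UW0 (MSS.cj_le_of_mem hB hl) (by
    rintro _ ⟨b, hb, rfl⟩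
    obtain ⟨t, e⟩ := hs b hb
    exact ⟨t, conj_mul.trans (by rw [e, (D.J_y hl t).eq, mul_inv_cancel_right])⟩) (MSS.conj_mem_cj hb) a
  rw [MSS.card_cj] at this
  omega
/-- `H¹ = 0`: an endomorphism `f` of `J` which is trivial on `Y` and on `J / Q_A` is induced by `Q_A`.
(a) `f` induces an additive map `F` on `Q_A / Y`, commuting with `L` and preserving squares. The vectors fixed by
`xa 1` and `na` are `c (ē₁ + ē₂)` with square `y(c²)`, so `F` fixes them; their images under `ha`, `xa`, `na`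
span, so `F = id`. (b) `δ(l)` = class of `f(l) l⁻¹` is a cocycle. `(1 + ha + ha²) δ(ha) = 0`, so after
conjugating by `Q_A`, `δ(ha) = 0`. `u = δ(xa 1)` is fixed by `pa 1`: `u = (0,c,c,d)`; `δ(xa v) = ha u`,
`δ(xa w) = ha² u` and `xa 1 * xa v = xa w` give `d = c`, so `u = (pa 1 - 1)(c ē₀)` with `ē₀` fixed by `ha`:
conjugate again, `δ = 0` on `xa t`, `ha`. `na ha na⁻¹ = ha²` gives `δ(na) ∈ ⟨ē₀, ē₃⟩`, `na² = 1` gives
`δ(na) = c (ē₀ + ē₃) = (na - 1)(c ē₃)` with `ē₃` fixed by `xa`, `ha`. (c) Now `j ↦ f(j) j⁻¹` is a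
homomorphism `J → Y ≤ Z(J)`, trivial since `J` is perfect. -/
theorem H1 {f : M → M} (hm : ∀ j ∈ D.J, ∀ j' ∈ D.J, f (j * j') = f j * f j')
    (hq : ∀ j ∈ D.J, ∃ q ∈ D.QA, f j = q * j) (hy : ∀ t, f (D.y t) = D.y t) :
    ∃ q ∈ D.QA, ∀ j ∈ D.J, f j = q * j * q⁻¹ := by
  have fJ : ∀ j ∈ D.J, f j ∈ D.J := fun j hj => by
    obtain ⟨q, h, e⟩ := hq j hj
    exact e ▸ mul_mem (D.QA_le_J h) hj
  let F : D.J →* D.J := MonoidHom.mk' (fun j => ⟨f j, fJ j j.2⟩) fun a b => Subtype.ext (hm a a.2 b b.2)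
  have : (D.Y.subgroupOf D.J).Normal := ⟨fun z ⟨t, hz⟩ j => ⟨t, by
    change _ = (j : M) * z * (j : M)⁻¹
    rw [show (z : M) = D.y t from hz.symm, (D.J_y j.2 t).eq, mul_inv_cancel_right]⟩⟩
  let π := QuotientGroup.mk' (D.Y.subgroupOf D.J)
  let φ := QuotientGroup.map (D.Y.subgroupOf D.J) (D.Y.subgroupOf D.J) F fun z ⟨t, hz⟩ =>
    ⟨t, by change _ = f z; rw [show (z : M) = D.y t from hz.symm, hy]⟩
  have e : ∀ {j k : D.J}, π j = π k ↔ ∃ t, (k : M) = j * D.y t := QuotientGroup.eq.trans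
    (exists_congr fun t => eq_comm.trans inv_mul_eq_iff_eq_mul)
  let q : V → D.J := fun x => ⟨D.qa x, D.QA_le_J (D.qa_QA x)⟩
  let X : F4 → D.J := fun s => ⟨D.xa s, D.L_le_J (D.xa_L s)⟩
  let H : D.J := ⟨D.ha, D.L_le_J D.ha_L⟩
  let N : D.J := ⟨D.na, D.L_le_J D.na_L⟩
  have ac : ∀ {j : D.J} {x x'}, (∃ t, j * D.qa x * (j : M)⁻¹ = D.qa x' * D.y t) → π j * π (q x) = π (q x') * π j :=
    fun {j x x'} h => mul_inv_eq_iff_eq_mul.1 (e (k := j * q x * j⁻¹).2 h).symm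
  have qq : ∀ j : D.J, (j : M) ∈ D.QA → ∃ a b c d, π j = π (q ![0, 0, a, b, c, d]) := fun j hj => by
    obtain ⟨x, t, h⟩ := D.mem_QA.1 hj
    exact ⟨x 2, x 3, x 4, x 5, (e.2 ⟨t, h⟩).symm⟩
  obtain ⟨a, b, c, d, h1, h2, h3⟩ := B2.core φ (fun a b c d => π (q ![0, 0, a, b, c, d])) (fun s => π (X s)) (π H) (π N)
    (fun a b c d a' b' c' d' => (e (k := q _ * q _).2 ⟨_, (D.qa_mul ..).trans
      (congrArg (· * _) (D.qa_congr rfl rfl rfl rfl))⟩).symm)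
    (fun h => by
      obtain ⟨t, h⟩ := e.1 h
      obtain ⟨h2, h3, h4, h5, -⟩ := D.qa_inj (t := 0) (((congrArg _ (ad_zero D.y_add)).trans (mul_one _)).trans h)
      exact ⟨h2.symm, h3.symm, h4.symm, h5.symm⟩)
    (fun s a b c d => ac (P_pa s _ ▸ D.xa_qa s ![0, 0, a, b, c, d] :))
    (fun a b c d => ac ⟨0, by rw [ad_zero D.y_add, mul_one]; exact (D.ha_qa _).trans (by rw [P_c012]; rfl)⟩)
    (fun a b c d => ac (P_na _ ▸ D.na_qa ![0, 0, a, b, c, d] :))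
    (fun s t => congrArg π (Subtype.ext (D.xa_add s t) : X (s + t) = X s * X t))
    (fun t => congrArg π (Subtype.ext (mul_inv_eq_iff_eq_mul.1 (D.ha_a t)) : H * X t = X (v * t) * H))
    (congrArg π (Subtype.ext ((pow_three _).symm.trans D.ha3) : H * (H * H) = 1))
    (congrArg π (Subtype.ext D.na_sq : N * N = 1))
    (congrArg π (Subtype.ext ((mul_inv_eq_iff_eq_mul.1 D.na_ha).trans (mul_assoc ..)) : N * H = H * (H * N)))
    (fun g => by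
      obtain ⟨j, rfl⟩ := QuotientGroup.mk'_surjective _ g
      obtain ⟨r, hr, h⟩ := hq j j.2
      obtain ⟨a, b, c, d, h'⟩ := qq ⟨r, D.QA_le_J hr⟩ hr
      exact ⟨a, b, c, d, h' ▸ congrArg π (Subtype.ext h : F j = ⟨r, D.QA_le_J hr⟩ * j)⟩)
    (fun c d h => by
      obtain ⟨t, h⟩ := (e (k := F (q _))).1 h.symm
      have m := (q ![0, 0, 0, c, c, 0]).2
      have := hm _ m _ m
      replace h : f (D.qa ![0, 0, 0, c, c, 0]) = D.qa ![0, 0, 0, d, d, 0] * D.y t := h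
      rw [h, D.qa_sq, hy, D.qy_mul, V_add_self, D.qa_zero, one_mul] at this
      exact (by decide : ∀ c d t : F4, 0 * 0 + c * c = 0 * 0 + d * d + t + t → c = d) c d t (D.y_inj this))
  refine ⟨D.qa ![0, 0, a, b, c, d], D.qa_QA _, fun j hj => ?_⟩
  let z := q ![0, 0, a, b, c, d]
  have T : ∀ j : D.J, ∃ t, f j = (z * j * z⁻¹ : D.J) * D.y t := fun j => (e (k := F j)).1 (by
    obtain ⟨k, hk, e1⟩ := (D.J_le.trans (sup_le (fun r hr => ⟨⟨r, D.QA_le_J hr⟩, by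
      obtain ⟨a, b, c, d, h⟩ := qq ⟨r, D.QA_le_J hr⟩ hr
      exact (congrArg φ h).trans ((h1 ..).trans (congrArg (fun g => π z * g * (π z)⁻¹) h).symm), rfl⟩)
      (D.L_eq.le.trans ((closure_le _).2 (by
        rintro _ (rfl | rfl | rfl)
        exacts [⟨X 1, h2 1 (by simp), rfl⟩, ⟨X w, h2 w (by simp), rfl⟩, ⟨N, h3, rfl⟩])))) :
      D.J ≤ ((φ.eqLocus (MulAut.conj (π z)).toMonoidHom).comap π).map D.J.subtype) j.2
    exact (Subtype.ext e1 : k = j) ▸ (hk.symm : π (z * k * z⁻¹) = π (F k)))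
  obtain ⟨k, hk, rfl⟩ := (D.J_perf.trans (commutator_le.2 fun r hr s hs => ⟨⁅(⟨r, hr⟩ : D.J), ⟨s, hs⟩⁆, by
    obtain ⟨t, e1⟩ := T ⟨r, hr⟩
    obtain ⟨u, e2⟩ := T ⟨s, hs⟩
    have y : ∀ t, D.y t ∈ D.J := fun t => D.QA_le_J (D.y_QA t)
    refine (map_commutatorElement ..).trans (Eq.trans ?_ (map_commutatorElement ..).symm)
    rw [show F ⟨r, hr⟩ = _ * ⟨_, y t⟩ from Subtype.ext e1, show F ⟨s, hs⟩ = _ * ⟨_, y u⟩ from Subtype.ext e2]
    exact B2.comm_cen (fun g => Subtype.ext (D.J_y g.2 t)) fun g => Subtype.ext (D.J_y g.2 u), rfl⟩) :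
    D.J ≤ (F.eqLocus (MulAut.conj z).toMonoidHom).map D.J.subtype) hj
  exact congrArg Subtype.val hk

end Dat
end CL.Co1S
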