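import Cfsg.Agent.INV.CO1.Defs
import Cfsg.Agent.CHEV.CentChk2
import Cfsg.Agent.S2177
import Cfsg.Agent.S2180
import Cfsg.Agent.S2156
import Cfsg.Agent.S2121
import Cfsg.Agent.S1055
import Cfsg.Agent.Eqns.CL_Chev_PE_ev

/-! CO1/Dat: the Chevalley data of `G₂(4)`. -/

set_option autoImplicit false
open Subgroup

namespace CL.Co1S

namespace DatX

open CL.Chev Cfsg.Lie F4

variable {F : Type*} [Field F] (e : F4 ≃+* F)

/-- root elements with parameters in `F4` -/
def X (r : ℕ) (t : F4) : chevG2.group F := xN (stG chevG2 F).x r (e t)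

theorem X_rt (r : Rt chevG2) (t : F4) : X e r t = (stG chevG2 F).x r (e t) := xN_val _ _ _

theorem X_add (r : ℕ) (s t : F4) : X e r (s + t) = X e r s * X e r t := by
  unfold X xN
  split_ifs
  · rw [map_add, StData.x_add]
  · simp

theorem X_val (r : ℕ) (t : F4) :
    (((X e r t : chevG2.group F) : GL chevG2.Idx F) : Matrix chevG2.Idx chevG2.Idx F) = chevG2.x F r (e t) :=
  xN_stG_val _ _

include e in
theorem two0 : ((2 : ℕ) : F) = 0 := by
  have : e ((2 : ℕ) : F4) = 0 := by rw [show ((2 : ℕ) : F4) = 0 by decide, map_zero]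
  rwa [map_natCast] at this

theorem ev_map (xs : List F4) (p : PE) : p.ev (xs.map e) = e (p.ev xs) := by
  induction p with
  | var i =>
    simp only [PE.ev, List.getD_eq_getElem?_getD, List.getElem?_map]
    cases xs[i]? <;> simp
  | c z => simp [PE.ev]
  | add a b ha hb => simp [PE.ev, ha, hb]
  | mul a b ha hb => simp [PE.ev, ha, hb]
  | neg a ha => simp [PE.ev, ha]
  | pow a k ha => simp [PE.ev, ha]

theorem word (s t : F4) (w₁ w₂ : List (ℕ × PE))
    (h : Mv.weq (Good.C chevG2) chevG2.nroots chevG2.rank 2 w₁ w₂ = true) :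
    (w₁.map fun a => X e a.1 (a.2.ev [s, t])).prod = (w₂.map fun a => X e a.1 (a.2.ev [s, t])).prod := by
  have := evG_eq_of_weqM (D := chevG2) (two0 e) ([s, t].map e) (by simp) h
  simpa only [evG, List.map_map, Function.comp_def, ev_map, X] using this

theorem X_zero (r : ℕ) : X e r 0 = 1 := by rw [X, map_zero, xN_zero]

attribute [local irreducible] X

theorem comm (r r' : ℕ) (h : Mv.weq (Good.C chevG2) chevG2.nroots chevG2.rank 2 [(r, .var 0), (r', .var 1)]
    [(r', .var 1), (r, .var 0)] = true) (s t : F4) : Commute (X e r s) (X e r' t) := by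
  have := word e s t _ _ h
  simpa [commute_iff_eq] using this

/-- `g` permutes the root subgroups by `π`, with scalars `c` -/
def Act (g : chevG2.group F) (π : Fin 12 → Fin 12) (c : Fin 12 → F4) : Prop :=
  ∀ (s : Fin 12) u, g * X e s u * g⁻¹ = X e (π s) (c s * u)

variable {e}

theorem Act.mul {g g' : chevG2.group F} {π π' : Fin 12 → Fin 12} {c c' : Fin 12 → F4} (h : Act e g π c)
    (h' : Act e g' π' c') : Act e (g * g') (fun s => π (π' s)) (fun s => c (π' s) * c' s) := fun s u => by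
  rw [mul_assoc (c _), ← h, ← h']; group

theorem Act.one : Act e 1 (fun s => s) (fun _ => 1) := fun s u => by simp

theorem Act.eq {g g' : chevG2.group F} {π π' : Fin 12 → Fin 12} {c c' : Fin 12 → F4} (h : Act e g π c)
    (h' : Act e g' π' c') (hh : ∀ s, π s = π' s ∧ c s = c' s) : g = g' := by
  obtain ⟨hs, hn⟩ := Cfsg.Agent.S1055.result (F := F) ⟨e w, by simp, by simp⟩
  have h1 : (MulAut.conj g).toMonoidHom = (MulAut.conj g').toMonoidHom :=
    (stG chevG2 F).hom_ext_x stG_top fun r t => by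
      obtain ⟨u, rfl⟩ := e.surjective t
      have a := h r u
      have b := h' r u
      rw [(hh r).1, (hh r).2, ← b] at a
      rw [← X_rt]; exact a
  have h2 : g'⁻¹ * g ∈ center (chevG2.group F) := mem_center_iff.2 fun x => by
    have := DFunLike.congr_fun h1 x
    simp only [MulEquiv.coe_toMonoidHom, MulAut.conj_apply] at this
    calc x * (g'⁻¹ * g) = g'⁻¹ * (g' * x * g'⁻¹) * g := by group
      _ = g'⁻¹ * g * x := by rw [← this]; group
  rcases hs.eq_bot_or_eq_top_of_normal (center (chevG2.group F)) inferInstance with h3 | h3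
  · rw [h3, mem_bot, inv_mul_eq_one] at h2; exact h2.symm
  · exact absurd ⟨⟨fun a b => (mem_center_iff.1 (h3 ▸ mem_top b) a)⟩⟩ hn

theorem Act.ap {g : chevG2.group F} {π : Fin 12 → Fin 12} {c : Fin 12 → F4} (h : Act e g π c) (a a' : ℕ) (k : F4)
    (hh : ∃ s : Fin 12, s.1 = a ∧ (π s).1 = a' ∧ c s = k) (u : F4) : g * X e a u * g⁻¹ = X e a' (k * u) := by
  obtain ⟨s, rfl, rfl, rfl⟩ := hh
  exact h s u

theorem Act.ap1 {g : chevG2.group F} {π : Fin 12 → Fin 12} {c : Fin 12 → F4} (h : Act e g π c) (a a' : ℕ)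
    (hh : ∃ s : Fin 12, s.1 = a ∧ (π s).1 = a' ∧ c s = 1) (u : F4) : g * X e a u * g⁻¹ = X e a' u := by
  rw [h.ap a a' 1 hh, one_mul]

/-- the simple reflections -/
def sg : Fin 2 → Fin 12 → Fin 12 := ![![0, 5, 3, 2, 7, 1, 10, 4, 9, 8, 6, 11], ![1, 0, 2, 4, 3, 6, 5, 8, 7, 9, 11, 10]]
/-- minus the Cartan integers, modulo 3 -/
def wt : Fin 2 → Fin 12 → ℕ := ![![0, 0, 1, 2, 2, 0, 0, 1, 1, 2, 0, 0], ![1, 2, 0, 1, 2, 2, 1, 1, 2, 0, 1, 2]]

theorem tab : ∀ (i : Fin 2) (s : Fin 12), (Good.C chevG2).rfs i s = sg i s ∧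
    (∀ t : F4, t ≠ 0 → t ^ (-(Good.C chevG2).wt i s) = t ^ wt i s) := by decide +kernel

variable (e)

theorem n_conj (i : Fin chevG2.rank) (s : Rt chevG2) (t u : F4) (ht : t ≠ 0) :
    X e (sm i).1 t * X e (ng (sm i)).1 t⁻¹ * X e (sm i).1 t * X e s u *
      (X e (sm i).1 t * X e (ng (sm i)).1 t⁻¹ * X e (sm i).1 t)⁻¹ =
      X e ((Good.C chevG2).rfs i s) (t ^ (-(Good.C chevG2).wt i s) * u) := by
  have h := (stG chevG2 F).n_conj' i s (e t) (e u) (by simpa using ht)
  have h1 : -(e t)⁻¹ = e t⁻¹ := by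
    rw [← map_inv₀, ← map_neg]; rfl
  have h2 : (((rootSys chevG2).η i s : ℤ) : F) = 1 := by
    rcases (rootSys chevG2).η_pm i s with h | h <;> rw [h]
    · simp
    · have := two0 e
      push_cast at this ⊢
      linear_combination -this
  rw [h1, h2, one_mul, rootSys_wt, A_sm', ← map_zpow₀, ← map_mul, rootSys_neg,
    rootSys_simple, rootSys_σ, ← X_rt, ← X_rt, ← X_rt, ← X_rt, rf_sm_val'] at h
  exact h

theorem act_n (i : Fin 2) (a a' : ℕ) (ha : (sm (D := chevG2) i).1 = a ∧ (ng (sm (D := chevG2) i)).1 = a') (t t' : F4)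
    (ht : t ≠ 0 ∧ t' = t⁻¹) : Act e (X e a t * X e a' t' * X e a t) (sg i) (fun s => t ^ wt i s) := fun s u => by
  have h := n_conj e i s t u ht.1
  rw [ha.1, ha.2, ← ht.2] at h
  refine h.trans ?_
  exact congrArg₂ (X e) (tab i s).1 (congrArg (· * u) ((tab i s).2 t ht.1))

theorem act_a (t t' : F4) (ht : t ≠ 0 ∧ t' = t⁻¹) :
    Act e (X e 7 t * X e 4 t' * X e 7 t) (sg 0) (fun s => t ^ wt 0 s) :=
  act_n e 0 7 4 (by decide +kernel) t t' ht

theorem act_b (t t' : F4) (ht : t ≠ 0 ∧ t' = t⁻¹) :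
    Act e (X e 6 t * X e 5 t' * X e 6 t) (sg 1) (fun s => t ^ wt 1 s) :=
  act_n e 1 6 5 (by decide +kernel) t t' ht

theorem le_map {K : Subgroup (chevG2.group F)} (r : ℕ) (hr : r < chevG2.nroots) (h : ∀ t, X e r t ∈ K) :
    chevG2.rootSubgroup F r ≤ K.map (chevG2.group F).subtype := by
  rw [← stData_X ⟨r, hr⟩]
  refine (stData chevG2 F).XS_le_iff.2 ?_
  rintro _ rfl t
  obtain ⟨u, rfl⟩ := e.surjective t
  exact ⟨_, h u, congrArg Subtype.val (X_rt e ⟨r, hr⟩ u)⟩

theorem mem_of_map {K : Subgroup (chevG2.group F)} {g : chevG2.group F}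
    (h : (g : GL chevG2.Idx F) ∈ K.map (chevG2.group F).subtype) : g ∈ K := by
  obtain ⟨k, hk, e⟩ := h
  exact (Subtype.ext e : k = g) ▸ hk

theorem X_inj (r : ℕ) (hr : r < chevG2.nroots) (t : F4) (h : X e r t = 1) : t = 0 := by
  simpa using stG_good.x_inj _ _ ((X_rt e ⟨r, hr⟩ t).symm.trans h)

theorem X_self (r : ℕ) (s t : F4) : Commute (X e r s) (X e r t) := by
  rw [commute_iff_eq, ← X_add, ← X_add, add_comm]

theorem r_3b (s t : F4) : X e 10 s * X e 6 t = X e 6 t * X e 10 s * X e 11 (s * t) := by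
  simpa [mul_assoc] using word e s t [(10, .var 0), (6, .var 1)] [(6, .var 1), (10, .var 0), (11, .var 0 * .var 1)]
    (by decide +kernel)

theorem r_21 (s t : F4) : X e 9 s * X e 8 t = X e 8 t * X e 9 s * X e 11 (s * t) := by
  simpa [mul_assoc] using word e s t [(9, .var 0), (8, .var 1)] [(8, .var 1), (9, .var 0), (11, .var 0 * .var 1)]
    (by decide +kernel)

theorem a_b (s t : F4) : X e 7 s * X e 6 t * (X e 7 s)⁻¹ =
    X e 6 t * X e 8 (s * t) * X e 9 (s ^ 2 * t) * X e 10 (s ^ 3 * t) * X e 11 (s ^ 3 * t ^ 2) := by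
  have := word e s t [(7, .var 0), (6, .var 1)] [(6, .var 1), (8, .var 0 * .var 1),
    (9, .var 0 ^ 2 * .var 1), (10, .var 0 ^ 3 * .var 1), (11, .var 0 ^ 3 * .var 1 ^ 2), (7, .var 0)]
    (by decide +kernel)
  simp only [List.map_cons, List.map_nil, List.prod_cons, List.prod_nil, mul_one] at this
  rw [mul_inv_eq_iff_eq_mul]
  simp only [mul_assoc]
  exact this

theorem a_1 (s t : F4) : X e 7 s * X e 8 t * (X e 7 s)⁻¹ = X e 8 t * X e 10 (s ^ 2 * t) * X e 11 (s * t ^ 2) := by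
  have := word e s t [(7, .var 0), (8, .var 1)] [(8, .var 1),
    (10, .var 0 ^ 2 * .var 1), (11, .var 0 * .var 1 ^ 2), (7, .var 0)] (by decide +kernel)
  simp only [List.map_cons, List.map_nil, List.prod_cons, List.prod_nil, mul_one] at this
  rw [mul_inv_eq_iff_eq_mul]
  simp only [mul_assoc]
  exact this

theorem a_2 (s t : F4) : X e 7 s * X e 9 t * (X e 7 s)⁻¹ = X e 9 t * X e 10 (s * t) := by
  rw [mul_inv_eq_iff_eq_mul]
  simpa [mul_assoc] using word e s t [(7, .var 0), (9, .var 1)] [(9, .var 1),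
    (10, .var 0 * .var 1), (7, .var 0)] (by decide +kernel)

theorem gen : closure (Set.range (X e 7) ∪ Set.range (X e 4) ∪ Set.range (X e 6) ∪ Set.range (X e 5)) = ⊤ := by
  rw [eq_top_iff, ← stG_top]
  have e0 : ∀ i : Fin 2, ((sm (D := chevG2) i).1 = 7 ∧ (ng (sm (D := chevG2) i)).1 = 4) ∨
      ((sm (D := chevG2) i).1 = 6 ∧ (ng (sm (D := chevG2) i)).1 = 5) := by decide +kernel
  refine (stG chevG2 F).grp_le_of_simple' (fun i t => ?_) fun i t => ?_ <;> obtain ⟨u, rfl⟩ := e.surjective t <;>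
    rw [← X_rt] <;> refine subset_closure ?_ <;> rcases e0 i with h | h
  · rw [rootSys_simple, h.1]; exact .inl (.inl (.inl ⟨_, rfl⟩))
  · rw [rootSys_simple, h.1]; exact .inl (.inr ⟨_, rfl⟩)
  · rw [rootSys_neg, rootSys_simple, h.2]; exact .inl (.inl (.inr ⟨_, rfl⟩))
  · rw [rootSys_neg, rootSys_simple, h.2]; exact .inr ⟨_, rfl⟩

theorem X_val1 (r : ℕ) :
    (((X e r 1 : chevG2.group F) : GL chevG2.Idx F) : Matrix chevG2.Idx chevG2.Idx F) = chevG2.x F r 1 := by
  rw [X_val, map_one]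

theorem cen_up {a g : chevG2.group F} (h : g ∈ centralizer {a}) :
    (g : GL chevG2.Idx F) ∈ chevG2.group F ⊓ centralizer {(a : GL chevG2.Idx F)} :=
  ⟨g.2, mem_centralizer_singleton_iff.2 (congrArg Subtype.val (mem_centralizer_singleton_iff.1 h))⟩

variable [Fintype F] [CharP F 2] (hF : Fintype.card F = 4)

theorem phi_X (r : ℕ) (hr : r < chevG2.nroots) (t : F4) :
    fieldAut chevG2 (frobeniusEquiv F 2) (X e r t) = X e r (t ^ 2) := by
  rw [X_rt e ⟨r, hr⟩, X_rt e ⟨r, hr⟩, fieldAut_x, frobeniusEquiv_apply, frobenius_def, map_pow]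

include hF

theorem cls (g : chevG2.group F) (h2 : g * g = 1) (h1 : g ≠ 1) : IsConj (X e 11 1) g ∨ IsConj (X e 9 1) g := by
  obtain ⟨y, -, hy, h, hh, e1⟩ := (Cfsg.Agent.S2177.result (F := F) hF.ge).2.1 g g.2 (by
    rw [Subgroup.orderOf_coe]; exact orderOf_eq_prime (by rw [sq, h2]) h1)
  simp only [List.mem_cons, List.not_mem_nil, or_false, ← X_val1 e, Units.val_inj] at hy
  refine hy.imp (fun hy => ?_) fun hy => ?_ <;>
    exact (isConj_iff.2 ⟨⟨h, hh⟩, Subtype.ext (e1.trans hy)⟩).symm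

theorem ncls : ¬ IsConj (X e 11 1) (X e 9 1) := fun h => by
  have Aw := (act_a e w v (by decide)).mul (act_a e 1 1 (by decide))
  obtain ⟨c, hc⟩ := isConj_iff.1 h
  have := (Cfsg.Agent.S2177.result (F := F) hF.ge).2.2 _ (X e 11 1).2 _ (X e 9 1).2
    (by rw [X_val1]; exact List.mem_cons_self) (by rw [X_val1]; exact List.mem_cons_of_mem _ List.mem_cons_self)
    ⟨c, c.2, congrArg Subtype.val hc⟩
  have h1 : X e 11 1 = X e 9 1 := Subtype.ext (Units.ext this)
  have h2 := Aw.ap1 11 11 (by decide) 1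
  rw [h1, Aw.ap 9 9 w (by decide)] at h2
  have h3 : X e 9 (w * 1 + 1) = 1 := by
    rw [X_add, h2, ← X_add, show (1 + 1 : F4) = 0 by decide, X_zero]
  exact absurd (X_inj e 9 (by decide) _ h3) (by decide)

theorem cenY : centralizer {X e 11 1} = closure (Set.range (X e 7) ∪ Set.range (X e 6) ∪ Set.range (X e 8) ∪
    Set.range (X e 9) ∪ Set.range (X e 10) ∪ Set.range (X e 11) ∪ Set.range (X e 4)) := by
  refine le_antisymm (fun g hg => mem_of_map ?_) ((closure_le _).2 ?_)
  · have := cen_up hg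
    rw [(Cfsg.Agent.S2180.result (F := F) hF.ge _ _ (X_val1 e 11) (X_val1 e 9)).1] at this
    refine (sup_le ?_ (le_map e 4 (by decide) fun t => subset_closure (.inr ⟨_, rfl⟩))) this
    rw [← stData_U]
    refine (stData chevG2 F).XS_le_iff.2 fun r hr t => ?_
    have h6 : ∀ r : Fin 12, r.1 ∈ posL 12 → r.1 = 6 ∨ r.1 = 7 ∨ r.1 = 8 ∨ r.1 = 9 ∨ r.1 = 10 ∨ r.1 = 11 := by decide
    have h7 : (stData chevG2 F).x r t ∈ chevG2.rootSubgroup F r := by
      rw [← stData_X]; exact StData.x_mem_XS _ (Set.mem_singleton r) t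
    refine le_map e r r.2 (fun t => subset_closure ?_) h7
    rcases h6 r (isPos_iff_mem_posL.1 hr) with h | h | h | h | h | h <;> rw [h] <;>
      simp only [Set.mem_union, Set.mem_range_self, true_or, or_true]
  · rintro _ ((((((⟨t, rfl⟩ | ⟨t, rfl⟩) | ⟨t, rfl⟩) | ⟨t, rfl⟩) | ⟨t, rfl⟩) | ⟨t, rfl⟩) | ⟨t, rfl⟩) <;>
      refine mem_centralizer_singleton_iff.2 ?_
    exacts [comm e 7 11 (by decide +kernel) t 1, comm e 6 11 (by decide +kernel) t 1,
      comm e 8 11 (by decide +kernel) t 1, comm e 9 11 (by decide +kernel) t 1, comm e 10 11 (by decide +kernel) t 1,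
      X_self e _ _ _, comm e 4 11 (by decide +kernel) t 1]

theorem cenX : centralizer {X e 9 1} = closure (Set.range (X e 9) ∪ Set.range (X e 10) ∪ Set.range (X e 11) ∪
    Set.range (X e 6) ∪ Set.range (X e 5)) := by
  refine le_antisymm (fun g hg => mem_of_map ?_) ((closure_le _).2 ?_)
  · have := cen_up hg
    rw [(Cfsg.Agent.S2180.result (F := F) hF.ge _ _ (X_val1 e 11) (X_val1 e 9)).2] at this
    refine (sup_le (sup_le (sup_le (sup_le (le_map e 9 (by decide) fun t => subset_closure ?_)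
      (le_map e 10 (by decide) fun t => subset_closure ?_)) (le_map e 11 (by decide) fun t => subset_closure ?_))
      (le_map e 6 (by decide) fun t => subset_closure ?_)) (le_map e 5 (by decide) fun t => subset_closure ?_)) this <;>
      simp only [Set.mem_union, Set.mem_range_self, true_or, or_true]
  · rintro _ ((((⟨t, rfl⟩ | ⟨t, rfl⟩) | ⟨t, rfl⟩) | ⟨t, rfl⟩) | ⟨t, rfl⟩) <;>
      refine mem_centralizer_singleton_iff.2 ?_
    exacts [X_self e _ _ _, comm e 10 9 (by decide +kernel) t 1, comm e 11 9 (by decide +kernel) t 1,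
      comm e 6 9 (by decide +kernel) t 1, comm e 5 9 (by decide +kernel) t 1]

include e in
theorem aut (θ : MulAut (chevG2.group F)) : ∃ a, (∀ g, θ g = a * g * a⁻¹) ∨
    (∀ g, θ g = a * fieldAut chevG2 (frobeniusEquiv F 2) g * a⁻¹) := by
  have hO := Cfsg.Agent.S2121.result (F := F) 2 2 hF (by norm_num)
  rw [if_neg (by norm_num)] at hO
  have hap := apin_fieldAut (D := chevG2) (frobeniusEquiv F 2)
  generalize (fieldAut chevG2 (frobeniusEquiv F 2) : MulAut (chevG2.group F)) = φ at hap ⊢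
  have hn : (QuotientGroup.mk φ : Cfsg.Out (chevG2.group F)) ≠ 1 := fun h => by
    obtain ⟨g, hg⟩ := (QuotientGroup.eq_one_iff (N := Cfsg.Inn (chevG2.group F)) φ).1 h
    rw [← hg] at hap
    obtain ⟨c, h2⟩ := (stG chevG2 F).exists_apin_of_mem_H (hap.mem_H stG_good stG_top)
    have h3 := DFunLike.congr_fun (congrFun (hap.unique stG_good h2).2.2 (0 : Fin 2)) (e w)
    rw [frobeniusEquiv_apply, frobenius_def, ← map_pow, RingEquiv.refl_apply, e.injective.eq_iff] at h3
    exact absurd h3 (by decide)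
  obtain ⟨x, hx, hu⟩ := (Nat.card_eq_two_iff' (1 : Cfsg.Out (chevG2.group F))).1 hO
  by_cases h : θ ∈ Cfsg.Inn (chevG2.group F)
  · obtain ⟨a, ha⟩ := h
    exact ⟨a, .inl fun g => by rw [← MulAut.conj_apply, ha]⟩
  · have h1 : (QuotientGroup.mk θ : Cfsg.Out (chevG2.group F)) = QuotientGroup.mk φ :=
      (hu _ fun h' => h ((QuotientGroup.eq_one_iff _).1 h')).trans (hu _ hn).symm
    have h2 : θ * (φ : MulAut (chevG2.group F))⁻¹ ∈ Cfsg.Inn (chevG2.group F) := by
      rw [← QuotientGroup.eq_one_iff, QuotientGroup.mk_mul, QuotientGroup.mk_inv, h1, mul_inv_cancel]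
    obtain ⟨a, ha⟩ := h2
    refine ⟨a, .inr fun g => ?_⟩
    rw [← MulAut.conj_apply, ha]
    simp

end DatX

open CL.Chev Cfsg.Lie F4 DatX in
/-- Root indices of `chevG2`: `a = 7, b = 6, -a = 4, -b = 5, a+b = 8, 2a+b = 9, 3a+b = 10, 3a+2b = 11`.
Take `e : F4 ≃+* F` (`F4.nonempty_equiv`) and `xa t = x₇(e t)` etc; `na, nb, ha, hb` are DEFINED by the
fields `na_eq, nb_eq, ha_eq, hb_eq`. All relations were checked by computer on the 14 × 14 matrices.
Tools: the word checker `CL.Chev.prod_eq_of_weqM` (pattern in `S2180.lean`; polynomial identities in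
characteristic 2, `t ^ 4 = t` is not needed for the commutator relations; for the torus relations
use the library lemmas on `h_r(t)`, `n_r(t)` of `stData`, or check the 4 values of `t`), `S2177` (`cls`,
`ncls`), `S2180` (`cenY`, `cenX`; `posUnipotent` is generated by the six positive root subgroups),
simplicity (`S1080`/`S1030`/`S1055` or the library theorem behind them), `S2156` + `S2121` (`aut`:
`|Out| = 2`, and the field automorphism `φ` is not inner, or directly: diagonal automorphisms are inner,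
graph automorphisms are trivial for `p ≠ 3`, `Aut F = {1, t ↦ t²}`). `gen`: the simple root subgroups
and their negatives generate. -/
theorem exists_dat {F : Type*} [Field F] [Fintype F] (hF : Fintype.card F = 4) :
    Nonempty (Dat (Cfsg.Lie.chevG2.group F)) := by
  obtain ⟨e⟩ := F4.nonempty_equiv hF
  haveI : CharP F 2 := CharTwo.of_one_ne_zero_of_two_eq_zero one_ne_zero (by simpa using two0 e)
  have A1 := act_a e 1 1 (by decide)
  have B1 := act_b e 1 1 (by decide)
  have Aw := (act_a e w v (by decide)).mul A1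
  have Bw := (act_b e w v (by decide)).mul B1
  have Av := (act_a e v w (by decide)).mul A1
  have Bv := (act_b e v w (by decide)).mul B1
  exact ⟨{
    xa := X e 7, xb := X e 6, x1 := X e 8, x2 := X e 9, x3 := X e 10, y := X e 11, ma := X e 4, mb := X e 5
    na := X e 7 1 * X e 4 1 * X e 7 1
    nb := X e 6 1 * X e 5 1 * X e 6 1
    ha := X e 7 w * X e 4 v * X e 7 w * (X e 7 1 * X e 4 1 * X e 7 1)
    hb := X e 6 w * X e 5 v * X e 6 w * (X e 6 1 * X e 5 1 * X e 6 1)
    φ := fieldAut chevG2 (frobeniusEquiv F 2)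
    xa_add := X_add e _, xb_add := X_add e _, x1_add := X_add e _, x2_add := X_add e _, x3_add := X_add e _
    y_add := X_add e _, ma_add := X_add e _, mb_add := X_add e _
    y_ne := fun h => absurd (X_inj e 11 (by decide) _ h) (by decide)
    c_b1 := comm e 6 8 (by decide +kernel), c_b2 := comm e 6 9 (by decide +kernel)
    c_13 := comm e 8 10 (by decide +kernel), c_23 := comm e 9 10 (by decide +kernel)
    c_a3 := comm e 7 10 (by decide +kernel), c_ya := comm e 11 7 (by decide +kernel)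
    c_yb := comm e 11 6 (by decide +kernel), c_y1 := comm e 11 8 (by decide +kernel)
    c_y2 := comm e 11 9 (by decide +kernel), c_y3 := comm e 11 10 (by decide +kernel)
    r_3b := r_3b e, r_21 := r_21 e, a_b := a_b e, a_1 := a_1 e, a_2 := a_2 e
    na_eq := rfl, nb_eq := rfl
    na_a := A1.ap1 7 4 (by decide), na_b := A1.ap1 6 10 (by decide), na_1 := A1.ap1 8 9 (by decide)
    na_y := A1.ap1 11 11 (by decide)
    nb_a := B1.ap1 7 8 (by decide), nb_b := B1.ap1 6 5 (by decide), nb_2 := B1.ap1 9 9 (by decide)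
    nb_3 := B1.ap1 10 11 (by decide)
    ha_eq := rfl, ha_sq := (Aw.mul Aw).eq Av (by decide)
    hb_eq := rfl, hb_sq := (Bw.mul Bw).eq Bv (by decide)
    ha3 := (pow_three _).trans ((Aw.mul (Aw.mul Aw)).eq Act.one (by decide))
    hb3 := (pow_three _).trans ((Bw.mul (Bw.mul Bw)).eq Act.one (by decide))
    hab := (Aw.mul Bw).eq (Bw.mul Aw) (by decide)
    na_ha := mul_inv_eq_iff_eq_mul.2 ((A1.mul Aw).eq ((Aw.mul Aw).mul A1) (by decide))
    na_hb := mul_inv_eq_iff_eq_mul.2 ((A1.mul Bw).eq ((Aw.mul Bw).mul A1) (by decide))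
    nb_ha := mul_inv_eq_iff_eq_mul.2 ((B1.mul Aw).eq (Aw.mul B1) (by decide))
    nb_hb := mul_inv_eq_iff_eq_mul.2 ((B1.mul Bw).eq ((Bw.mul Bw).mul B1) (by decide))
    ha_a := Aw.ap 7 7 v (by decide), ha_b := Aw.ap1 6 6 (by decide), ha_1 := Aw.ap 8 8 v (by decide)
    ha_2 := Aw.ap 9 9 w (by decide), ha_3 := Aw.ap1 10 10 (by decide), ha_y := Aw.ap1 11 11 (by decide)
    ha_ma := Aw.ap 4 4 w (by decide), ha_mb := Aw.ap1 5 5 (by decide)
    hb_a := Bw.ap 7 7 v (by decide), hb_b := Bw.ap 6 6 v (by decide), hb_1 := Bw.ap 8 8 w (by decide)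
    hb_2 := Bw.ap1 9 9 (by decide), hb_3 := Bw.ap 10 10 v (by decide), hb_y := Bw.ap 11 11 w (by decide)
    hb_ma := Bw.ap 4 4 w (by decide), hb_mb := Bw.ap 5 5 w (by decide)
    φ_a := phi_X e 7 (by decide), φ_b := phi_X e 6 (by decide), φ_1 := phi_X e 8 (by decide)
    φ_2 := phi_X e 9 (by decide), φ_3 := phi_X e 10 (by decide), φ_y := phi_X e 11 (by decide)
    φ_ma := phi_X e 4 (by decide), φ_mb := phi_X e 5 (by decide)
    simple := (Cfsg.Agent.S1055.result (F := F) ⟨e w, by simp, by simp⟩).1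
    gen := gen e, cls := cls e hF, ncls := ncls e hF, cenY := cenY e hF, cenX := cenX e hF, aut := aut e hF }⟩

end CL.Co1S
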