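import Cfsg.Agent.INV.CO1.S7c

/-! `l` normalises `Q`; the configuration `XS`. -/

set_option autoImplicit false
open Subgroup

namespace CL.Co1S
open F4

variable {G : Type*} [Group G] [Finite G]

namespace AQ
variable (S : AQ G)

omit [Finite G] in
theorem QV_y (t : F4) : S.QV (S.y t) :=
  ⟨S.yW t, by rw [S.cl_y]; exact Re.zero, by rw [S.cl_y]; simp [bf]⟩
omit [Finite G] in
theorem y01 {p : G} {t : F4} (h : p * S.y t = p ∨ p * S.y t = p * S.y 1) : t = 0 ∨ t = 1 :=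
  h.imp (fun e => S.y_ne t (mul_eq_left.1 e)) fun e => S.toAS.y_inj (mul_left_cancel e)
theorem j_not : S.j ∉ S.W := fun h => by
  have := S.jy w
  rw [(S.Wy _ h w).eq, mul_inv_cancel_right] at this
  exact absurd (S.toAS.y_inj this) (by decide)
theorem jW {g : G} (hg : g ∈ S.W) : S.j * g * S.j⁻¹ ∈ S.W := (mem_normalizer_iff.1 S.j_W g).1 hg
theorem jj : S.j * S.j ∈ S.W := by rcases S.j2 with e | e <;> rw [e]; exacts [one_mem _, S.yW 1]

/-- an element of `D` centralising `Q_V` modulo `z` -/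
theorem cen_QV {x : G} (hz : Commute x (S.y 1)) (h4 : x ^ 4 = 1)
    (h : ∀ p, S.QV p → x * p * x⁻¹ = p ∨ x * p * x⁻¹ = p * S.y 1) {g : G} (hg : g ∈ S.W)
    (e : S.cl g = w • sb) : x ∈ S.Q ∨ g⁻¹ * x ∈ S.Q := by
  have key : ∀ n ∈ S.toAS.N1, (∀ p, S.QV p → n * p * n⁻¹ = p ∨ n * p * n⁻¹ = p * S.y 1) →
      ∃ a ∈ S.W, ∃ o ∈ S.O, n = a * o ∧ (a ∈ S.Q ∨ g⁻¹ * a ∈ S.Q) := fun n hn h => by
    obtain ⟨a, ha, o, ho, rfl⟩ := S.ker n hn (eq_one_of_perp fun y h1 h2 => by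
      obtain ⟨p, hp, rfl⟩ := S.cl_surj y
      rw [← S.act n hn p hp]
      rcases h p ⟨hp, h1, h2⟩ with e | e <;> rw [e]
      rw [S.cl_mul _ hp _ (S.yW 1), S.cl_y, add_zero])
    refine ⟨a, ha, o, ho, rfl, (re_of_bf' (x := S.cl a) fun y h1 h2 => ?_).imp (S.mem_of_re ha) fun h =>
      S.mem_of_re (mul_mem (inv_mem hg) ha) ?_⟩
    · obtain ⟨p, hp, rfl⟩ := S.cl_surj y
      have := h p ⟨hp, h1, h2⟩
      rw [show a * o * p * (a * o)⁻¹ = a * (o * p * o⁻¹) * a⁻¹ by group, ← S.OW ho p hp, mul_inv_cancel_right,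
        S.toAS.conj_W ha hp] at this
      exact S.y01 this
    · rwa [S.cl_mul _ (inv_mem hg) _ ha, S.toAS.cl_inv hg, e, add_comm]
  rcases S.D_cases hz (h _ (S.QV_y w)) with hn | hn
  · obtain ⟨a, ha, o, ho, rfl, h⟩ := key x hn h
    have c : Commute a o := S.OW ho a ha
    rw [c.mul_pow, S.toAS.pow4 ha, one_mul] at h4
    rwa [LX.eq_one_of_odd_of_two S.Oodd ho (k := 2) h4, mul_one]
  · obtain ⟨a, ha, o, ho, e', h⟩ := key _ hn fun p hp => by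
      have h1 := S.es.conj_cases hp.Q (inv_mem S.j_mem)
      have h2 := h p hp
      rw [show x * S.j⁻¹ * p * (x * S.j⁻¹)⁻¹ = x * (S.j⁻¹ * p * S.j⁻¹⁻¹) * x⁻¹ by group]
      rcases h1 with e | e <;> rw [e]
      · exact h2
      · rw [show x * (p * S.y 1) * x⁻¹ = x * p * x⁻¹ * (x * S.y 1 * x⁻¹) by group, hz.eq,
          mul_inv_cancel_right]
        rcases h2 with e | e <;> rw [e]
        exacts [Or.inr rfl, Or.inl (by rw [mul_assoc, S.toAS.y_sq, mul_one])]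
    rw [mul_inv_eq_iff_eq_mul, mul_assoc, S.jO o ho, ← mul_assoc] at e'
    have c : Commute (a * S.j) o := Commute.mul_left (S.OW ho a ha) (S.jO o ho).symm
    have h8 : (a * S.j) ^ 8 = 1 := by
      rw [show 8 = 2 * 4 from rfl, pow_mul, show (a * S.j) ^ 2 = a * (S.j * a * S.j⁻¹) * (S.j * S.j) by
        rw [pow_two]; group]
      exact S.toAS.pow4 (mul_mem (mul_mem ha (S.jW ha)) S.jj)
    have : x ^ 8 = 1 := by rw [show 8 = 4 * 2 from rfl, pow_mul, h4, one_pow]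
    rw [e', c.mul_pow, h8, one_mul] at this
    rw [e', LX.eq_one_of_odd_of_two S.Oodd ho (k := 3) this, mul_one, ← mul_assoc]
    exact h.imp (mul_mem · S.j_mem) (mul_mem · S.j_mem)

/-- `C_{Q/z}(g₀) = Q_V / z` -/
theorem qv_of {g b : G} (hg : g ∈ S.W) (e : S.cl g = w • sb) (hb : b ∈ S.Q)
    (h : g * b * g⁻¹ = b ∨ g * b * g⁻¹ = b * S.y 1) : S.QV b := by
  rcases (S.mem_Q b).1 hb with ⟨h1, h2⟩ | ⟨h1, h2⟩
  · refine ⟨h1, h2, ?_⟩
    rw [S.toAS.conj_W hg h1, e, bf_smul_left, bf_comm] at h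
    rcases h2.bf01 re_sb with a | a
    · exact a
    · rw [a] at h; exact absurd (S.y01 h) (by decide)
  · exfalso
    obtain ⟨t, ht⟩ : ∃ t, g * b * g⁻¹ = b * S.y t :=
      h.elim (fun e => ⟨0, by rw [e, S.toAS.y_zero, mul_one]⟩) fun e => ⟨1, e⟩
    obtain ⟨p, rfl⟩ : ∃ p, b = S.j * p := ⟨S.j⁻¹ * b, by group⟩
    rw [inv_mul_cancel_left] at h1
    have m := mul_mem (mul_mem (mul_mem h1 (S.yW t)) hg) (inv_mem h1)
    have e1 : g = S.j * (p * S.y t * g * p⁻¹) * S.j⁻¹ := by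
      rw [show S.j * (p * S.y t * g * p⁻¹) * S.j⁻¹ = S.j * p * S.y t * g * (S.j * p)⁻¹ by group, ← ht]; group
    have e2 := congrArg S.cl e1
    rw [S.jcl _ m, S.cl_mul _ (mul_mem (mul_mem h1 (S.yW t)) hg) _ (inv_mem h1),
      S.cl_mul _ (mul_mem h1 (S.yW t)) _ hg, S.cl_mul _ h1 _ (S.yW t), S.cl_y, S.toAS.cl_inv h1, add_zero,
      add_right_comm, V_add_self, zero_add, e] at e2
    exact absurd e2 (by decide)

theorem l_mem : S.l ∈ normalizer (S.Q : Set G) := by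
  obtain ⟨g, hg, e⟩ := S.cl_surj (w • sb)
  have hz : ∀ a : G, S.l * (a * S.y 1) * S.l⁻¹ = S.l * a * S.l⁻¹ * S.y 1 := fun a => by
    rw [mul_assoc, mul_assoc, ← S.lz.inv_left.eq]; group
  have cm : ∀ a ∈ S.Q, ∀ b ∈ S.Q, S.l * a * S.l⁻¹ * (S.l * b * S.l⁻¹) * (S.l * a * S.l⁻¹)⁻¹ = S.l * b * S.l⁻¹ ∨
      S.l * a * S.l⁻¹ * (S.l * b * S.l⁻¹) * (S.l * a * S.l⁻¹)⁻¹ = S.l * b * S.l⁻¹ * S.y 1 := fun a ha b hb => by
    rw [show S.l * a * S.l⁻¹ * (S.l * b * S.l⁻¹) * (S.l * a * S.l⁻¹)⁻¹ = S.l * (a * b * a⁻¹) * S.l⁻¹ by group]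
    rcases S.es.conj_cases hb ha with e | e <;> rw [e]
    exacts [Or.inl rfl, Or.inr (hz b)]
  have h1 : ∀ a ∈ S.Q, S.l * a * S.l⁻¹ ∈ S.Q ∨ g⁻¹ * (S.l * a * S.l⁻¹) ∈ S.Q := fun a ha =>
    S.cen_QV ((S.lz.mul_left (S.es.z_comm a ha)).mul_left S.lz.inv_left)
      (by rw [conj_pow, S.es.pow_four ha]; simp) (fun p hp => by
        have := cm a ha _ (inv_ind (fun _ => S.QV_l) hp).Q
        rwa [show S.l * (S.l⁻¹ * p * S.l) * S.l⁻¹ = p by group] at this) hg e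
  refine mem_normalizer_fintype fun x hx => ?_
  by_contra hn
  have hq := (h1 x hx).resolve_left hn
  have h2 : ∀ b ∈ S.Q, S.l * b * S.l⁻¹ ∈ S.Q → S.QV b := fun b hb hb' => by
    have c := cm x hx b hb
    have : S.QV (S.l * b * S.l⁻¹) := S.qv_of hg e hb' (by
      generalize S.l * b * S.l⁻¹ = B at *
      generalize S.l * x * S.l⁻¹ = X at *
      have c' := S.es.conj_cases hb' hq
      have gz := S.Wy g hg 1
      rw [show X * B * X⁻¹ = g * (g⁻¹ * X * B * (g⁻¹ * X)⁻¹) * g⁻¹ by group] at c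
      rcases c' with e | e <;> rw [e] at c
      · exact c
      · rw [show g * (B * S.y 1) * g⁻¹ = g * B * g⁻¹ * (g * S.y 1 * g⁻¹) by group, gz.eq,
          mul_inv_cancel_right] at c
        refine c.symm.imp mul_right_cancel fun c => ?_
        exact eq_mul_of_mul_inv_eq (by rw [inv_eq_of_mul_eq_one_right (S.toAS.y_sq 1)]; exact c))
    simpa [mul_assoc] using inv_ind (fun _ => S.QV_l) this
  obtain ⟨y, y1, -, y3⟩ := exists_re_sb
  obtain ⟨p, hp, rfl⟩ := S.cl_surj y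
  have pQ := S.mem_of_re hp y1
  have a1 := (h1 p pQ).resolve_left fun h => by
    have := (h2 p pQ h).2.2; rw [y3] at this; exact one_ne_zero this
  have a2 := (h1 _ S.j_mem).resolve_left fun h => S.j_not (h2 _ S.j_mem h).1
  have := h2 _ (mul_mem (inv_mem S.j_mem) pQ) (by convert mul_mem (inv_mem a2) a1 using 1; group)
  exact S.j_not (by simpa using inv_mem (mul_mem this.1 (inv_mem hp)))

theorem W_N {g : G} (hg : g ∈ S.W) : g ∈ normalizer (S.Q : Set G) := S.N1_le (S.toAS.W_le hg)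

theorem tr_W {s : G} (hs : s ∈ S.W) (hr : Re (S.cl s)) (hq : qf (S.cl s) = 0) (h0 : S.cl s ≠ 0) :
    ∃ g ∈ normalizer (S.Q : Set G), g * S.y w * g⁻¹ = s := by
  obtain ⟨σ, hσ, e⟩ := hr.sing hq h0
  obtain ⟨n, hn, -, rfl⟩ := S.π_surj σ hσ
  have m := (S.lV _ ⟨S.yW w, 0, by rw [S.cl_y, zero_smul]⟩).1
  have m' := S.N1W hn m
  obtain ⟨t, ht⟩ := S.toAS.eq_of_cl hs m' (by rw [S.act n hn _ m, S.ly, e])
  obtain ⟨y, hy⟩ := bf_surj h0 t
  obtain ⟨a, ha, rfl⟩ := S.cl_surj y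
  refine ⟨a * n * S.l, mul_mem (mul_mem (S.W_N ha) (S.N1_le hn)) S.l_mem, ?_⟩
  rw [show a * n * S.l * S.y w * (a * n * S.l)⁻¹ = a * (n * (S.l * S.y w * S.l⁻¹) * n⁻¹) * a⁻¹ by group,
    S.toAS.conj_W ha m', S.act n hn _ m, S.ly, e, bf_comm, hy, ← ht]

theorem tr_out {s s' : G} (hs : s ∈ S.Q) (hs' : s' ∈ S.Q) (h : s ∉ S.W) (h' : s' ∉ S.W) (h2 : s * s = 1)
    (h2' : s' * s' = 1) : ∃ g ∈ S.W, g * s * g⁻¹ = s' := by
  obtain ⟨a1, a2⟩ := ((S.mem_Q s).1 hs).resolve_left fun e => h e.1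
  obtain ⟨b1, b2⟩ := ((S.mem_Q s').1 hs').resolve_left fun e => h' e.1
  obtain ⟨p, rfl⟩ : ∃ p, s = S.j * p := ⟨S.j⁻¹ * s, by group⟩
  obtain ⟨p', rfl⟩ : ∃ p, s' = S.j * p := ⟨S.j⁻¹ * s', by group⟩
  rw [inv_mul_cancel_left] at a1 a2 b1 b2
  obtain ⟨x, hx⟩ := (a2.add b2).exists_kap
  obtain ⟨a, ha, rfl⟩ := S.cl_surj x
  have ja := S.jW ha
  have m := mul_mem (mul_mem ha a1) (inv_mem ja)
  obtain ⟨t, ht⟩ := S.toAS.eq_of_cl m b1 (by
    rw [S.cl_mul _ (mul_mem ha a1) _ (inv_mem ja), S.cl_mul _ ha _ a1, S.toAS.cl_inv ja, S.jcl _ ha]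
    linear_combination hx + V_add_self (S.cl p))
  have e : S.j * a * S.j⁻¹ * (S.j * p) * (S.j * a * S.j⁻¹)⁻¹ = S.j * p' * S.y t := by
    rw [mul_assoc S.j p', ← ht]; group
  have yj : ∀ t, S.y t * S.j = S.j * S.y (t ^ 2) := fun t => by
    have := S.jy (t ^ 2)
    rw [(by decide : ∀ t : F4, (t ^ 2) ^ 2 = t) t] at this
    rw [← this]; group
  have e2 : S.j * p' * S.y t * (S.j * p' * S.y t) = 1 := by
    rw [← e, conj_mul, h2]; simp
  rw [show S.j * p' * S.y t * (S.j * p' * S.y t) = S.j * p' * (S.y t * S.j) * p' * S.y t by group, yj,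
    show S.j * p' * (S.j * S.y (t ^ 2)) * p' * S.y t = S.j * p' * S.j * (S.y (t ^ 2) * p') * S.y t by group,
    ← (S.Wy p' b1 _).eq, show S.j * p' * S.j * (p' * S.y (t ^ 2)) * S.y t =
      S.j * p' * (S.j * p') * (S.y (t ^ 2) * S.y t) by group, h2', one_mul, ← S.y_add] at e2
  rcases (by decide : ∀ t : F4, t ^ 2 + t = 0 → t = 0 ∨ t = 1) t (S.y_ne _ e2) with rfl | rfl
  · exact ⟨_, ja, by rw [e, S.toAS.y_zero, mul_one]⟩
  · refine ⟨S.y w * (S.j * a * S.j⁻¹), mul_mem (S.yW w) ja, ?_⟩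
    rw [show S.y w * (S.j * a * S.j⁻¹) * (S.j * p) * (S.y w * (S.j * a * S.j⁻¹))⁻¹ =
      S.y w * (S.j * a * S.j⁻¹ * (S.j * p) * (S.j * a * S.j⁻¹)⁻¹) * (S.y w)⁻¹ by group, e,
      inv_eq_of_mul_eq_one_right (S.toAS.y_sq w), ← mul_assoc, ← mul_assoc, yj, mul_assoc S.j,
      ← (S.Wy p' b1 _).eq, mul_assoc, mul_assoc, mul_assoc, ← S.y_add, ← S.y_add,
      show w ^ 2 + (1 + w) = 0 by decide, S.toAS.y_zero, mul_one]

theorem tr {s : G} (hs : s ∈ S.Q) (h2 : s * s = 1) (h1 : s ≠ 1) (hz : s ≠ S.y 1) :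
    ∃ g ∈ normalizer (S.Q : Set G), g * S.y w * g⁻¹ = s := by
  by_cases hW : s ∈ S.W
  · by_cases h0 : S.cl s = 0
    · obtain ⟨t, rfl⟩ := S.cl_zero s hW h0
      cases t
      exacts [absurd S.toAS.y_zero h1, absurd rfl hz, ⟨1, one_mem _, by simp⟩,
        ⟨S.j, le_normalizer S.j_mem, S.jy w⟩]
    · exact S.tr_W hW (S.re_of_mem hW hs) (S.y_ne _ ((S.sq s hW).symm.trans h2)) h0
  by_contra hn
  have yQ := (S.QV_y w).Q
  have key : ∀ g ∈ normalizer (S.Q : Set G), g * S.y w * g⁻¹ ∈ S.W := fun g hg => by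
    by_contra h
    obtain ⟨a, ha, e⟩ := S.tr_out ((mem_normalizer_iff.1 hg _).1 yQ) hs h hW
      (by rw [conj_mul, S.toAS.y_sq]; simp) h2
    exact hn ⟨a * g, mul_mem (S.W_N ha) hg, by rw [← e]; group⟩
  obtain ⟨y, y1, y2, y3⟩ := exists_re_sb
  obtain ⟨p, hp, rfl⟩ := S.cl_surj y
  obtain ⟨g, hg, e⟩ := S.tr_W hp y1 y2 fun e => by rw [e] at y3; simp [bf] at y3
  have c := (S.Wy _ (key _ (mul_mem (inv_mem S.l_mem) hg)) w).map (MulAut.conj S.l).toMonoidHom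
  simp only [MulEquiv.toMonoidHom_eq_coe, MonoidHom.coe_coe, MulAut.conj_apply] at c
  rw [show S.l * (S.l⁻¹ * g * S.y w * (S.l⁻¹ * g)⁻¹) * S.l⁻¹ = g * S.y w * g⁻¹ by group, e] at c
  have m := (S.lV _ ⟨S.yW w, 0, by rw [S.cl_y, zero_smul]⟩).1
  have := S.toAS.conj_W hp m
  rw [c.eq, mul_inv_cancel_right, left_eq_mul, S.ly, y3] at this
  exact one_ne_zero (S.y_ne _ this)

theorem exists_plus : ∃ E ≤ S.Q, (∀ a ∈ E, a * a = 1) ∧ Nat.card E = 32 := by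
  obtain ⟨U, hU, h⟩ := exists_ts
  let E : Subgroup G :=
    { carrier := {g | g ∈ S.W ∧ S.cl g ∈ U}
      one_mem' := ⟨one_mem _, by rw [S.toAS.cl_one]; exact zero_mem _⟩
      mul_mem' := fun a b => ⟨mul_mem a.1 b.1, by rw [S.cl_mul _ a.1 _ b.1]; exact add_mem a.2 b.2⟩
      inv_mem' := fun a => ⟨inv_mem a.1, by rw [S.toAS.cl_inv a.1]; exact a.2⟩ }
  refine ⟨E, fun g hg => S.mem_of_re hg.1 (h _ hg.2).1,
    fun a ha => by rw [S.sq a ha.1, (h _ ha.2).2, S.toAS.y_zero], ?_⟩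
  choose f f1 f2 using S.cl_surj
  have hc : ∀ x t, S.cl (f x * S.y t) = x := fun x t => by
    rw [S.cl_mul _ (f1 x) _ (S.yW t), f2, S.cl_y, add_zero]
  rw [← Nat.card_congr (Equiv.ofBijective (fun p : U × F4 =>
    (⟨f p.1 * S.y p.2, mul_mem (f1 _) (S.yW _), by rw [hc]; exact p.1.2⟩ : E)) ⟨fun p q e => ?_, fun g => ?_⟩),
    Nat.card_prod, hU]
  · simp [card_eq]
  · have e' : f p.1 * S.y p.2 = f q.1 * S.y q.2 := congrArg Subtype.val e
    have : (p.1 : V) = q.1 := by rw [← hc p.1 p.2, e', hc]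
    rw [this, mul_left_cancel_iff] at e'
    exact Prod.ext (Subtype.ext this) (S.toAS.y_inj e')
  · obtain ⟨t, e⟩ := S.toAS.eq_of_cl g.2.1 (f1 (S.cl g)) (f2 _).symm
    exact ⟨(⟨_, g.2.2⟩, t), Subtype.ext e.symm⟩

theorem exists_xs (S : AQ G) : Nonempty (XS G) := by
  obtain ⟨r, hr, e⟩ := S.cl_surj rb
  have nY : ∀ g, Commute g (S.y 1) → (g * S.y w * g⁻¹ = S.y w ∨ g * S.y w * g⁻¹ = S.y w * S.y 1) →
      g ∈ normalizer (S.Q : Set G) := fun g h h' => (S.D_cases h h').elim (fun h => S.N1_le h) fun h => by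
    simpa using mul_mem (S.N1_le h) (le_normalizer S.j_mem)
  refine ⟨⟨S.y 1, S.y w, r, S.Q, S.O, S.es, (S.QV_y w).Q, S.toAS.y_sq w,
    fun h => absurd (S.y_ne _ h) (by decide), fun h => absurd (S.toAS.y_inj h) (by decide), S.zy, S.card_Q,
    S.exists_plus, S.Oodd, S.OQ, fun s a b c d => S.tr a b c d, nY, fun g hg h => ?_, ?_, S.W_N hr,
    fun o ho => (S.OW ho r hr).symm, by rw [S.sq r hr, e]; exact S.toAS.y_zero,
    fun h => not_re_rb (e ▸ S.re_of_mem hr h)⟩⟩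
  · exact S.QC (S.D_cases (LX.LX.comm_of_mem_normalizer S.es hg) (h _ (S.QV_y w).Q))
      fun p hp hr => h p (S.mem_of_re hp hr)
  · rw [← S.toAS.card_N1]
    congr 2
    refine le_antisymm (fun g hg => ?_) fun g hg => ?_
    · have h1 : Commute g (S.y 1) := (hg _ (Or.inl rfl)).symm
      have h2 : Commute g (S.y w) := (hg _ (Or.inr rfl)).symm
      have h : g ∈ centralizer (Set.range S.y) := S.toAS.mem_C2.2 fun t => by
        cases t
        · exact S.toAS.y_zero ▸ Commute.one_right g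
        · exact h1
        · exact h2
        · exact S.y_add 1 w ▸ h1.mul_right h2
      exact ⟨S.nY (centralizer_le_normalizer _ h), h⟩
    · rintro _ (rfl | rfl) <;> exact hg.2 _ ⟨_, rfl⟩

end AQ
end CL.Co1S
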