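import Cfsg.Agent.INV.CO1.Bas2
import Cfsg.Agent.SOLV.Basic

/-! basic API of `AS`, hulls, and `𝒞 ∩ N(W) ⊆ W`. `C₂ = C(Y)`, `N₁ = N(W) ∩ C₂`,
`𝒞` = the `C₂`-conjugates of the elements of `W` with class `rb`. -/

set_option autoImplicit false
open Subgroup CL.MSS

namespace CL.Co1S
open F4

theorem a5_four {K : Subgroup S8} (h : ∀ σ ∈ K, A5 σ ∧ σ * σ = 1) : Nat.card K ≤ 4 := by
  rcases K.bot_or_exists_ne_one with rfl | ⟨σ, hσ, h1⟩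
  · simp
  obtain ⟨τ, hτ, e⟩ := A5.std (h σ hσ).1 h1 (h σ hσ).2
  have i := fun ρ hρ => inv_eq_of_mul_eq_one_right (h ρ hρ).2
  choose f hf using fun ρ : K => ((hτ.mul (h ρ ρ.2).1).mul hτ.inv).cen (by
    rw [← e, conj_mul, conj_mul, ← i _ (mul_mem hσ ρ.2), mul_inv_rev, i _ hσ, i _ ρ.2])
  exact (Nat.card_le_card_of_injective f fun a b k => Subtype.ext
    (mul_left_cancel (mul_right_cancel ((hf a).trans (k ▸ (hf b).symm))))).trans (by rw [Nat.card_eq_fintype_card]; decide)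

namespace AS
variable {G : Type*} [Group G] (S : AS G)

/-- `C(Y)` -/
abbrev C2 : Subgroup G := centralizer (Set.range S.y)
/-- the class `𝒞` -/
def CC (t : G) : Prop := ∃ g ∈ S.C2, ∃ r ∈ S.W, S.cl r = rb ∧ t = g * r * g⁻¹

theorem y_zero : S.y 0 = 1 := by simpa using S.y_add 0 0
theorem y_sq (t : F4) : S.y t * S.y t = 1 := by rw [← S.y_add, f4_add_self, S.y_zero]
theorem y_inj {s t : F4} (h : S.y s = S.y t) : s = t := by
  have := S.y_ne (s + t) (by rw [S.y_add, h, S.y_sq])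
  rw [← add_zero s, ← this, ← add_assoc, f4_add_self, zero_add]
theorem mem_C2 {g : G} : g ∈ S.C2 ↔ ∀ t, Commute g (S.y t) :=
  ⟨fun h t => (h _ ⟨t, rfl⟩).symm, fun h _ ⟨t, e⟩ => e ▸ (h t).symm⟩
theorem cl_one : S.cl 1 = 0 := S.y_zero ▸ S.cl_y 0
theorem cl_inv {g : G} (hg : g ∈ S.W) : S.cl g⁻¹ = S.cl g := by
  have := S.cl_mul _ (inv_mem hg) _ hg
  rw [inv_mul_cancel, S.cl_one] at this
  rw [eq_neg_of_add_eq_zero_left this.symm, neg_eq_of_add_eq_zero_right (V_add_self _)]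
theorem eq_of_cl {g g' : G} (hg : g ∈ S.W) (hg' : g' ∈ S.W) (h : S.cl g = S.cl g') :
    ∃ t, g = g' * S.y t :=
  (S.cl_zero _ (mul_mem (inv_mem hg') hg) (by
    rw [S.cl_mul _ (inv_mem hg') _ hg, S.cl_inv hg', h, V_add_self])).imp fun _ => inv_mul_eq_iff_eq_mul.1
theorem conj_W {g g' : G} (hg : g ∈ S.W) (hg' : g' ∈ S.W) :
    g * g' * g⁻¹ = g' * S.y (bf (S.cl g) (S.cl g')) := by
  rw [S.cm g hg g' hg', mul_assoc g', mul_assoc g', (S.Wy g hg _).mul_inv_cancel]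
theorem pow4 {g : G} (hg : g ∈ S.W) : g ^ 4 = 1 := by
  rw [show 4 = 2 * 2 from rfl, pow_mul, pow_two, pow_two, S.sq g hg, S.y_sq]
theorem pW : IsPGroup 2 S.W := fun x => ⟨2, Subtype.ext (S.pow4 x.2)⟩
theorem card_pre (p : V → Prop) :
    Nat.card {x // x ∈ S.W ∧ p (S.cl x)} = Nat.card {x // p x} * 4 := by
  choose s s1 s2 using S.cl_surj
  have c : ∀ x t, S.cl (s x * S.y t) = x := fun x t => by rw [S.cl_mul _ (s1 x) _ (S.yW t), S.cl_y, add_zero, s2]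
  rw [show 4 = Nat.card F4 by rw [Nat.card_eq_fintype_card]; decide, ← Nat.card_prod]
  refine (Nat.card_eq_of_bijective (fun a : {x // p x} × F4 => ⟨s a.1 * S.y a.2, mul_mem (s1 _) (S.yW _),
    by rw [c]; exact a.1.2⟩) ⟨fun a b e => ?_, fun x => ?_⟩).symm
  · have e := congrArg Subtype.val e
    have k : a.1 = b.1 := Subtype.ext ((c _ _).symm.trans ((congrArg S.cl e).trans (c _ _)))
    exact Prod.ext k (S.y_inj (by simpa [k] using e))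
  · obtain ⟨t, e⟩ := S.eq_of_cl x.2.1 (s1 _) (s2 _).symm
    exact ⟨(⟨_, x.2.2⟩, t), Subtype.ext e.symm⟩
theorem card_W : Nat.card S.W = 2 ^ 14 := by
  have := S.card_pre fun _ => True
  rw [Nat.card_congr (Equiv.subtypeUnivEquiv fun _ : V => trivial), card_V] at this
  simp only [and_true] at this
  exact this
theorem W_le : S.W ≤ S.N1 := fun g hg => ⟨le_normalizer hg, S.mem_C2.2 (S.Wy g hg)⟩
theorem O_le : S.O ≤ S.N1 := fun _ ho => ⟨centralizer_le_normalizer _ (S.OW ho), fun _ ⟨t, e⟩ => e ▸ S.OW ho _ (S.yW t)⟩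
theorem π_one : S.π 1 = 1 := by simpa using S.π_mul 1 (one_mem _) 1 (one_mem _)
theorem π_inv {n : G} (h : n ∈ S.N1) : S.π n⁻¹ = (S.π n)⁻¹ :=
  eq_inv_of_mul_eq_one_left (by rw [← S.π_mul _ (inv_mem h) _ h, inv_mul_cancel, S.π_one])
theorem π_pow {n : G} (h : n ∈ S.N1) (k : ℕ) : S.π (n ^ k) = S.π n ^ k := by
  induction k with
  | zero => simpa using S.π_one
  | succ k ih => rw [pow_succ, S.π_mul _ (pow_mem h k) _ h, ih, pow_succ]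
/-- `π` is determined by the action -/
theorem π_eq {n : G} (h : n ∈ S.N1) {σ : S8} (e : ∀ g ∈ S.W, S.cl (n * g * n⁻¹) = P σ (S.cl g)) :
    S.π n = σ := P_faith fun x => by
  obtain ⟨g, hg, rfl⟩ := S.cl_surj x
  rw [← S.act n h g hg, e g hg]
theorem π_W {g : G} (h : g ∈ S.W) : S.π g = 1 := S.π_eq (S.W_le h) fun x hx => by
  rw [S.conj_W h hx, S.cl_mul _ hx _ (S.yW _), S.cl_y, add_zero, P_one]
theorem π_O {g : G} (h : g ∈ S.O) : S.π g = 1 := S.π_eq (S.O_le h) fun x hx => by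
  rw [← S.OW h x hx, mul_inv_cancel_right, P_one]
/-- `π` as a homomorphism -/
def πh : S.N1 →* S8 := MonoidHom.mk' (fun n => S.π n) fun a b => S.π_mul a a.2 b b.2
/-- a 2-element in the kernel `W × O` lies in `W` -/
theorem mem_W {n : G} (h : n ∈ S.N1) (e : S.π n = 1) {k : ℕ} (h2 : n ^ 2 ^ k = 1) : n ∈ S.W := by
  obtain ⟨q, hq, d, hd, rfl⟩ := S.ker n h e
  have : (q * d) ^ (4 * 2 ^ k) = 1 := by rw [mul_comm 4, pow_mul, h2, one_pow]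
  rw [Commute.mul_pow (S.OW hd q hq), pow_mul, S.pow4 hq, one_pow, one_mul,
    show 4 * 2 ^ k = 2 ^ (k + 2) by ring] at this
  rwa [orderOf_eq_one_iff.1 (Nat.eq_one_of_dvd_coprimes ((Nat.coprime_two_left.2 S.Oodd).pow_left _)
    (orderOf_dvd_of_pow_eq_one this) (orderOf_dvd_natCard _ hd)), mul_one]
/-- `N₁ = C_{N₁}(O) O` normalises `O` -/
theorem N1_O : S.N1 ≤ normalizer (S.O : Set G) := fun n hn => by
  obtain ⟨m, hm, mO, e⟩ := S.π_surj _ (S.π_mem n)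
  obtain ⟨q, hq, d, hd, k⟩ := S.ker _ (mul_mem (inv_mem hm) hn) (by
    rw [S.π_mul _ (inv_mem hm) _ hn, S.π_inv hm, e, inv_mul_cancel])
  rw [inv_mul_eq_iff_eq_mul.1 k]
  exact mul_mem (centralizer_le_normalizer _ mO) (mul_mem
    (centralizer_le_normalizer _ fun x hx => (S.OW hx q hq).symm) (le_normalizer hd))
theorem card_N1 [Finite G] : Nat.card S.N1 = 2 ^ 14 * 20160 * Nat.card S.O := by
  have ON : S.O ≤ normalizer (S.W : Set G) := fun _ h => (S.O_le h).1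
  rw [← S.πh.ker.card_mul_index, index_ker, show S.πh.range = A8 from le_antisymm
    (by rintro _ ⟨x, rfl⟩; exact S.π_mem _) fun σ h => let ⟨n, hn, _, e⟩ := S.π_surj σ h; ⟨⟨n, hn⟩, e⟩, card_A8,
    show S.πh.ker = (S.O ⊔ S.W).subgroupOf _ from Subgroup.ext fun g => ⟨fun h =>
      let ⟨q, hq, d, hd, e⟩ := S.ker _ g.2 h
      mem_subgroupOf.2 (e ▸ mul_mem (mem_sup_right hq) (mem_sup_left hd)), fun h => by
        obtain ⟨d, hd, q, hq, h⟩ := (mem_sup_of_le_normalizer ON).1 h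
        exact (congrArg S.π h.symm).trans (by rw [S.π_mul _ (S.O_le hd) _ (S.W_le hq), S.π_O hd, S.π_W hq, mul_one])⟩,
    Nat.card_congr (subgroupOfEquivOfLe (sup_le S.O_le S.W_le)).toEquiv, CL.card_sup_of_disjoint ON
      (eq_bot_iff.2 fun d hd => orderOf_eq_one_iff.1 (Nat.eq_one_of_dvd_coprimes
        ((Nat.coprime_two_left.2 S.Oodd).pow_left 2) (orderOf_dvd_of_pow_eq_one (S.pow4 hd.2))
        (orderOf_dvd_natCard _ hd.1))), S.card_W]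
  ring
theorem CC.conj {t g : G} (h : S.CC t) (hg : g ∈ S.C2) : S.CC (g * t * g⁻¹) :=
  let ⟨k, hk, r, hr, e, e'⟩ := h; ⟨g * k, mul_mem hg hk, r, hr, e, by rw [e']; group⟩
theorem CC.sq {t : G} (h : S.CC t) : t * t = 1 := by
  obtain ⟨k, -, r, hr, e, rfl⟩ := h
  rw [conj_mul, S.sq r hr, e, show qf rb = 0 by decide, S.y_zero, mul_one, mul_inv_cancel]
theorem exists_n {t : G} (ht : t ∈ S.W) (h : T3 (S.cl t)) :
    ∃ n ∈ S.N1, ∃ r ∈ S.W, S.cl r = rb ∧ t = n * r * n⁻¹ := by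
  obtain ⟨σ, hσ, e⟩ := h
  obtain ⟨n, hn, -, rfl⟩ := S.π_surj σ hσ
  exact ⟨n, hn, n⁻¹ * t * n⁻¹⁻¹, (mem_normalizer_iff.1 (inv_mem hn).1 t).1 ht,
    by rw [S.act _ (inv_mem hn) _ ht, S.π_inv hn, ← e, P_inv_P], by group⟩
theorem cc_of_T3 {t : G} (ht : t ∈ S.W) (h : T3 (S.cl t)) : S.CC t :=
  let ⟨n, hn, k⟩ := S.exists_n ht h; ⟨n, hn.2, k⟩
theorem cen_T3 {g t : G} (hg : g ∈ S.C2) (ht : t ∈ S.W) (h : T3 (S.cl t))
    (e : ∃ a, g * t * g⁻¹ = t * S.y a) : g ∈ S.N1 := by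
  obtain ⟨n, hn, r, hr, er, rfl⟩ := S.exists_n ht h
  obtain ⟨a, e⟩ := e
  have c : n⁻¹ * g * n ∈ S.C2 := mul_mem (mul_mem (S.C2.inv_mem hn.2) hg) hn.2
  have : n⁻¹ * g * n ∈ S.N1 := ⟨S.cen _ c r hr er ⟨a, by
    calc _ = n⁻¹ * (g * (n * r * n⁻¹) * g⁻¹) * n := by group
      _ = r * (n⁻¹ * (S.y a * n)) := by rw [e]; group
      _ = _ := by rw [← (S.mem_C2.1 hn.2 _).eq, inv_mul_cancel_left]⟩, c⟩
  simpa [mul_assoc] using mul_mem (mul_mem hn this) (inv_mem hn)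

theorem cenA {x r : G} (hx : x ∈ S.C2) (hr : r ∈ S.W) (e : S.cl r = rb) (k : ∃ t, x * r * x⁻¹ = r * S.y t) :
    x ∈ S.N1 ∧ A5 (S.π x) := by
  have m : x ∈ S.N1 := ⟨S.cen x hx r hr e k, hx⟩
  obtain ⟨t, k⟩ := k
  exact ⟨m, a5_of_rb (S.π_mem x) (by
    rw [← e, ← S.act _ m _ hr, k, S.cl_mul _ hr _ (S.yW t), S.cl_y, add_zero])⟩

theorem conj_W' {g a b : G} (hg : g ∈ S.C2) (ha : g * a * g⁻¹ ∈ S.W) (hb : g * b * g⁻¹ ∈ S.W) :
    ∃ t, a * b * a⁻¹ = b * S.y t := by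
  refine ⟨bf (S.cl (g * a * g⁻¹)) (S.cl (g * b * g⁻¹)), ?_⟩
  calc _ = g⁻¹ * (g * a * g⁻¹ * (g * b * g⁻¹) * (g * a * g⁻¹)⁻¹) * g := by group
    _ = b * (g⁻¹ * (S.y (bf (S.cl (g * a * g⁻¹)) (S.cl (g * b * g⁻¹))) * g)) := by rw [S.conj_W ha hb]; group
    _ = _ := by rw [← (S.mem_C2.1 hg _).eq, inv_mul_cancel_left]

/-- the elements of `W` with class fixed by `K` -/
def Fx (K : Set S8) : Subgroup G where
  carrier := {x | x ∈ S.W ∧ ∀ σ ∈ K, P σ (S.cl x) = S.cl x}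
  mul_mem' := fun {x y} hx hy => ⟨mul_mem hx.1 hy.1, fun σ h => by
    rw [S.cl_mul _ hx.1 _ hy.1, P_add, hx.2 σ h, hy.2 σ h]⟩
  one_mem' := ⟨one_mem _, fun σ _ => by rw [S.cl_one, P_zero]⟩
  inv_mem' := fun {x} hx => ⟨inv_mem hx.1, fun σ h => by rw [S.cl_inv hx.1, hx.2 σ h]⟩

theorem card_Fx {σ : S8} (h : σ ∈ A8) (h1 : σ ≠ 1) (h2 : σ * σ = 1) : Nat.card (S.Fx {σ}) = 1024 :=
  (S.card_pre fun x => ∀ τ ∈ ({σ} : Set S8), P τ x = x).trans (by simp only [Set.mem_singleton_iff, forall_eq, card_fix h h1 h2])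

variable [Finite G]

theorem dec {g : G} {D : Subgroup G} (hg : g ∈ S.C2) (hD : D ≤ S.N1) (hW : ∀ x ∈ D, g * x * g⁻¹ ∈ S.W) :
    ∃ K : Subgroup S8, (∀ σ ∈ K, σ * σ = 1 ∧ ∃ x ∈ D, S.π x = σ) ∧
      Nat.card (D ⊓ S.W : Subgroup G) * Nat.card K = Nat.card D ∧ (K = ⊥ ∧ D ≤ S.W ∨
        Nat.card K = 2 ∧ Nat.card (S.Fx K) ≤ 1024 ∨ Nat.card (S.Fx K) ≤ 256) ∧
      ∀ x ∈ S.W, g * x * g⁻¹ ∈ S.W → x ∈ S.Fx K := by
  let φ := S.πh.comp (inclusion hD)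
  have sq : ∀ x ∈ D, ∃ t, x * x = S.y t := fun x hx => ⟨qf (S.cl (g * x * g⁻¹)), by
    have := S.sq _ (hW x hx)
    rwa [conj_mul, ← (S.mem_C2.1 hg _).mul_inv_cancel, mul_left_inj, mul_right_inj] at this⟩
  have ke : ∀ x ∈ D, S.π x = 1 → x ∈ S.W := fun x hx e => S.mem_W (hD hx) e (k := 2) (by
    obtain ⟨t, k⟩ := sq x hx
    rw [show 2 ^ 2 = 2 * 2 from rfl, pow_mul, pow_two, pow_two, k, S.y_sq])
  have s2 : ∀ σ ∈ φ.range, σ ∈ A8 ∧ σ * σ = 1 := by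
    rintro _ ⟨x, rfl⟩
    obtain ⟨t, k⟩ := sq x x.2
    exact ⟨S.π_mem _, (S.π_mul _ (hD x.2) _ (hD x.2)).symm.trans (k ▸ S.π_W (S.yW t))⟩
  refine ⟨φ.range, fun σ h => ⟨(s2 σ h).2, let ⟨x, e⟩ := h; ⟨x, x.2, e⟩⟩, ?_, ?_, ?_⟩
  · rw [← index_ker, ← φ.ker.card_mul_index, show φ.ker = (D ⊓ S.W).subgroupOf D from
      Subgroup.ext fun x => ⟨fun e => ⟨x.2, ke x x.2 e⟩, fun e => S.π_W e.2⟩,
      Nat.card_congr (subgroupOfEquivOfLe inf_le_left).toEquiv]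
  · rcases φ.range.bot_or_exists_ne_one with e | ⟨σ, hσ, h1⟩
    · exact .inl ⟨e, fun x hx => ke x hx (e.le ⟨⟨x, hx⟩, rfl⟩)⟩
    by_cases k : ∃ τ ∈ φ.range, τ ≠ 1 ∧ σ ≠ τ
    · obtain ⟨τ, hτ, t1, n⟩ := k
      have i := fun ρ hρ => inv_eq_of_mul_eq_one_right (s2 ρ hρ).2
      have := card_fix2 (s2 σ hσ).1 (s2 τ hτ).1 h1 t1 n (s2 σ hσ).2 (s2 τ hτ).2
        (show _ = _ by rw [← i _ (mul_mem hσ hτ), mul_inv_rev, i _ hσ, i _ hτ])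
      refine .inr (.inr ((card_le_of_le (H := S.Fx φ.range) (K := S.Fx {σ, τ}) fun x hx => ⟨hx.1, ?_⟩).trans ?_))
      · rintro _ (rfl | rfl); exacts [hx.2 _ hσ, hx.2 _ hτ]
      · refine (S.card_pre fun x => ∀ ρ ∈ ({σ, τ} : Set S8), P ρ x = x).trans_le ?_
        simp only [Set.mem_insert_iff, Set.mem_singleton_iff, forall_eq_or_imp, forall_eq]
        omega
    · refine .inr (.inl ⟨(Nat.card_eq_two_iff' 1).2 ⟨⟨σ, hσ⟩, fun e => h1 (congrArg Subtype.val e), fun τ t1 =>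
        Subtype.ext (by_contra fun n => k ⟨τ, τ.2, fun e => t1 (Subtype.ext e), Ne.symm n⟩)⟩, ?_⟩)
      rw [← S.card_Fx (s2 σ hσ).1 h1 (s2 σ hσ).2]
      exact card_le_of_le (H := S.Fx φ.range) fun x hx => ⟨hx.1, fun _ e => e ▸ hx.2 _ hσ⟩
  · rintro x hx hx'
    refine ⟨hx, ?_⟩
    rintro _ ⟨d, rfl⟩
    obtain ⟨t, k⟩ := S.conj_W' hg (hW _ d.2) hx'
    exact (S.act _ (hD d.2) _ hx).symm.trans (by rw [k, S.cl_mul _ hx _ (S.yW t), S.cl_y, add_zero])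

/-- Hull lemma. -/
theorem hull {g r : G} (hg : g ∈ S.C2) (hr : r ∈ S.W) (e : S.cl r = rb) (h : g * r * g⁻¹ ∈ S.W) :
    g ∈ S.N1 := by
  have w : ∀ x ∈ g⁻¹ •ᶜ S.W, g * x * g⁻¹ ∈ S.W := fun x hx => by simpa using mem_cj.1 hx
  have a : ∀ x ∈ g⁻¹ •ᶜ S.W, x ∈ S.N1 ∧ A5 (S.π x) := fun x hx => S.cenA (by
    simpa [mul_assoc] using mul_mem (mul_mem (inv_mem hg) (show _ ∈ S.C2 from (S.W_le (w x hx)).2)) hg) hr e
    (S.conj_W' hg (w x hx) h)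
  obtain ⟨K, k1, k2, k3, k4⟩ := S.dec hg (fun x hx => (a x hx).1) w
  have c4 := a5_four (K := K) fun σ h => let ⟨s, x, hx, e⟩ := k1 σ h; ⟨e ▸ (a x hx).2, s⟩
  have c := card_le_of_le (show g⁻¹ •ᶜ S.W ⊓ S.W ≤ S.Fx K from fun x hx => k4 x hx.2 (w x hx.1))
  rw [card_cj, S.card_W] at k2
  rcases k3 with k3 | k3 | k3
  · exact ⟨by simpa using inv_mem (mem_normalizer_of_cj_le k3.2), hg⟩
  · nlinarith [k3.2]
  · nlinarith
theorem CC.t3 {t : G} (h : S.CC t) (ht : t ∈ S.W) : T3 (S.cl t) := by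
  obtain ⟨k, hk, r, hr, e, rfl⟩ := h
  exact ⟨_, S.π_mem k, by rw [S.act _ (S.hull hk hr e ht) _ hr, e]⟩
/-- if `W` and `g W g⁻¹` have a common element of `𝒞`, they are equal -/
theorem hull' {g t : G} (hg : g ∈ S.C2) (h : S.CC t) (ht : t ∈ S.W) (ht' : g⁻¹ * t * g ∈ S.W) :
    g ∈ S.N1 := by
  obtain ⟨k, hk, r, hr, e, rfl⟩ := h
  simpa using mul_mem (S.hull hk hr e ht) (inv_mem (S.hull (mul_mem (inv_mem hg) hk) hr e (by
    simpa [mul_assoc] using ht')))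
/-- `𝒞 ∩ N₁ ⊆ W` -/
theorem CC.mem {t : G} (h : S.CC t) (ht : t ∈ S.N1) : t ∈ S.W := by
  by_contra n
  have t2 := h.sq
  obtain ⟨g, hg, r, hr, e, rfl⟩ := h
  have gN : g⁻¹ ∉ S.N1 := fun k => n ((mem_normalizer_iff.1 (inv_mem_iff.1 k).1 r).1 hr)
  have s2 : S.π (g * r * g⁻¹) * S.π (g * r * g⁻¹) = 1 := by rw [← S.π_mul _ ht _ ht, t2, S.π_one]
  have cC := S.card_Fx (S.π_mem _) (fun k => n (S.mem_W ht k (k := 1) (by rw [pow_one, pow_two, t2]))) s2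
  set C := S.Fx {S.π (g * r * g⁻¹)}
  have c2 : ∀ x, g * x * g⁻¹ ∈ S.W → x ∈ S.C2 := fun x hx => by
    simpa [mul_assoc] using mul_mem (mul_mem (inv_mem hg) (show _ ∈ S.C2 from (S.W_le hx).2)) hg
  have w : ∀ x ∈ g⁻¹ •ᶜ C, g * x * g⁻¹ ∈ C := fun x hx => by simpa using mem_cj.1 hx
  have a : ∀ x ∈ g⁻¹ •ᶜ C, x ∈ S.N1 ∧ A5 (S.π x) := fun x hx => by
    have m := w x hx
    obtain ⟨s, k⟩ := S.eq_of_cl ((mem_normalizer_iff.1 ht.1 _).1 m.1) m.1 ((S.act _ ht _ m.1).trans (m.2 _ rfl))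
    refine S.cenA (c2 x m.1) hr e ⟨s, ?_⟩
    have k' : r * x * r⁻¹ = x * S.y s := by
      calc _ = g⁻¹ * (g * r * g⁻¹ * (g * x * g⁻¹) * (g * r * g⁻¹)⁻¹) * g := by group
        _ = x * (g⁻¹ * (S.y s * g)) := by rw [k]; group
        _ = _ := by rw [← (S.mem_C2.1 hg _).eq, inv_mul_cancel_left]
    calc _ = x * (S.y s * S.y s) * r * x⁻¹ := by rw [S.y_sq, mul_one]
      _ = x * S.y s * (S.y s * r) * x⁻¹ := by group
      _ = r * x * r⁻¹ * (r * S.y s) * x⁻¹ := by rw [← k', (S.Wy r hr s).eq]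
      _ = r * (x * S.y s * x⁻¹) := by group
      _ = _ := by rw [(S.mem_C2.1 (c2 x m.1) s).mul_inv_cancel]
  obtain ⟨K, k1, k2, k3, k4⟩ := S.dec hg (fun x hx => (a x hx).1) fun x hx => (w x hx).1
  have c4 := a5_four (K := K) fun σ h => let ⟨s, x, hx, e⟩ := k1 σ h; ⟨e ▸ (a x hx).2, s⟩
  have le : g⁻¹ •ᶜ C ⊓ S.W ≤ S.Fx K := fun x hx => k4 x hx.2 (w x hx.1).1
  rw [card_cj, cC] at k2
  rcases k3 with k3 | k3
  · have w' : ∀ x ∈ g⁻¹ •ᶜ S.W, g * x * g⁻¹ ∈ S.W := fun x hx => by simpa using mem_cj.1 hx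
    obtain ⟨L, -, l2, l3, l4⟩ := S.dec hg (D := g⁻¹ •ᶜ S.W) (fun x hx => S.hull (c2 x (w' x hx)) hr e (by
      have m := w' x hx
      have m' := (mem_normalizer_iff.1 ht.1 _).1 (inv_mem m)
      have := mul_mem (k3.2 (mem_cj.2 (show g⁻¹⁻¹ * (x * r * x⁻¹ * r⁻¹) * g⁻¹ ∈ C by
        rw [show g⁻¹⁻¹ * (x * r * x⁻¹ * r⁻¹) * g⁻¹ = g * x * g⁻¹ * (g * r * g⁻¹ * (g * x * g⁻¹)⁻¹ * (g * r * g⁻¹)⁻¹) by
          group]
        refine ⟨mul_mem m m', ?_⟩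
        rintro _ rfl
        rw [S.cl_mul _ m _ m', S.act _ ht _ (inv_mem m), S.cl_inv m, P_add, ← P_mul, s2, P_one, add_comm]))) hr
      rwa [inv_mul_cancel_right] at this)) w'
    have b1 := card_le_of_le (show g⁻¹ •ᶜ C ≤ S.Fx L from fun x hx => l4 x (k3.2 hx) (w x hx).1)
    have b2 := card_le_of_le (show g⁻¹ •ᶜ S.W ⊓ S.W ≤ S.Fx L from fun x hx => l4 x hx.2 (w' x hx.1))
    rw [card_cj, cC] at b1
    rw [card_cj, S.card_W] at l2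
    rcases l3 with l3 | l3 | l3
    · exact gN ⟨mem_normalizer_of_cj_le l3.2, S.C2.inv_mem hg⟩
    · rw [l3.1] at l2; omega
    · omega
  · have i := (((g⁻¹ •ᶜ C ⊓ S.W).subgroupOf (S.Fx K)).card_mul_index)
    rw [Nat.card_congr (subgroupOfEquivOfLe le).toEquiv] at i
    have r3 : ∀ c : F4, c ≠ 0 → T3 (c • rb) := fun c => T3.smul ⟨1, one_mem _, P_one _⟩
    have b : ∀ c : F4, c ≠ 0 → ∀ x ∈ S.W, S.cl x = c • rb → x ∈ S.Fx K ∧ x ∉ g⁻¹ •ᶜ C ⊓ S.W := fun c c0 x hx k =>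
      ⟨⟨hx, fun σ hσ => let ⟨_, y, hy, z⟩ := k1 σ hσ; by rw [k, P_smul, ← z, (a y hy).2.rb]⟩, fun m =>
        gN (S.hull' (inv_mem hg) (S.cc_of_T3 hx (k ▸ r3 c c0)) hx (by rw [inv_inv]; exact (w x m.1).1))⟩
    obtain ⟨s, hs, es⟩ := S.cl_surj (F4.w • rb)
    have b1 := b 1 one_ne_zero r hr (by rw [one_smul, e])
    have b2 := b F4.w (by decide) s hs es
    have b3 := b v (by decide) _ (mul_mem hr hs) (by rw [S.cl_mul _ hr _ hs, e, es]; decide)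
    have i0 := ((g⁻¹ •ᶜ C ⊓ S.W).subgroupOf (S.Fx K)).index_ne_zero_of_finite
    have i1 : ((g⁻¹ •ᶜ C ⊓ S.W).subgroupOf (S.Fx K)).index ≠ 1 := fun k =>
      b1.2 ((index_eq_one.1 k).ge (mem_top ⟨r, b1.1⟩))
    refine b3.2 ((mul_mem_iff_of_index_two (H := (g⁻¹ •ᶜ C ⊓ S.W).subgroupOf (S.Fx K)) ?_ (a := ⟨r, b1.1⟩)
      (b := ⟨s, b2.1⟩)).2 (iff_of_false b1.2 b2.2))
    by_contra i2
    have i3 := Nat.mul_le_mul_left (Nat.card (g⁻¹ •ᶜ C ⊓ S.W : Subgroup G))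
      (show 3 ≤ ((g⁻¹ •ᶜ C ⊓ S.W).subgroupOf (S.Fx K)).index by omega)
    rcases k3 with k3 | k3
    · rw [k3.1] at k2; omega
    · have := Nat.mul_le_mul_left (Nat.card (g⁻¹ •ᶜ C ⊓ S.W : Subgroup G)) c4
      omega

end AS
end CL.Co1S
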