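import Cfsg.Agent.INV.CO1.Mod
import Cfsg.Agent.TECH.Conj

/-! CO1/Bas1: coordinates on `Q_A`, the torus element `h`, and `J = Q_A L`.

Bruhat decomposition of `L`: every element is `xa s * ha ^ i` or `xa s * ha ^ i * na * xa t` (closure
induction; `ma t = xa t⁻¹ * (xa t⁻¹ * ma t * xa t⁻¹) * xa t⁻¹` and the bracket is `na`, `ha * na` or
`ha * ha * na` by `na_eq`, `ha_eq`, `ha_sq`, since `na * na = 1`). The corresponding permutations are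
`pa s`, `c3 0 1 2`, `db 0 1 3 4`; `pa s * c3 0 1 2 ^ i * db 0 1 3 4 * pa t ≠ 1` and `pa s * c3 0 1 2 ^ i = 1`
only for `s = 0`, `i = 0` (`decide`). -/

set_option autoImplicit false
open Subgroup

namespace CL.Co1S
open F4

theorem B1.pal {G : Type*} [Group G] {a b : G} (ha : a * a = 1) (hb : b * b = 1) : a * b * a * (a * b * a) = 1 := by
  rw [mul_assoc, mul_assoc a b a, ← mul_assoc a a, ha, one_mul, mul_assoc, ← mul_assoc b, hb, one_mul, ha]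
theorem B1.flip {G : Type*} [Group G] {n a b : G} (hn : n * n = 1) (h : n * a * n⁻¹ = b) : n * b * n⁻¹ = a := by
  rw [← h, ← mul_assoc, ← mul_assoc, hn, one_mul, mul_assoc, ← mul_inv_rev, hn, inv_one, mul_one]

section add
variable {G : Type*} [Group G] {f : F4 → G} (hf : ∀ s t, f (s + t) = f s * f t)
include hf
theorem ad_zero : f 0 = 1 := by simpa using hf 0 0
theorem ad_sq (t : F4) : f t * f t = 1 := by rw [← hf, f4_add_self, ad_zero hf]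
theorem ad_inv (t : F4) : (f t)⁻¹ = f t := inv_eq_of_mul_eq_one_right (ad_sq hf t)
theorem ad_comm (s t : F4) : Commute (f s) (f t) := by rw [Commute, SemiconjBy, ← hf, ← hf, add_comm]
theorem mem_rg {g : G} : g ∈ rg f hf ↔ ∃ t, g = f t := ⟨fun ⟨t, e⟩ => ⟨t, e.symm⟩, fun ⟨t, e⟩ => ⟨t, e.symm⟩⟩
theorem ad_inj (h : ∀ t, f t = 1 → t = 0) : Function.Injective f := fun s t e =>
  (by decide : ∀ s t : F4, s + t = 0 → s = t) s t (h _ (by rw [hf, e, ad_sq hf]))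
theorem card_rg (h : ∀ t, f t = 1 → t = 0) : Nat.card (rg f hf) = 4 :=
  (Nat.card_range_of_injective (ad_inj hf h)).trans (Nat.card_eq_fintype_card.trans card_eq)
end add

namespace Dat
variable {M : Type*} [Group M] (D : Dat M)

theorem y_eq_one {t : F4} (h : D.y t = 1) : t = 0 := by
  have k : ∀ t, D.y t = 1 → D.y (w * t) = 1 := fun t h => by rw [← D.hb_y, h, mul_one, mul_inv_cancel]
  cases t
  exacts [rfl, absurd h D.y_ne, absurd (k _ (k _ h)) D.y_ne, absurd (k _ h) D.y_ne]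
theorem y_inj {s t : F4} (h : D.y s = D.y t) : s = t := ad_inj D.y_add (fun _ => D.y_eq_one) h
theorem na_sq : D.na * D.na = 1 := D.na_eq ▸ B1.pal (ad_sq D.xa_add 1) (ad_sq D.ma_add 1)
theorem nb_sq : D.nb * D.nb = 1 := D.nb_eq ▸ B1.pal (ad_sq D.xb_add 1) (ad_sq D.mb_add 1)
theorem na_3 (t : F4) : D.na * D.x3 t * D.na⁻¹ = D.xb t := B1.flip D.na_sq (D.na_b t)
theorem na_2 (t : F4) : D.na * D.x2 t * D.na⁻¹ = D.x1 t := B1.flip D.na_sq (D.na_1 t)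
theorem na_ma (t : F4) : D.na * D.ma t * D.na⁻¹ = D.xa t := B1.flip D.na_sq (D.na_a t)
theorem nb_1 (t : F4) : D.nb * D.x1 t * D.nb⁻¹ = D.xa t := B1.flip D.nb_sq (D.nb_a t)
theorem nb_y (t : F4) : D.nb * D.y t * D.nb⁻¹ = D.x3 t := B1.flip D.nb_sq (D.nb_3 t)
theorem nb_mb (t : F4) : D.nb * D.mb t * D.nb⁻¹ = D.xb t := B1.flip D.nb_sq (D.nb_b t)
theorem qa_zero : D.qa 0 = 1 := by
  simp only [qa, Pi.zero_apply, ad_zero D.xb_add, ad_zero D.x1_add, ad_zero D.x2_add, ad_zero D.x3_add, mul_one]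
theorem qa_congr {x x' : V} (h2 : x 2 = x' 2) (h3 : x 3 = x' 3) (h4 : x 4 = x' 4) (h5 : x 5 = x' 5) :
    D.qa x = D.qa x' := by simp only [qa, h2, h3, h4, h5]
theorem qa_y (x : V) (t : F4) : Commute (D.qa x) (D.y t) :=
  ((((D.c_yb t _).mul_right (D.c_y1 t _)).mul_right (D.c_y2 t _)).mul_right (D.c_y3 t _)).symm
theorem qa_mul (x x' : V) :
    D.qa x * D.qa x' = D.qa (x + x') * D.y (x 5 * x' 2 + x 4 * x' 3) := by
  simp only [qa, Pi.add_apply, D.xb_add, D.x1_add, D.x2_add, D.x3_add, D.y_add]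
  calc _ = D.xb (x 2) * D.x1 (x 3) * D.x2 (x 4) * (D.x3 (x 5) * D.xb (x' 2)) * D.x1 (x' 3) * D.x2 (x' 4) *
        D.x3 (x' 5) := by simp only [mul_assoc]
    _ = D.xb (x 2) * D.xb (x' 2) * D.x1 (x 3) * (D.x2 (x 4) * D.x1 (x' 3)) * D.x2 (x' 4) * D.x3 (x 5) *
        D.x3 (x' 5) * D.y (x 5 * x' 2) := by
      simp only [D.r_3b, mul_assoc, (D.c_b1 _ _).symm.left_comm, (D.c_b2 _ _).symm.left_comm,
        (D.c_13 _ _).symm.left_comm, (D.c_23 _ _).symm.left_comm, (D.c_y1 _ _).left_comm, (D.c_y2 _ _).left_comm,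
        (D.c_y3 _ _).eq]
    _ = _ := by
      simp only [D.r_21, mul_assoc, (D.c_y2 _ _).left_comm, (D.c_y3 _ _).left_comm,
        (ad_comm D.y_add (x 4 * x' 3) (x 5 * x' 2)).eq]
theorem qa_comm (x x' : V) : D.qa x * D.qa x' =
    D.qa x' * D.qa x * D.y (x 2 * x' 5 + x 5 * x' 2 + x 3 * x' 4 + x 4 * x' 3) := by
  rw [D.qa_mul, D.qa_mul, add_comm x', mul_assoc, ← D.y_add]
  congr 2
  linear_combination -f4_add_self (x' 5 * x 2 + x' 4 * x 3)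
theorem qa_sq (x : V) : D.qa x * D.qa x = D.y (x 2 * x 5 + x 3 * x 4) := by
  rw [D.qa_mul, V_add_self, D.qa_zero, one_mul, mul_comm (x 2), mul_comm (x 3)]
/-- commutators with `qa` detect the coordinates -/
theorem qa_inj {x x' : V} {t t' : F4} (h : D.qa x * D.y t = D.qa x' * D.y t') :
    x 2 = x' 2 ∧ x 3 = x' 3 ∧ x 4 = x' 4 ∧ x 5 = x' 5 ∧ t = t' := by
  have k : ∀ z : V, x 2 * z 5 + x 5 * z 2 + x 3 * z 4 + x 4 * z 3 =
      x' 2 * z 5 + x' 5 * z 2 + x' 3 * z 4 + x' 4 * z 3 := fun z => D.y_inj (by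
    have e : ∀ (x : V) t, D.qa x * D.y t * D.qa z = D.qa z * (D.qa x * D.y t) *
        D.y (x 2 * z 5 + x 5 * z 2 + x 3 * z 4 + x 4 * z 3) := fun x t => by
      rw [mul_assoc, ← (D.qa_y z t).eq, ← mul_assoc, D.qa_comm, mul_assoc, (ad_comm D.y_add _ t).eq]
      simp only [mul_assoc]
    have := e x t
    rwa [h, e, mul_right_inj, eq_comm] at this)
  have h2 : x 2 = x' 2 := by simpa using k ![0, 0, 0, 0, 0, 1]
  have h3 : x 3 = x' 3 := by simpa using k ![0, 0, 0, 0, 1, 0]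
  have h4 : x 4 = x' 4 := by simpa using k ![0, 0, 0, 1, 0, 0]
  have h5 : x 5 = x' 5 := by simpa using k ![0, 0, 1, 0, 0, 0]
  exact ⟨h2, h3, h4, h5, D.y_inj (by rwa [D.qa_congr h2 h3 h4 h5, mul_right_inj] at h)⟩
theorem y_QA' (t : F4) : D.y t ∈ D.QA := subset_closure (.inr ⟨t, rfl⟩)
theorem qa_QA' (x : V) : D.qa x ∈ D.QA :=
  mul_mem (mul_mem (mul_mem (subset_closure (.inl (.inl (.inl (.inl ⟨_, rfl⟩)))))
    (subset_closure (.inl (.inl (.inl (.inr ⟨_, rfl⟩)))))) (subset_closure (.inl (.inl (.inr ⟨_, rfl⟩)))))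
    (subset_closure (.inl (.inr ⟨_, rfl⟩)))
theorem xb_qa (t : F4) : D.xb t = D.qa ![0, 0, t, 0, 0, 0] * D.y 0 := by
  simp [qa, ad_zero D.x1_add, ad_zero D.x2_add, ad_zero D.x3_add, ad_zero D.y_add]
theorem x1_qa (t : F4) : D.x1 t = D.qa ![0, 0, 0, t, 0, 0] * D.y 0 := by
  simp [qa, ad_zero D.xb_add, ad_zero D.x2_add, ad_zero D.x3_add, ad_zero D.y_add]
theorem x2_qa (t : F4) : D.x2 t = D.qa ![0, 0, 0, 0, t, 0] * D.y 0 := by
  simp [qa, ad_zero D.x1_add, ad_zero D.xb_add, ad_zero D.x3_add, ad_zero D.y_add]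
theorem x3_qa (t : F4) : D.x3 t = D.qa ![0, 0, 0, 0, 0, t] * D.y 0 := by
  simp [qa, ad_zero D.x1_add, ad_zero D.x2_add, ad_zero D.xb_add, ad_zero D.y_add]
theorem qy_mul (x x' : V) (t t' : F4) : D.qa x * D.y t * (D.qa x' * D.y t') =
    D.qa (x + x') * D.y (x 5 * x' 2 + x 4 * x' 3 + t + t') := by
  rw [D.y_add, D.y_add, ← mul_assoc, ← mul_assoc, ← mul_assoc, ← D.qa_mul, mul_assoc _ (D.y t),
    ← (D.qa_y x' t).eq, ← mul_assoc]
theorem mem_QA {g : M} : g ∈ D.QA ↔ ∃ x t, g = D.qa x * D.y t := by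
  refine ⟨fun h => ?_, by rintro ⟨x, t, rfl⟩; exact mul_mem (D.qa_QA' x) (D.y_QA' t)⟩
  induction h using closure_induction with
  | mem g h =>
    rcases h with (((⟨t, rfl⟩ | ⟨t, rfl⟩) | ⟨t, rfl⟩) | ⟨t, rfl⟩) | ⟨t, rfl⟩
    exacts [⟨_, 0, D.xb_qa t⟩, ⟨_, 0, D.x1_qa t⟩, ⟨_, 0, D.x2_qa t⟩, ⟨_, 0, D.x3_qa t⟩,
      ⟨0, t, by rw [D.qa_zero, one_mul]⟩]
  | one => exact ⟨0, 0, by rw [D.qa_zero, ad_zero D.y_add, mul_one]⟩
  | mul a b _ _ ha hb =>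
    obtain ⟨x, t, rfl⟩ := ha
    obtain ⟨x', t', rfl⟩ := hb
    exact ⟨_, _, D.qy_mul ..⟩
  | inv a _ ha =>
    obtain ⟨x, t, rfl⟩ := ha
    exact ⟨x, x 5 * x 2 + x 4 * x 3 + t, inv_eq_of_mul_eq_one_right (by
      rw [D.qy_mul, V_add_self, D.qa_zero, f4_add_self, ad_zero D.y_add, mul_one])⟩
theorem mem_VV {g : M} : g ∈ D.VV ↔ ∃ u t, g = D.x3 u * D.y t := by
  have m : ∀ u u' t t', D.x3 u * D.y t * (D.x3 u' * D.y t') = D.x3 (u + u') * D.y (t + t') := fun u u' t t' => by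
    simp only [D.x3_add, D.y_add, mul_assoc, (D.c_y3 _ _).left_comm]
  refine ⟨fun h => ?_, by
    rintro ⟨x, t, rfl⟩; exact mul_mem (subset_closure (.inl ⟨x, rfl⟩)) (subset_closure (.inr ⟨t, rfl⟩))⟩
  induction h using closure_induction with
  | mem g h =>
    rcases h with ⟨t, rfl⟩ | ⟨t, rfl⟩
    exacts [⟨t, 0, by rw [ad_zero D.y_add, mul_one]⟩, ⟨0, t, by rw [ad_zero D.x3_add, one_mul]⟩]
  | one => exact ⟨0, 0, by rw [ad_zero D.x3_add, ad_zero D.y_add, mul_one]⟩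
  | mul a b _ _ ha hb =>
    obtain ⟨x, t, rfl⟩ := ha
    obtain ⟨x', t', rfl⟩ := hb
    exact ⟨_, _, m ..⟩
  | inv a _ ha =>
    obtain ⟨x, t, rfl⟩ := ha
    exact ⟨x, t, inv_eq_of_mul_eq_one_right (by
      rw [m, f4_add_self, f4_add_self, ad_zero D.x3_add, ad_zero D.y_add, mul_one])⟩
theorem card_QA : Nat.card D.QA = 1024 := by
  rw [← Nat.card_congr (Equiv.ofBijective (fun p : F4 × F4 × F4 × F4 × F4 =>
    (⟨D.qa ![0, 0, p.1, p.2.1, p.2.2.1, p.2.2.2.1] * D.y p.2.2.2.2, D.mem_QA.2 ⟨_, _, rfl⟩⟩ : D.QA))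
    ⟨fun p q e => ?_, fun g => ?_⟩)]
  · simp only [Nat.card_eq_fintype_card, Fintype.card_prod, card_eq]
  · obtain ⟨h2, h3, h4, h5, h6⟩ := D.qa_inj (congrArg Subtype.val e)
    exact Prod.ext h2 (Prod.ext h3 (Prod.ext h4 (Prod.ext h5 h6)))
  · obtain ⟨x, t, e⟩ := D.mem_QA.1 g.2
    exact ⟨(x 2, x 3, x 4, x 5, t), Subtype.ext e.symm⟩
theorem pQA : IsPGroup 2 D.QA := IsPGroup.of_card (n := 10) D.card_QA
theorem h_cj (g : M) : D.h * g * D.h⁻¹ = D.ha * (D.hb * (D.hb * g * D.hb⁻¹) * D.hb⁻¹) * D.ha⁻¹ := by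
  simp only [h, mul_inv_rev, mul_assoc]
theorem h_y' (t : F4) : D.h * D.y t * D.h⁻¹ = D.y (v * t) := by rw [D.h_cj, D.hb_y, D.hb_y, D.ha_y, ← mul_assoc]; rfl
theorem y_cj {t : F4} (ht : t ≠ 0) : ∃ c, ∀ s, c * D.y s * c⁻¹ = D.y (t * s) := by
  cases t
  exacts [absurd rfl ht, ⟨1, fun s => by rw [one_mul, inv_one, mul_one]; rfl⟩, ⟨_, D.hb_y⟩, ⟨_, D.h_y'⟩]
theorem h3 : D.h ^ 3 = 1 := by
  rw [h, (D.hab.mul_left (Commute.refl _)).mul_pow, D.hab.mul_pow, D.ha3, D.hb3, one_mul, one_mul]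
theorem h_y (t : F4) : D.h * D.y t * D.h⁻¹ = D.y (v * t) := D.h_y' t
theorem h_qa (x : V) : D.h * D.qa x * D.h⁻¹ = D.qa (w • x) := by
  rw [qa, ← conj_mul, ← conj_mul, ← conj_mul]
  simp only [D.h_cj, D.hb_b, D.hb_1, D.hb_2, D.hb_3, D.ha_b, D.ha_1, D.ha_2, D.ha_3, ← mul_assoc (G := F4)]
  rfl
theorem h_L {g : M} (hg : g ∈ D.L) : Commute D.h g := by
  refine mem_centralizer_singleton_iff.1 ((closure_le (centralizer {D.h})).2 ?_ hg) |>.symm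
  rintro _ (⟨t, rfl⟩ | ⟨t, rfl⟩) <;> refine mem_centralizer_singleton_iff.2 (mul_inv_eq_iff_eq_mul.1 ?_).symm
  · rw [D.h_cj, D.hb_a, D.hb_a, D.ha_a, ← mul_assoc, ← mul_assoc, show v * v * v = 1 from rfl, one_mul]
  · rw [D.h_cj, D.hb_ma, D.hb_ma, D.ha_ma, ← mul_assoc, ← mul_assoc, show w * w * w = 1 from rfl, one_mul]
theorem nb_h : D.nb * D.h * D.nb⁻¹ = D.ha * D.hb := by
  rw [h, ← conj_mul, ← conj_mul, D.nb_ha, D.nb_hb, mul_assoc, mul_assoc D.hb, ← pow_three, D.hb3, mul_one]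
theorem h_comm : Commute D.h (D.ha * D.hb) :=
  (((Commute.refl _).mul_right D.hab).mul_left (D.hab.symm.mul_right (Commute.refl _))).mul_left
    (D.hab.symm.mul_right (Commute.refl _))
theorem J_y {j : M} (hj : j ∈ D.J) (t : F4) : Commute j (D.y t) := by
  refine mem_centralizer_singleton_iff.1 ((closure_le (centralizer {D.y t})).2 ?_ (D.cenY.le hj))
  rintro _ ((((((⟨s, rfl⟩ | ⟨s, rfl⟩) | ⟨s, rfl⟩) | ⟨s, rfl⟩) | ⟨s, rfl⟩) | ⟨s, rfl⟩) | ⟨s, rfl⟩) <;>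
    refine mem_centralizer_singleton_iff.2 ?_
  exacts [(D.c_ya t s).symm, (D.c_yb t s).symm, (D.c_y1 t s).symm, (D.c_y2 t s).symm, (D.c_y3 t s).symm,
    ad_comm D.y_add s t, by rw [← D.na_a, ← D.na_y t, conj_mul, conj_mul, (D.c_ya t s).eq]]
theorem mem_J {j : M} {t : F4} (ht : t ≠ 0) : j ∈ D.J ↔ Commute j (D.y t) := by
  refine ⟨fun h => D.J_y h t, fun h => mem_centralizer_singleton_iff.2 ?_⟩
  obtain ⟨c, hc⟩ := D.y_cj ht
  have k : ∀ s, Commute j (D.y (t * s)) ↔ Commute (c⁻¹ * j * c) (D.y s) := fun s => by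
    rw [← hc, ← Commute.conj_iff c (a := c⁻¹ * j * c), show c * (c⁻¹ * j * c) * c⁻¹ = j by group]
  simpa [ht] using ((k t⁻¹).2 (D.J_y (mem_centralizer_singleton_iff.2 ((k 1).1 (by rwa [mul_one]))) _)).eq
theorem QA_le_J : D.QA ≤ D.J := fun g h => by
  obtain ⟨x, t, rfl⟩ := D.mem_QA.1 h
  exact mem_centralizer_singleton_iff.2 ((D.qa_y x 1).mul_left (ad_comm D.y_add t 1))
theorem L_le_J : D.L ≤ D.J := (closure_le _).2 fun g h => D.cenY.ge (subset_closure (h.elim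
  (fun h => .inl (.inl (.inl (.inl (.inl (.inl h)))))) .inr))
theorem xa_L (t : F4) : D.xa t ∈ D.L := subset_closure (.inl ⟨t, rfl⟩)
theorem na_L : D.na ∈ D.L := D.na_eq ▸ mul_mem (mul_mem (D.xa_L 1) (subset_closure (.inr ⟨1, rfl⟩))) (D.xa_L 1)
theorem ha_L : D.ha ∈ D.L :=
  D.ha_eq ▸ mul_mem (mul_mem (mul_mem (D.xa_L w) (subset_closure (.inr ⟨v, rfl⟩))) (D.xa_L w)) D.na_L
theorem y_QA (t : F4) : D.y t ∈ D.QA := D.y_QA' t
theorem qa_QA (x : V) : D.qa x ∈ D.QA := D.qa_QA' x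
theorem xa_qa (s : F4) (x : V) :
    ∃ t, D.xa s * D.qa x * (D.xa s)⁻¹ = D.qa (P (pa s) x) * D.y t := by
  rw [qa, ← conj_mul, ← conj_mul, ← conj_mul, D.a_b, D.a_1, D.a_2, (D.c_a3 _ _).eq, mul_inv_cancel_right,
    D.x1_qa (x 3), D.x2_qa (x 4), D.x3_qa (x 5), D.x3_qa (s ^ 2 * x 3), D.x3_qa (s * x 4), mul_assoc _ _ (D.y (s * _)),
    mul_assoc _ (D.y 0) (D.y (s * _)), ← D.y_add, show D.xb (x 2) * D.x1 (s * x 2) * D.x2 (s ^ 2 * x 2) * D.x3 (s ^ 3 * x 2) =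
      D.qa ![0, 0, x 2, s * x 2, s ^ 2 * x 2, s ^ 3 * x 2] from rfl, P_pa]
  simp only [D.qy_mul]
  exact ⟨_, congrArg (· * _) (D.qa_congr (by simp) (by simp; ring) (by simp; ring) (by simp; ring))⟩
theorem na_qa (x : V) : ∃ t, D.na * D.qa x * D.na⁻¹ = D.qa (P (db 0 1 3 4) x) * D.y t := by
  rw [qa, ← conj_mul, ← conj_mul, ← conj_mul, D.na_b, D.na_1, D.na_2, D.na_3, D.xb_qa, D.x1_qa, D.x2_qa, D.x3_qa,
    P_na]
  simp only [D.qy_mul]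
  exact ⟨_, congrArg (· * _) (D.qa_congr (by simp) (by simp) (by simp) (by simp))⟩
theorem ha_qa (x : V) : D.ha * D.qa x * D.ha⁻¹ = D.qa (P (c3 0 1 2) x) := by
  rw [qa, ← conj_mul, ← conj_mul, ← conj_mul, D.ha_b, D.ha_1, D.ha_2, D.ha_3, P_c012]; rfl
/-- `j` acts on `Q_A / Y` as `σ` -/
def Ac (j : M) (σ : S8) : Prop := ∀ x, ∃ t, j * D.qa x * j⁻¹ = D.qa (P σ x) * D.y t
variable {D} in
theorem Ac.mul {j k : M} {σ τ : S8} (h : D.Ac j σ) (hj : j ∈ D.J) (h' : D.Ac k τ) : D.Ac (j * k) (σ * τ) := fun x => by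
  obtain ⟨t, e⟩ := h' x
  obtain ⟨s, e'⟩ := h (P τ x)
  refine ⟨s + t, ?_⟩
  calc _ = j * (k * D.qa x * k⁻¹) * j⁻¹ := by group
    _ = _ := by rw [e, ← conj_mul, e', (D.J_y hj t).eq, mul_inv_cancel_right, P_mul, D.y_add, mul_assoc]
variable {D} in
theorem Ac.uniq {j : M} {σ : S8} (h : D.Ac j σ) (hσ : A5 σ) (h' : ∀ x, ∃ t, j * D.qa x * j⁻¹ = D.qa x * D.y t) :
    σ = 1 := P_faith fun x => by
  obtain ⟨t, e⟩ := h x
  obtain ⟨s, e'⟩ := h' x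
  obtain ⟨h2, h3, h4, h5, -⟩ := D.qa_inj (e.symm.trans e')
  obtain ⟨k, k0, k1⟩ := hσ.P_eq x
  have k2 := congrFun k 0
  have k3 := congrFun k 1
  rw [Pi.add_apply, k0, add_zero] at k2
  rw [Pi.add_apply, k1, add_zero] at k3
  rw [P_one]
  funext i
  fin_cases i
  exacts [k2, k3, h2, h3, h4, h5]
variable {D} in
theorem Ac.norm {j : M} {σ : S8} (h : D.Ac j σ) (hj : j ∈ D.J) : j ∈ normalizer (D.QA : Set M) := by
  have : Finite (D.QA : Set M) := Nat.finite_of_card_ne_zero (D.card_QA.trans_ne (by norm_num))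
  refine mem_normalizer_fintype fun q hq => ?_
  obtain ⟨x, t, rfl⟩ := D.mem_QA.1 hq
  obtain ⟨s, e⟩ := h x
  rw [← conj_mul, e, (D.J_y hj t).eq, mul_inv_cancel_right]
  exact mul_mem (mul_mem (D.qa_QA _) (D.y_QA _)) (D.y_QA _)
theorem ac_Q {q : M} (hq : q ∈ D.QA) : D.Ac q 1 := fun z => by
  obtain ⟨x, t, rfl⟩ := D.mem_QA.1 hq
  refine ⟨x 2 * z 5 + x 5 * z 2 + x 3 * z 4 + x 4 * z 3, mul_inv_eq_iff_eq_mul.2 ?_⟩
  rw [P_one, mul_assoc, ← (D.qa_y z t).eq, ← mul_assoc, D.qa_comm, mul_assoc (D.qa z), (D.qa_y x _).eq]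
  simp only [mul_assoc]
theorem L_norm : D.L ≤ normalizer (D.QA : Set M) := by
  have a : ∀ t, D.xa t ∈ normalizer (D.QA : Set M) := fun t => Ac.norm (D.xa_qa t) (D.L_le_J (D.xa_L t))
  have n := Ac.norm D.na_qa (D.L_le_J D.na_L)
  refine (closure_le _).2 ?_
  rintro _ (⟨t, rfl⟩ | ⟨t, rfl⟩)
  exacts [a t, D.na_a t ▸ mul_mem (mul_mem n (a t)) (inv_mem n)]
theorem J_le : D.J ≤ D.QA ⊔ D.L := D.cenY.le.trans ((closure_le _).2 (by
  rintro _ ((((((h | h) | h) | h) | h) | h) | h)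
  exacts [mem_sup_right (subset_closure (.inl h)), mem_sup_left (subset_closure (.inl (.inl (.inl (.inl h))))),
    mem_sup_left (subset_closure (.inl (.inl (.inl (.inr h))))), mem_sup_left (subset_closure (.inl (.inl (.inr h)))),
    mem_sup_left (subset_closure (.inl (.inr h))), mem_sup_left (subset_closure (.inr h)),
    mem_sup_right (subset_closure (.inr h))]))
theorem J_dec {j : M} (hj : j ∈ D.J) : ∃ q ∈ D.QA, ∃ l ∈ D.L, j = q * l := by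
  obtain ⟨q, hq, l, hl, e⟩ := (MSS.mem_sup_of_normalizes_left D.L_norm).1 (D.J_le hj)
  exact ⟨q, hq, l, hl, e.symm⟩
theorem J_norm : D.J ≤ normalizer (D.QA : Set M) := D.J_le.trans (sup_le le_normalizer D.L_norm)
theorem h_J {j : M} (hj : j ∈ D.J) : ∃ q ∈ D.QA, D.h * j * D.h⁻¹ = q * j := by
  obtain ⟨q, hq, l, hl, rfl⟩ := D.J_dec hj
  refine ⟨D.h * q * D.h⁻¹ * q⁻¹, mul_mem ?_ (inv_mem hq), by
    rw [← conj_mul, (D.h_L hl).eq, mul_inv_cancel_right, mul_assoc _ q⁻¹, inv_mul_cancel_left]⟩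
  obtain ⟨x, t, rfl⟩ := D.mem_QA.1 hq
  exact D.mem_QA.2 ⟨_, _, by rw [← conj_mul, D.h_qa, D.h_y]⟩
theorem L_eq : D.L = closure {D.xa 1, D.xa w, D.na} := by
  refine le_antisymm ((closure_le _).2 ?_) ((closure_le _).2 ?_)
  · have k : ∀ t, D.xa t ∈ closure {D.xa 1, D.xa w, D.na} := fun t => by
      have k1 : D.xa 1 ∈ closure {D.xa 1, D.xa w, D.na} := subset_closure (by simp)
      have k2 : D.xa w ∈ closure {D.xa 1, D.xa w, D.na} := subset_closure (by simp)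
      cases t
      exacts [(ad_zero D.xa_add).symm ▸ one_mem _, k1, k2, (D.xa_add 1 w).symm ▸ mul_mem k1 k2]
    have n : D.na ∈ closure {D.xa 1, D.xa w, D.na} := subset_closure (by simp)
    rintro _ (⟨t, rfl⟩ | ⟨t, rfl⟩)
    exacts [k t, D.na_a t ▸ mul_mem (mul_mem n (k t)) (inv_mem n)]
  · rintro _ (rfl | rfl | rfl)
    exacts [D.xa_L 1, D.xa_L w, D.na_L]
/-- the Bruhat decomposition -/
theorem bruhat {l : M} (hl : l ∈ D.L) :
    ∃ s, ∃ i : ℕ, l = D.xa s * D.ha ^ i ∨ ∃ t, l = D.xa s * D.ha ^ i * D.na * D.xa t := by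
  have a : ∀ s (i : ℕ) u, D.xa s * D.ha ^ i * D.xa u = D.xa (s + v ^ i * u) * D.ha ^ i := fun s i u => by
    rw [D.xa_add, mul_assoc, mul_assoc, mul_right_inj]
    induction i with
    | zero => simp
    | succ i ih => rw [pow_succ', mul_assoc, ih, pow_succ', mul_assoc, ← D.ha_a]; group
  have b : ∀ t, t ≠ 0 → ∃ r, ∃ k : ℕ, D.ma t = D.xa r * D.ha ^ k * D.na * D.xa r := fun t ht => by
    have k : ∀ r t (g : M), g = D.xa r * D.ma t * D.xa r * D.na → D.ma t = D.xa r * g * D.na * D.xa r :=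
      fun r t g e => by
        rw [e, mul_assoc _ _ D.na, mul_assoc _ D.na, D.na_sq, mul_one, mul_assoc, mul_assoc _ (D.xa r),
          ad_sq D.xa_add, mul_one, ← mul_assoc, ad_sq D.xa_add, one_mul]
    cases t
    exacts [absurd rfl ht, ⟨1, 0, k 1 1 _ (by rw [← D.na_eq, D.na_sq, pow_zero])⟩,
      ⟨v, 2, k _ _ _ (by rw [pow_two, D.ha_sq])⟩, ⟨w, 1, k _ _ _ (by rw [pow_one, ← D.ha_eq])⟩]
  have c : ∀ g ∈ ({D.xa 1, D.xa w, D.na} : Set M), ∀ l,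
      (∃ s, ∃ i : ℕ, l = D.xa s * D.ha ^ i ∨ ∃ t, l = D.xa s * D.ha ^ i * D.na * D.xa t) →
      ∃ s, ∃ i : ℕ, l * g = D.xa s * D.ha ^ i ∨ ∃ t, l * g = D.xa s * D.ha ^ i * D.na * D.xa t := by
    rintro g hg _ ⟨s, i, rfl | ⟨t, rfl⟩⟩
    · rcases hg with rfl | rfl | rfl
      exacts [⟨_, i, .inl (a ..)⟩, ⟨_, i, .inl (a ..)⟩, ⟨s, i, .inr ⟨0, by rw [ad_zero D.xa_add, mul_one]⟩⟩]
    rcases hg with rfl | rfl | rfl
    · exact ⟨s, i, .inr ⟨_, by rw [mul_assoc, ← D.xa_add]⟩⟩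
    · exact ⟨s, i, .inr ⟨_, by rw [mul_assoc, ← D.xa_add]⟩⟩
    have e : D.xa s * D.ha ^ i * D.na * D.xa t * D.na = D.xa s * D.ha ^ i * D.ma t := by
      rw [← D.na_a, inv_eq_of_mul_eq_one_left D.na_sq]; simp only [mul_assoc]
    by_cases ht : t = 0
    · exact ⟨s, i, .inl (by rw [e, ht, ad_zero D.ma_add, mul_one])⟩
    obtain ⟨r, k, e1⟩ := b t ht
    exact ⟨_, i + k, .inr ⟨r, by rw [e, e1, ← mul_assoc, ← mul_assoc, ← mul_assoc, a, pow_add, mul_assoc _ _ (D.ha ^ k)]⟩⟩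
  rw [D.L_eq] at hl
  induction hl using closure_induction_right with
  | one => exact ⟨0, 0, .inl (by rw [ad_zero D.xa_add, pow_zero, mul_one])⟩
  | mul_right x _ g hg ih => exact c g hg x ih
  | mul_inv_cancel x _ g hg ih =>
    rw [show g⁻¹ = g by
      rcases hg with rfl | rfl | rfl
      exacts [ad_inv D.xa_add _, ad_inv D.xa_add _, inv_eq_of_mul_eq_one_left D.na_sq]]
    exact c g hg x ih
theorem L_act {l : M} (hl : l ∈ D.L) : ∃ σ, A5 σ ∧ D.Ac l σ ∧ (σ = 1 → l = 1) := by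
  have a : ∀ i : ℕ, A5 (c3 0 1 2 ^ i) ∧ D.Ac (D.ha ^ i) (c3 0 1 2 ^ i) := fun i => by
    induction i with
    | zero => rw [pow_zero, pow_zero]; exact ⟨A5.one, D.ac_Q (one_mem _)⟩
    | succ i ih => exact ⟨pow_succ (c3 0 1 2) i ▸ ih.1.mul ⟨c3_mem (by decide) (by decide), rfl, rfl, rfl⟩, by
        rw [pow_succ, pow_succ]
        exact ih.2.mul (pow_mem (D.L_le_J D.ha_L) i) fun x => ⟨0, by rw [D.ha_qa, ad_zero D.y_add, mul_one]⟩⟩
  obtain ⟨s, i, e⟩ := D.bruhat hl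
  rw [pow_eq_pow_mod i D.ha3] at e
  have hi := Nat.mod_lt i (show 0 < 3 by norm_num)
  generalize i % 3 = i at e hi
  have m := D.L_le_J (mul_mem (D.xa_L s) (pow_mem D.ha_L i))
  have b := Ac.mul (D.xa_qa s) (D.L_le_J (D.xa_L s)) (a i).2
  rcases e with rfl | ⟨t, rfl⟩
  · refine ⟨_, (pa_mem s).mul (a i).1, b, fun e => ?_⟩
    obtain ⟨rfl, rfl⟩ := (by decide +kernel : ∀ s, ∀ i < 3, pa s * c3 0 1 2 ^ i = 1 → s = 0 ∧ i = 0) s i hi e
    rw [ad_zero D.xa_add, pow_zero, mul_one]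
  · exact ⟨_, (((pa_mem s).mul (a i).1).mul na_mem).mul (pa_mem t),
      (b.mul m D.na_qa).mul (mul_mem m (D.L_le_J D.na_L)) (D.xa_qa t), fun e => absurd e
      ((by decide +kernel : ∀ s t, ∀ i < 3, pa s * c3 0 1 2 ^ i * db 0 1 3 4 * pa t ≠ 1) s t i hi)⟩
/-- the action of `J` on `Q_A / Y` -/
theorem J_act {j : M} (hj : j ∈ D.J) : ∃ σ, A5 σ ∧
    (∀ x, ∃ t, j * D.qa x * j⁻¹ = D.qa (P σ x) * D.y t) ∧ (σ = 1 → j ∈ D.QA) := by
  obtain ⟨q, hq, l, hl, rfl⟩ := D.J_dec hj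
  obtain ⟨σ, h1, h2, h3⟩ := D.L_act hl
  exact ⟨σ, h1, one_mul σ ▸ (D.ac_Q hq).mul (D.QA_le_J hq) h2, fun e => by rwa [h3 e, mul_one]⟩
theorem L_surj {σ : S8} (h : A5 σ) :
    ∃ l ∈ D.L, ∀ x, ∃ t, l * D.qa x * l⁻¹ = D.qa (P σ x) * D.y t := by
  have h := gen_A5 h
  clear * - h
  induction h using closure_induction with
  | mem g h =>
    rcases h with rfl | rfl | rfl
    exacts [⟨_, D.xa_L 1, D.xa_qa 1⟩, ⟨_, D.xa_L w, D.xa_qa w⟩, ⟨_, D.na_L, D.na_qa⟩]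
  | one => exact ⟨1, one_mem _, D.ac_Q (one_mem _)⟩
  | mul a b _ _ ha hb =>
    obtain ⟨l, hl, e⟩ := ha
    obtain ⟨l', hl', e'⟩ := hb
    exact ⟨_, mul_mem hl hl', Ac.mul e (D.L_le_J hl) e'⟩
  | inv a _ ha =>
    obtain ⟨l, hl, e⟩ := ha
    refine ⟨_, inv_mem hl, fun x => ?_⟩
    obtain ⟨t, e⟩ := e (P a⁻¹ x)
    refine ⟨t, ?_⟩
    rw [P_P_inv, ← mul_inv_eq_iff_eq_mul, ad_inv D.y_add, mul_assoc, (D.J_y (inv_mem (D.L_le_J hl)) t).eq] at e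
    rw [← e]; group
theorem CQ {j : M} (hj : j ∈ D.J) (h : ∀ x, ∃ t, j * D.qa x * j⁻¹ = D.qa x * D.y t) : j ∈ D.QA := by
  obtain ⟨σ, h1, h2, h3⟩ := D.J_act hj
  exact h3 (Ac.uniq h2 h1 h)
/-- `q * xa s` with `q ∈ Q_A` are 4096 different elements -/
theorem card_J [Finite M] : 4096 ≤ Nat.card D.J := by
  refine le_of_eq_of_le ?_ (Nat.card_le_card_of_injective (fun p : D.QA × F4 =>
    (⟨p.1 * D.xa p.2, mul_mem (D.QA_le_J p.1.2) (D.L_le_J (D.xa_L _))⟩ : D.J)) fun p q e => ?_)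
  · rw [Nat.card_prod, D.card_QA, Nat.card_eq_fintype_card, card_eq]
  replace e : (p.1 : M) * D.xa p.2 = q.1 * D.xa q.2 := congrArg Subtype.val e
  have m : D.xa (p.2 + q.2) ∈ D.QA := by
    rw [D.xa_add, ← inv_mul_cancel_left (p.1 : M) (D.xa p.2), e, mul_assoc, mul_assoc, ad_sq D.xa_add, mul_one]
    exact mul_mem (inv_mem p.1.2) q.1.2
  have e1 : p.2 = q.2 := (by decide : ∀ s t, pa (s + t) = 1 → s = t) _ _ (Ac.uniq (D.xa_qa _) (pa_mem _)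
    fun x => by simpa only [P_one] using D.ac_Q m x)
  exact Prod.ext (Subtype.ext (by rwa [e1, mul_left_inj] at e)) e1
theorem long_y {t : F4} (h : t ≠ 0) : D.Long (D.y t) := by
  obtain ⟨c, hc⟩ := D.y_cj h
  exact isConj_iff.2 ⟨c, by rw [hc, mul_one]⟩
theorem long_3 {c : F4} (h : c ≠ 0) (t : F4) : D.Long (D.x3 c * D.y t) :=
  ((D.long_y h).trans (isConj_iff.2 ⟨_, D.nb_y c⟩)).trans (isConj_iff.2 ⟨(D.xb (c⁻¹ * t))⁻¹, by
    rw [inv_inv, mul_assoc, D.r_3b, mul_inv_cancel_left₀ h, mul_assoc, inv_mul_cancel_left]⟩)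
theorem long_b {c : F4} (h : c ≠ 0) (t : F4) : D.Long (D.xb c * D.y t) :=
  (D.long_3 h t).trans (isConj_iff.2 ⟨D.na, by rw [← conj_mul, D.na_3, D.na_y]⟩)
/-- `⟨J, J^{n_b}⟩ = M` -/
theorem gen_J {H : Subgroup M} (h : D.J ≤ H) (h' : ∀ j ∈ D.J, D.nb * j * D.nb⁻¹ ∈ H) : H = ⊤ := by
  have m : ∀ t, D.xb t ∈ D.J := fun t => mem_centralizer_singleton_iff.2 (D.c_yb 1 t).symm
  refine eq_top_iff.2 (D.gen.ge.trans ((closure_le _).2 ?_))
  rintro _ (((⟨t, rfl⟩ | ⟨t, rfl⟩) | ⟨t, rfl⟩) | ⟨t, rfl⟩)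
  exacts [h (D.L_le_J (D.xa_L t)), h (D.L_le_J (subset_closure (.inr ⟨t, rfl⟩))), h (m t), D.nb_b t ▸ h' _ (m t)]
/-- `a φ` does not centralise `Y` -/
theorem not_φ (a : M) : ¬ ∀ t, a * D.φ (D.y t) * a⁻¹ = D.y t := fun h => by
  have h1 := h 1
  have h2 := h w
  rw [D.φ_y, one_pow, mul_inv_eq_iff_eq_mul] at h1
  rw [D.φ_y, (D.J_y (mem_centralizer_singleton_iff.2 h1) _).eq, mul_inv_cancel_right] at h2
  exact absurd (D.y_inj h2) (by decide)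
/-- `C_M(J) = Y` -/
theorem CJ {a : M} (h : ∀ j ∈ D.J, Commute a j) : ∃ t, a = D.y t := by
  have c : ∀ x, Commute a (D.qa x) := fun x => h _ (D.QA_le_J (D.qa_QA x))
  obtain ⟨x, t, rfl⟩ := D.mem_QA.1 (D.CQ (mem_centralizer_singleton_iff.2 (h _ (D.QA_le_J (D.y_QA 1)))) fun x =>
    ⟨0, by rw [(c x).eq, mul_inv_cancel_right, ad_zero D.y_add, mul_one]⟩)
  have k : ∀ z : V, x 2 * z 5 + x 5 * z 2 + x 3 * z 4 + x 4 * z 3 = 0 := fun z => D.y_eq_one (by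
    have := ((c z).mul_left (D.qa_y z t).symm.inv_left).eq
    rwa [mul_inv_cancel_right, D.qa_comm, mul_eq_left] at this)
  exact ⟨t, by rw [D.qa_congr (x' := 0) (by simpa using k ![0, 0, 0, 0, 0, 1]) (by simpa using k ![0, 0, 0, 0, 1, 0])
    (by simpa using k ![0, 0, 0, 1, 0, 0]) (by simpa using k ![0, 0, 1, 0, 0, 0]), D.qa_zero, one_mul]⟩

end Dat
end CL.Co1S
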