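import Cfsg.Agent.INV.CO1.Bas1

/-! CO1/Bas3: the centraliser `C(x₂ 1) = X × J2`, `J2 = VV : SL₂(4)`.
Bruhat decomposition of `Lb = ⟨xb, mb⟩` as in Bas1 with `hb`, `nb`: at most 60 elements. On
`VV = {x3 u * y t}`: `xb c : (u,t) ↦ (u, t + c u)`, `nb : (u,t) ↦ (t,u)`, `hb : (u,t) ↦ (v u, w t)`. -/

set_option autoImplicit false
open Subgroup

namespace CL.Co1S
open F4

theorem B3.comm {M : Type*} [Group M] {f : F4 → M} (hf : ∀ s t, f (s + t) = f s * f t) {H : Subgroup M} {h : M}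
    {c : F4} (hh : h ∈ H) (m : ∀ t, f t ∈ H) (e : ∀ t, h * f t * h⁻¹ = f (c * t)) (hc : c + 1 ≠ 0) (t : F4) :
    f t ∈ ⁅H, H⁆ := by
  have := commutator_mem_commutator hh (m ((c + 1)⁻¹ * t))
  rwa [commutatorElement_def, e, ad_inv hf, ← hf, ← add_one_mul, mul_inv_cancel_left₀ hc] at this

/-- the Bruhat decomposition of `SL₂(4)` -/
theorem B3.bruhat {M : Type*} [Group M] {x m : F4 → M} {n h : M} (hx : ∀ s t, x (s + t) = x s * x t)
    (hm : ∀ s t, m (s + t) = m s * m t) (e1 : n = x 1 * m 1 * x 1) (e2 : ∀ t, n * x t * n⁻¹ = m t)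
    (e3 : h = x w * m v * x w * n) (e4 : h * h = x v * m w * x v * n) (e5 : ∀ t, h * x t * h⁻¹ = x (v * t))
    {l : M} (hl : l ∈ closure (Set.range x ∪ Set.range m)) :
    ∃ s, ∃ i : ℕ, l = x s * h ^ i ∨ ∃ t, l = x s * h ^ i * n * x t := by
  have n2 : n * n = 1 := e1 ▸ B1.pal (ad_sq hx 1) (ad_sq hm 1)
  have a : ∀ s (i : ℕ) u, x s * h ^ i * x u = x (s + v ^ i * u) * h ^ i := fun s i u => by
    rw [hx, mul_assoc, mul_assoc, mul_right_inj]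
    induction i with
    | zero => simp
    | succ i ih => rw [pow_succ', mul_assoc, ih, pow_succ', mul_assoc, ← e5]; group
  have b : ∀ t, t ≠ 0 → ∃ r, ∃ k : ℕ, m t = x r * h ^ k * n * x r := fun t ht => by
    have k : ∀ r t (g : M), g = x r * m t * x r * n → m t = x r * g * n * x r := fun r t g e => by
      rw [e, mul_assoc _ _ n, mul_assoc _ n, n2, mul_one, mul_assoc, mul_assoc _ (x r),
        ad_sq hx, mul_one, ← mul_assoc, ad_sq hx, one_mul]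
    cases t
    exacts [absurd rfl ht, ⟨1, 0, k 1 1 _ (by rw [← e1, n2, pow_zero])⟩,
      ⟨v, 2, k _ _ _ (by rw [pow_two, e4])⟩, ⟨w, 1, k _ _ _ (by rw [pow_one, ← e3])⟩]
  have c : ∀ g ∈ Set.range x ∪ {n}, ∀ l, (∃ s, ∃ i : ℕ, l = x s * h ^ i ∨ ∃ t, l = x s * h ^ i * n * x t) →
      ∃ s, ∃ i : ℕ, l * g = x s * h ^ i ∨ ∃ t, l * g = x s * h ^ i * n * x t := by
    rintro g hg _ ⟨s, i, rfl | ⟨t, rfl⟩⟩
    · rcases hg with ⟨u, rfl⟩ | rfl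
      exacts [⟨_, i, .inl (a ..)⟩, ⟨s, i, .inr ⟨0, by rw [ad_zero hx, mul_one]⟩⟩]
    rcases hg with ⟨u, rfl⟩ | rfl
    · exact ⟨s, i, .inr ⟨_, by rw [mul_assoc, ← hx]⟩⟩
    have e : x s * h ^ i * g * x t * g = x s * h ^ i * m t := by
      rw [← e2, inv_eq_of_mul_eq_one_left n2]; simp only [mul_assoc]
    by_cases ht : t = 0
    · exact ⟨s, i, .inl (by rw [e, ht, ad_zero hm, mul_one])⟩
    obtain ⟨r, k, e1⟩ := b t ht
    exact ⟨_, i + k, .inr ⟨r, by rw [e, e1, ← mul_assoc, ← mul_assoc, ← mul_assoc, a, pow_add, mul_assoc _ _ (h ^ k)]⟩⟩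
  replace hl : l ∈ closure (Set.range x ∪ {n}) := (closure_le _).2 (by
    have n1 : n ∈ closure (Set.range x ∪ {n}) := subset_closure (.inr rfl)
    rintro _ (k | ⟨t, rfl⟩)
    exacts [subset_closure (.inl k), e2 t ▸ mul_mem (mul_mem n1 (subset_closure (.inl ⟨t, rfl⟩))) (inv_mem n1)]) hl
  induction hl using closure_induction_right with
  | one => exact ⟨0, 0, .inl (by rw [ad_zero hx, pow_zero, mul_one])⟩
  | mul_right y _ g hg ih => exact c g hg y ih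
  | mul_inv_cancel y _ g hg ih =>
    rw [show g⁻¹ = g by
      rcases hg with ⟨u, rfl⟩ | rfl
      exacts [ad_inv hx _, inv_eq_of_mul_eq_one_left n2]]
    exact c g hg y ih

namespace Dat
variable {M : Type*} [Group M] (D : Dat M)

theorem x2_eq_one {t : F4} (h : D.x2 t = 1) : t = 0 :=
  (D.qa_inj (x' := 0) (t' := 0) ((D.x2_qa t).symm.trans (by rw [h, D.qa_zero, ad_zero D.y_add, mul_one]))).2.2.1
theorem J2_x2 {j : M} (hj : j ∈ D.J2) (t : F4) : Commute j (D.x2 t) := by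
  refine mem_centralizer_singleton_iff.1 ((closure_le (centralizer {D.x2 t})).2 ?_ hj)
  rintro _ (((⟨s, rfl⟩ | ⟨s, rfl⟩) | ⟨s, rfl⟩) | ⟨s, rfl⟩) <;> refine mem_centralizer_singleton_iff.2 ?_
  exacts [(D.c_23 t s).symm, D.c_y2 s t, D.c_b2 s t, by rw [← D.nb_b, ← D.nb_2 t, conj_mul, conj_mul, (D.c_b2 s t).eq]]
theorem mem_CX {g : M} (h : Commute g (D.x2 1)) : ∃ c, ∃ j ∈ D.J2, g = D.x2 c * j := by
  obtain ⟨_, ⟨c, rfl⟩, j, hj, e⟩ := (MSS.mem_sup_of_normalizes_left (N := D.X) (H := D.J2) fun j hj =>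
    centralizer_le_normalizer _ (by rintro _ ⟨t, rfl⟩; exact (D.J2_x2 hj t).symm)).1
      ((closure_le _).2 (by
        rintro _ ((((h | h) | h) | h) | h)
        exacts [mem_sup_left h, mem_sup_right (subset_closure (.inl (.inl (.inl h)))),
          mem_sup_right (subset_closure (.inl (.inl (.inr h)))), mem_sup_right (subset_closure (.inl (.inr h))),
          mem_sup_right (subset_closure (.inr h))]) (D.cenX.le (mem_centralizer_singleton_iff.2 h)))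
  exact ⟨c, j, hj, e.symm⟩
theorem VV_le_J2 : D.VV ≤ D.J2 := closure_mono fun _ h => .inl (.inl h)
theorem xb_J2 (t : F4) : D.xb t ∈ D.J2 := subset_closure (.inl (.inr ⟨t, rfl⟩))
theorem mb_J2 (t : F4) : D.mb t ∈ D.J2 := subset_closure (.inr ⟨t, rfl⟩)
theorem nb_J2 : D.nb ∈ D.J2 := D.nb_eq ▸ mul_mem (mul_mem (D.xb_J2 1) (D.mb_J2 1)) (D.xb_J2 1)
theorem hb_J2 : D.hb ∈ D.J2 := D.hb_eq ▸ mul_mem (mul_mem (mul_mem (D.xb_J2 w) (D.mb_J2 v)) (D.xb_J2 w)) D.nb_J2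
theorem vv_inj {u t u' t' : F4} (h : D.x3 u * D.y t = D.x3 u' * D.y t') : u = u' ∧ t = t' := by
  rw [D.x3_qa, D.x3_qa u', ad_zero D.y_add, mul_one, mul_one] at h
  exact (D.qa_inj h).2.2.2
theorem xb_vv (c u t : F4) : D.xb c * (D.x3 u * D.y t) * (D.xb c)⁻¹ = D.x3 u * D.y (u * c + t) := by
  rw [ad_inv D.xb_add, mul_assoc, mul_assoc, (D.c_yb t c).eq, ← mul_assoc (D.x3 u), D.r_3b, mul_assoc, mul_assoc,
    ← mul_assoc, ad_sq D.xb_add, one_mul, D.y_add]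
theorem nb_vv (u t : F4) : D.nb * (D.x3 u * D.y t) * D.nb⁻¹ = D.x3 t * D.y u := by
  rw [← conj_mul, D.nb_3, D.nb_y, (D.c_y3 u t).eq]
theorem hb_vv (i : ℕ) (u t : F4) :
    D.hb ^ i * (D.x3 u * D.y t) * (D.hb ^ i)⁻¹ = D.x3 (v ^ i * u) * D.y (w ^ i * t) := by
  induction i with
  | zero => simp
  | succ i ih =>
    rw [pow_succ' v, pow_succ' w, mul_assoc v, mul_assoc w, ← D.hb_3, ← D.hb_y, conj_mul, ← ih, pow_succ']; group
theorem VV_comm {a b : M} (ha : a ∈ D.VV) (hb : b ∈ D.VV) : Commute a b := by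
  obtain ⟨u, t, rfl⟩ := D.mem_VV.1 ha
  obtain ⟨u', t', rfl⟩ := D.mem_VV.1 hb
  exact ((ad_comm D.x3_add _ _).mul_right (D.c_y3 _ _).symm).mul_left ((D.c_y3 _ _).mul_right (ad_comm D.y_add _ _))
theorem fin_VV : Finite (D.VV : Set M) := Finite.of_surjective
  (fun p : F4 × F4 => ⟨_, D.mem_VV.2 ⟨p.1, p.2, rfl⟩⟩) fun g =>
    let ⟨u, t, e⟩ := D.mem_VV.1 g.2; ⟨(u, t), Subtype.ext e.symm⟩
theorem J2_norm : D.J2 ≤ normalizer (D.VV : Set M) := by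
  have := D.fin_VV
  have a : ∀ t, D.xb t ∈ normalizer (D.VV : Set M) := fun c => mem_normalizer_fintype fun g hg => by
    obtain ⟨u, t, rfl⟩ := D.mem_VV.1 hg
    exact D.mem_VV.2 ⟨_, _, D.xb_vv ..⟩
  have n : D.nb ∈ normalizer (D.VV : Set M) := mem_normalizer_fintype fun g hg => by
    obtain ⟨u, t, rfl⟩ := D.mem_VV.1 hg
    exact D.mem_VV.2 ⟨_, _, D.nb_vv ..⟩
  refine (closure_le _).2 ?_
  rintro _ ((h | ⟨t, rfl⟩) | ⟨t, rfl⟩)
  exacts [le_normalizer (subset_closure h), a t, D.nb_b t ▸ mul_mem (mul_mem n (a t)) (inv_mem n)]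
/-- the Bruhat decomposition -/
theorem J2_dec {j : M} (hj : j ∈ D.J2) : ∃ g ∈ D.VV, ∃ s, ∃ i < 3,
    j = g * (D.xb s * D.hb ^ i) ∨ ∃ t, j = g * (D.xb s * D.hb ^ i * D.nb * D.xb t) := by
  obtain ⟨g, hg, l, hl, rfl⟩ := (MSS.mem_sup_of_normalizes_left (N := D.VV)
    (H := closure (Set.range D.xb ∪ Set.range D.mb)) ((Subgroup.closure_mono (by
      rintro _ (h | h); exacts [.inl (.inr h), .inr h])).trans D.J2_norm)).1 ((closure_le _).2 (by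
        rintro _ ((h | h) | h)
        exacts [mem_sup_left (subset_closure h), mem_sup_right (subset_closure (.inl h)),
          mem_sup_right (subset_closure (.inr h))]) hj)
  obtain ⟨s, i, e⟩ := B3.bruhat D.xb_add D.mb_add D.nb_eq D.nb_b D.hb_eq D.hb_sq D.hb_b hl
  rw [pow_eq_pow_mod i D.hb3] at e
  exact ⟨g, hg, s, _, Nat.mod_lt i (by norm_num), e.imp (congrArg _) fun ⟨t, e⟩ => ⟨t, congrArg _ e⟩⟩
theorem J2_surj : Function.Surjective fun p : (F4 × F4) × F4 × Fin 3 × Option F4 =>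
    (⟨D.x3 p.1.1 * D.y p.1.2 * (D.xb p.2.1 * D.hb ^ (p.2.2.1 : ℕ) * p.2.2.2.elim 1 fun t => D.nb * D.xb t),
      mul_mem (D.VV_le_J2 (D.mem_VV.2 ⟨_, _, rfl⟩)) (mul_mem (mul_mem (D.xb_J2 _) (pow_mem D.hb_J2 _)) (by
        cases p.2.2.2
        exacts [one_mem _, mul_mem D.nb_J2 (D.xb_J2 _)]))⟩ : D.J2) := fun j => by
  obtain ⟨g, hg, s, i, hi, e⟩ := D.J2_dec j.2
  obtain ⟨u, r, rfl⟩ := D.mem_VV.1 hg
  rcases e with e | ⟨t, e⟩
  exacts [⟨((u, r), s, ⟨i, hi⟩, none), Subtype.ext (by rw [e]; simp)⟩,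
    ⟨((u, r), s, ⟨i, hi⟩, some t), Subtype.ext (by rw [e]; simp [mul_assoc])⟩]
theorem fin_J2 : Finite D.J2 := Finite.of_surjective _ D.J2_surj
theorem card_J2 : Nat.card D.J2 ≤ 960 :=
  (Nat.card_le_card_of_surjective _ D.J2_surj).trans (by simp [card_eq])
theorem card_CX : Nat.card (centralizer ({D.x2 1} : Set M)) ≤ 3840 := by
  have := D.fin_J2
  refine (Nat.card_le_card_of_surjective (fun p : F4 × D.J2 => ⟨D.x2 p.1 * p.2, mem_centralizer_singleton_iff.2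
    ((ad_comm D.x2_add _ _).mul_left (D.J2_x2 p.2.2 1))⟩) fun g => ?_).trans ?_
  · obtain ⟨c, j, hj, e⟩ := D.mem_CX (mem_centralizer_singleton_iff.1 g.2)
    exact ⟨(c, ⟨j, hj⟩), Subtype.ext e.symm⟩
  · have := D.card_J2
    rw [Nat.card_prod, Nat.card_eq_fintype_card, card_eq]
    omega
theorem comm_CX : ⁅centralizer ({D.x2 1} : Set M), centralizer ({D.x2 1} : Set M)⁆ ≤ D.J2 := commutator_le.2 fun a ha b hb => by
  obtain ⟨c, j, hj, rfl⟩ := D.mem_CX (mem_centralizer_singleton_iff.1 ha)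
  obtain ⟨d, k, hk, rfl⟩ := D.mem_CX (mem_centralizer_singleton_iff.1 hb)
  rw [commutatorElement_def, show D.x2 c * j * (D.x2 d * k) * (D.x2 c * j)⁻¹ * (D.x2 d * k)⁻¹ = j * k * j⁻¹ * k⁻¹ by
    rw [mul_inv_eq_iff_eq_mul, mul_inv_eq_iff_eq_mul]
    simp only [mul_assoc, (D.J2_x2 hj _).left_comm, (D.J2_x2 hk _).left_comm, (D.J2_x2 (inv_mem hj) _).left_comm,
      (D.J2_x2 (inv_mem hk) _).left_comm, inv_mul_cancel_left, inv_mul_cancel, mul_one, (D.J2_x2 hk c).eq,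
      (ad_comm D.x2_add c d).left_comm]]
  exact mul_mem (mul_mem (mul_mem hj hk) (inv_mem hj)) (inv_mem hk)
theorem J2_perf : D.J2 ≤ ⁅D.J2, D.J2⁆ := by
  refine (closure_le _).2 ?_
  rintro _ (((⟨t, rfl⟩ | ⟨t, rfl⟩) | ⟨t, rfl⟩) | ⟨t, rfl⟩)
  exacts [B3.comm D.x3_add D.hb_J2 (fun _ => D.VV_le_J2 (subset_closure (.inl ⟨_, rfl⟩))) D.hb_3 (by decide) t,
    B3.comm D.y_add D.hb_J2 (fun _ => D.VV_le_J2 (subset_closure (.inr ⟨_, rfl⟩))) D.hb_y (by decide) t,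
    B3.comm D.xb_add D.hb_J2 D.xb_J2 D.hb_b (by decide) t, B3.comm D.mb_add D.hb_J2 D.mb_J2 D.hb_mb (by decide) t]
theorem J2_inv : D.J2 ≤ closure {j | j ∈ D.J2 ∧ j * j = 1} := closure_mono fun g hg => ⟨subset_closure hg, by
  rcases hg with ((⟨t, rfl⟩ | ⟨t, rfl⟩) | ⟨t, rfl⟩) | ⟨t, rfl⟩
  exacts [ad_sq D.x3_add t, ad_sq D.y_add t, ad_sq D.xb_add t, ad_sq D.mb_add t]⟩
/-- `C_{J2}(VV) = VV` -/
theorem CV {j : M} (hj : j ∈ D.J2) (h : ∀ g ∈ D.VV, Commute j g) : j ∈ D.VV := by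
  obtain ⟨g, hg, s, i, hi, e⟩ := D.J2_dec hj
  have k : ∀ l, j = g * l → ∀ u t, l * (D.x3 u * D.y t) * l⁻¹ = D.x3 u * D.y t := fun l e u t => by
    have m := D.mem_VV.2 ⟨u, t, rfl⟩
    have := (D.VV_comm (inv_mem hg) m).mul_left (h _ m)
    rw [e, inv_mul_cancel_left] at this
    rw [this.eq, mul_inv_cancel_right]
  have c : ∀ a b g : M, a * b * g * (a * b)⁻¹ = a * (b * g * b⁻¹) * a⁻¹ := fun a b g => by group
  rcases e with e | ⟨t, e⟩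
  · have := k _ e 1 0
    rw [c, D.hb_vv, D.xb_vv] at this
    obtain ⟨rfl, rfl⟩ := (by decide : ∀ s, ∀ i < 3, v ^ i * 1 = 1 ∧ v ^ i * 1 * s + w ^ i * 0 = 0 → s = 0 ∧ i = 0)
      s i hi (D.vv_inj this)
    rwa [e, ad_zero D.xb_add, pow_zero, mul_one, mul_one]
  · have := k _ e 0 1
    rw [c, c, c, D.xb_vv, D.nb_vv, D.hb_vv, D.xb_vv] at this
    exact absurd (D.vv_inj this).1 (by simp)
theorem tr_VV' {g : M} (hg : g ∈ D.VV) (h1 : g ≠ 1) : ∃ l ∈ D.J2, l * g * l⁻¹ = D.y 1 := by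
  have k : ∀ t, t ≠ 0 → ∃ l ∈ D.J2, l * D.y t * l⁻¹ = D.y 1 := fun t ht => by
    cases t
    exacts [absurd rfl ht, ⟨1, one_mem _, by rw [one_mul, inv_one, mul_one]; rfl⟩,
      ⟨D.hb⁻¹, inv_mem D.hb_J2, by rw [show w = w * 1 from rfl, ← D.hb_y]; group⟩, ⟨_, D.hb_J2, D.hb_y _⟩]
  obtain ⟨u, t, rfl⟩ := D.mem_VV.1 hg
  by_cases hu : u = 0
  · rw [hu, ad_zero D.x3_add, one_mul] at h1 ⊢
    exact k t fun e => h1 (e ▸ ad_zero D.y_add)
  obtain ⟨l, hl, e⟩ := k u hu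
  refine ⟨l * D.nb * D.xb (u⁻¹ * t), mul_mem (mul_mem hl D.nb_J2) (D.xb_J2 _), ?_⟩
  calc _ = l * (D.nb * (D.xb (u⁻¹ * t) * (D.x3 u * D.y t) * (D.xb (u⁻¹ * t))⁻¹) * D.nb⁻¹) * l⁻¹ := by group
    _ = _ := by rw [D.xb_vv, mul_inv_cancel_left₀ hu, f4_add_self, D.nb_vv, ad_zero D.x3_add, one_mul, e]
theorem N2' {B : Subgroup M} (hB : B ≤ D.J2) (hn : D.J2 ≤ normalizer (B : Set M)) (h : B ≠ ⊥) : D.VV ≤ B := by
  obtain ⟨g, g1, g2, g3⟩ : ∃ g ∈ B, g ∈ D.VV ∧ g ≠ 1 := by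
    obtain ⟨⟨b, hb⟩, b1⟩ := ne_bot_iff_exists_ne_one.1 h
    by_cases m : b ∈ D.VV
    · exact ⟨b, hb, m, fun e => b1 (Subtype.ext e)⟩
    obtain ⟨g, hg, c⟩ : ∃ g ∈ D.VV, ¬ Commute b g := by
      by_contra! c
      exact m (D.CV (hB hb) c)
    exact ⟨b * g * b⁻¹ * g⁻¹, by simpa [mul_assoc] using mul_mem hb (MSS.conj_mem_of_normalizes hn
      (D.VV_le_J2 hg) (inv_mem hb)), mul_mem (MSS.conj_mem_of_normalizes D.J2_norm (hB hb) hg) (inv_mem hg),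
      fun e => c (commutatorElement_eq_one_iff_commute.1 e)⟩
  intro a ha
  by_cases a1 : a = 1
  · exact a1 ▸ one_mem _
  obtain ⟨l, hl, e⟩ := D.tr_VV' g2 g3
  obtain ⟨k, hk, e'⟩ := D.tr_VV' ha a1
  exact (mem_normalizer_iff.1 (hn hk) a).2 (e' ▸ e ▸ MSS.conj_mem_of_normalizes hn hl g1)
/-- a nontrivial normal subgroup of `J2` meets `Y` -/
theorem N2 {B : Subgroup M} (hB : B ≤ D.J2) (hn : D.J2 ≤ normalizer (B : Set M)) (h : B ≠ ⊥) :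
    ∃ t, t ≠ 0 ∧ D.y t ∈ B :=
  ⟨1, one_ne_zero, D.N2' hB hn h (subset_closure (.inr ⟨1, rfl⟩))⟩
/-- `O₂(J2) = VV` -/
theorem O2J2 {B : Subgroup M} (hB : B ≤ D.J2) (hn : D.J2 ≤ normalizer (B : Set M))
    (hp : IsPGroup 2 B) : B ≤ D.VV := by
  have := D.fin_J2
  have : Finite B := Finite.of_injective _ (inclusion_injective hB)
  have : Fact (Nat.Prime 2) := ⟨Nat.prime_two⟩
  rcases bot_or_nontrivial B with rfl | h
  · exact bot_le
  have := hp.center_nontrivial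
  obtain ⟨⟨z, hz⟩, z1⟩ := exists_ne (1 : center B)
  have := D.N2' (B := B ⊓ centralizer B) (inf_le_left.trans hB)
    (MSS.le_normalizer_inf hn (MSS.le_normalizer_centralizer hn)) (ne_bot_iff_exists_ne_one.2
      ⟨⟨z, z.2, fun b hb => congrArg Subtype.val (mem_center_iff.1 hz ⟨b, hb⟩)⟩,
        fun e => z1 (Subtype.ext (Subtype.ext (Subtype.ext_iff.1 e :)))⟩)
  exact fun b hb => D.CV (hB hb) fun g hg => (this hg).2 b hb
theorem tr_VV {g : M} (hg : g ∈ D.VV) (h1 : g ≠ 1) : ∃ l ∈ D.J2, l * g * l⁻¹ = D.y 1 := D.tr_VV' hg h1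
theorem C_xb {g : M} (hg : g ∈ D.VV) (h : Commute g (D.xb 1)) : ∃ t, g = D.y t := by
  obtain ⟨u, t, rfl⟩ := D.mem_VV.1 hg
  have := D.xb_vv 1 u t
  rw [← h.eq, mul_inv_cancel_right, mul_one] at this
  exact ⟨t, by rw [right_eq_add.1 (D.vv_inj this).2, ad_zero D.x3_add, one_mul]⟩
/-- `C(x₂ 1) ∩ C(J2) = X` -/
theorem CJ2 {a : M} (h1 : Commute a (D.x2 1)) (h : ∀ j ∈ D.J2, Commute a j) : ∃ c, a = D.x2 c := by
  obtain ⟨c, j, hj, rfl⟩ := D.mem_CX h1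
  have k : ∀ l ∈ D.J2, Commute j l := fun l hl => by
    simpa using (D.J2_x2 hl c).symm.inv_left.mul_left (h l hl)
  obtain ⟨t, rfl⟩ := D.C_xb (D.CV hj fun g hg => k g (D.VV_le_J2 hg)) (k _ (D.xb_J2 1))
  have := D.nb_vv 0 t
  rw [ad_zero D.x3_add, one_mul, ← (k _ D.nb_J2).eq, mul_inv_cancel_right, ← one_mul (D.y t),
    ← ad_zero D.x3_add] at this
  exact ⟨c, by rw [(D.vv_inj this).2, ad_zero D.y_add, mul_one]⟩

end Dat
end CL.Co1S
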