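import Cfsg.Agent.SPOR.F4
import Cfsg.Agent.INV.NCA.Def
import Cfsg.Agent.SPOR.ES2

/-!
# A standard subgroup `G₂(4)` whose centraliser contains a four-group: definitions

* `V = F₄⁶` with coordinates `(α, β, c₀, c₁, c₂, c₃)`, quadratic form `qf`, polar form `bf`, the
  semilinear involution `kap`, and the action `P` of `S₈` (`V` = sum-zero vectors of `F₄⁸` modulo
  constants, `emb` and `pr` are the two identifications).
* `Dat M` : the Chevalley data of `M = G₂(4)`; roots `a` (short), `b` (long), `1 = a+b`, `2 = 2a+b`,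
  `3 = 3a+b`, `y = 3a+2b`, `ma = -a`, `mb = -b`.
* `St ι` : the image of `ι` is standard, with a four-group in its centraliser.
-/

set_option autoImplicit false
open Subgroup CL.NCA

namespace CL.Co1S

open F4

universe u u'

/-! ## the model -/

abbrev V := Fin 6 → F4
abbrev S8 := Equiv.Perm (Fin 8)
abbrev A8 : Subgroup S8 := alternatingGroup (Fin 8)

def qf (x : V) : F4 := x 0 * x 1 + x 2 * x 5 + x 3 * x 4
def bf (x y : V) : F4 :=
  x 0 * y 1 + x 1 * y 0 + x 2 * y 5 + x 5 * y 2 + x 3 * y 4 + x 4 * y 3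
def kap (x : V) : V := ![x 1 ^ 2, x 0 ^ 2, x 2 ^ 2, x 4 ^ 2, x 3 ^ 2, x 5 ^ 2]
def emb (x : V) : Fin 8 → F4 :=
  ![x 2 + w * x 3 + v * x 4 + x 5, x 2 + v * x 3 + w * x 4 + x 5, x 2 + x 3 + x 4 + x 5, x 5, x 2,
    x 0 + x 1, w * x 0 + v * x 1, v * x 0 + w * x 1]
def pr (x : Fin 8 → F4) : V :=
  ![x 5 + v * x 6 + w * x 7, x 5 + w * x 6 + v * x 7, x 0 + x 1 + x 2 + x 3,
    v * x 0 + w * x 1 + x 2, w * x 0 + v * x 1 + x 2, x 0 + x 1 + x 2 + x 4]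
/-- the action of `S₈` on `V` -/
def P (σ : S8) (x : V) : V := pr fun i => emb x (σ⁻¹ i)

/-- the class of `r(1)`, of type `(5,1,1,1)` -/
def rb : V := ![1, 0, 0, 0, 0, 0]
/-- the class of `e(1)` -/
def eb : V := ![0, 1, 0, 0, 0, 0]
/-- the class of `x₃(1)`, of type `(4,4)` -/
def sb : V := ![0, 0, 0, 0, 0, 1]
/-- a vector of type `(2,2,2,2)` -/
def ub : V := ![1, 0, 0, 0, 1, 0]
/-- even permutations fixing `5, 6, 7` -/
def A5 (σ : S8) : Prop := σ ∈ A8 ∧ σ 5 = 5 ∧ σ 6 = 6 ∧ σ 7 = 7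
/-- `(a b)(c d)` -/
def db (a b c d : Fin 8) : S8 := Equiv.swap a b * Equiv.swap c d

/-! ## the group `G₂(4)` -/

/-- Chevalley data of `G₂(4)` -/
structure Dat (M : Type u) [Group M] where
  xa : F4 → M
  xb : F4 → M
  x1 : F4 → M
  x2 : F4 → M
  x3 : F4 → M
  y : F4 → M
  ma : F4 → M
  mb : F4 → M
  na : M
  nb : M
  ha : M
  hb : M
  φ : M ≃* M
  xa_add : ∀ s t, xa (s + t) = xa s * xa t
  xb_add : ∀ s t, xb (s + t) = xb s * xb t
  x1_add : ∀ s t, x1 (s + t) = x1 s * x1 t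
  x2_add : ∀ s t, x2 (s + t) = x2 s * x2 t
  x3_add : ∀ s t, x3 (s + t) = x3 s * x3 t
  y_add : ∀ s t, y (s + t) = y s * y t
  ma_add : ∀ s t, ma (s + t) = ma s * ma t
  mb_add : ∀ s t, mb (s + t) = mb s * mb t
  y_ne : y 1 ≠ 1
  c_b1 : ∀ s t, Commute (xb s) (x1 t)
  c_b2 : ∀ s t, Commute (xb s) (x2 t)
  c_13 : ∀ s t, Commute (x1 s) (x3 t)
  c_23 : ∀ s t, Commute (x2 s) (x3 t)
  c_a3 : ∀ s t, Commute (xa s) (x3 t)
  c_ya : ∀ s t, Commute (y s) (xa t)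
  c_yb : ∀ s t, Commute (y s) (xb t)
  c_y1 : ∀ s t, Commute (y s) (x1 t)
  c_y2 : ∀ s t, Commute (y s) (x2 t)
  c_y3 : ∀ s t, Commute (y s) (x3 t)
  r_3b : ∀ s t, x3 s * xb t = xb t * x3 s * y (s * t)
  r_21 : ∀ s t, x2 s * x1 t = x1 t * x2 s * y (s * t)
  a_b : ∀ t u, xa t * xb u * (xa t)⁻¹ =
    xb u * x1 (t * u) * x2 (t ^ 2 * u) * x3 (t ^ 3 * u) * y (t ^ 3 * u ^ 2)
  a_1 : ∀ t u, xa t * x1 u * (xa t)⁻¹ = x1 u * x3 (t ^ 2 * u) * y (t * u ^ 2)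
  a_2 : ∀ t u, xa t * x2 u * (xa t)⁻¹ = x2 u * x3 (t * u)
  na_eq : na = xa 1 * ma 1 * xa 1
  nb_eq : nb = xb 1 * mb 1 * xb 1
  na_a : ∀ t, na * xa t * na⁻¹ = ma t
  na_b : ∀ t, na * xb t * na⁻¹ = x3 t
  na_1 : ∀ t, na * x1 t * na⁻¹ = x2 t
  na_y : ∀ t, na * y t * na⁻¹ = y t
  nb_a : ∀ t, nb * xa t * nb⁻¹ = x1 t
  nb_b : ∀ t, nb * xb t * nb⁻¹ = mb t
  nb_2 : ∀ t, nb * x2 t * nb⁻¹ = x2 t
  nb_3 : ∀ t, nb * x3 t * nb⁻¹ = y t
  ha_eq : ha = xa w * ma v * xa w * na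
  ha_sq : ha * ha = xa v * ma w * xa v * na
  hb_eq : hb = xb w * mb v * xb w * nb
  hb_sq : hb * hb = xb v * mb w * xb v * nb
  ha3 : ha ^ 3 = 1
  hb3 : hb ^ 3 = 1
  hab : Commute ha hb
  na_ha : na * ha * na⁻¹ = ha * ha
  na_hb : na * hb * na⁻¹ = ha * hb
  nb_ha : nb * ha * nb⁻¹ = ha
  nb_hb : nb * hb * nb⁻¹ = hb * hb
  ha_a : ∀ t, ha * xa t * ha⁻¹ = xa (v * t)
  ha_b : ∀ t, ha * xb t * ha⁻¹ = xb t
  ha_1 : ∀ t, ha * x1 t * ha⁻¹ = x1 (v * t)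
  ha_2 : ∀ t, ha * x2 t * ha⁻¹ = x2 (w * t)
  ha_3 : ∀ t, ha * x3 t * ha⁻¹ = x3 t
  ha_y : ∀ t, ha * y t * ha⁻¹ = y t
  ha_ma : ∀ t, ha * ma t * ha⁻¹ = ma (w * t)
  ha_mb : ∀ t, ha * mb t * ha⁻¹ = mb t
  hb_a : ∀ t, hb * xa t * hb⁻¹ = xa (v * t)
  hb_b : ∀ t, hb * xb t * hb⁻¹ = xb (v * t)
  hb_1 : ∀ t, hb * x1 t * hb⁻¹ = x1 (w * t)
  hb_2 : ∀ t, hb * x2 t * hb⁻¹ = x2 t
  hb_3 : ∀ t, hb * x3 t * hb⁻¹ = x3 (v * t)
  hb_y : ∀ t, hb * y t * hb⁻¹ = y (w * t)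
  hb_ma : ∀ t, hb * ma t * hb⁻¹ = ma (w * t)
  hb_mb : ∀ t, hb * mb t * hb⁻¹ = mb (w * t)
  φ_a : ∀ t, φ (xa t) = xa (t ^ 2)
  φ_b : ∀ t, φ (xb t) = xb (t ^ 2)
  φ_1 : ∀ t, φ (x1 t) = x1 (t ^ 2)
  φ_2 : ∀ t, φ (x2 t) = x2 (t ^ 2)
  φ_3 : ∀ t, φ (x3 t) = x3 (t ^ 2)
  φ_y : ∀ t, φ (y t) = y (t ^ 2)
  φ_ma : ∀ t, φ (ma t) = ma (t ^ 2)
  φ_mb : ∀ t, φ (mb t) = mb (t ^ 2)
  simple : IsSimpleGroup M
  gen : closure (Set.range xa ∪ Set.range ma ∪ Set.range xb ∪ Set.range mb) = ⊤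
  cls : ∀ g : M, g * g = 1 → g ≠ 1 → IsConj (y 1) g ∨ IsConj (x2 1) g
  ncls : ¬ IsConj (y 1) (x2 1)
  cenY : centralizer {y 1} = closure (Set.range xa ∪ Set.range xb ∪ Set.range x1 ∪ Set.range x2 ∪
    Set.range x3 ∪ Set.range y ∪ Set.range ma)
  cenX : centralizer {x2 1} =
    closure (Set.range x2 ∪ Set.range x3 ∪ Set.range y ∪ Set.range xb ∪ Set.range mb)
  aut : ∀ θ : M ≃* M, ∃ a, (∀ g, θ g = a * g * a⁻¹) ∨ (∀ g, θ g = a * φ g * a⁻¹)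

/-- the image of an additive map `F₄ → G` -/
def rg {G : Type u} [Group G] (f : F4 → G) (hf : ∀ s t, f (s + t) = f s * f t) : Subgroup G where
  carrier := Set.range f
  one_mem' := ⟨0, by simpa using hf 0 0⟩
  mul_mem' := by rintro _ _ ⟨s, rfl⟩ ⟨t, rfl⟩; exact ⟨_, hf s t⟩
  inv_mem' := by
    rintro _ ⟨s, rfl⟩
    refine ⟨s, eq_inv_of_mul_eq_one_left ?_⟩
    rw [← hf, show s + s = 0 by revert s; decide]
    simpa using hf 0 0

namespace Dat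

variable {M : Type u} [Group M] (D : Dat M)

/-- the element of `Q_A` with coordinates `c₀, …, c₃` (the coordinates `α, β` are ignored) -/
def qa (x : V) : M := D.xb (x 2) * D.x1 (x 3) * D.x2 (x 4) * D.x3 (x 5)
/-- the torus element centralising `L`; it acts as `w` on `Q_A / Y` and as `v` on `Y` -/
def h : M := D.ha * D.hb * D.hb
/-- the long root subgroup `Y` -/
def Y : Subgroup M := rg D.y D.y_add
/-- the short root subgroup `X` -/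
def X : Subgroup M := rg D.x2 D.x2_add
/-- `Q_A = O₂(J)`, of order `2 ^ 10` -/
def QA : Subgroup M := closure (Set.range D.xb ∪ Set.range D.x1 ∪ Set.range D.x2 ∪
  Set.range D.x3 ∪ Set.range D.y)
/-- `J = C(y 1) = Q_A L` -/
def J : Subgroup M := centralizer {D.y 1}
/-- `L = SL₂(4)` -/
def L : Subgroup M := closure (Set.range D.xa ∪ Set.range D.ma)
/-- `VV = X₃ Y` -/
def VV : Subgroup M := closure (Set.range D.x3 ∪ Set.range D.y)
/-- `J2 = VV · SL₂(4)`, with `C(x₂ 1) = X × J2` -/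
def J2 : Subgroup M := closure (Set.range D.x3 ∪ Set.range D.y ∪ Set.range D.xb ∪ Set.range D.mb)
/-- long root elements -/
def Long (g : M) : Prop := IsConj (D.y 1) g

end Dat

/-! ## standard embeddings -/

section st
variable {M : Type u} [Group M] {G : Type u'} [Group G]

/-- the centraliser of the image -/
def KK (ι : M →* G) : Subgroup G := centralizer (ι.range : Set G)
/-- the normaliser of the image -/
def NN (ι : M →* G) : Subgroup G := normalizer (ι.range : Set G)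
/-- the conjugate embedding -/
def cj (g : G) (ι : M →* G) : M →* G := (MulAut.conj g).toMonoidHom.comp ι

@[simp] theorem cj_apply (g : G) (ι : M →* G) (m : M) : cj g ι m = g * ι m * g⁻¹ := rfl

/-- the image of `ι` is standard and its centraliser contains a four-group -/
structure St (ι : M →* G) : Prop where
  inj : Function.Injective ι
  ti : ∀ g t, t ∈ KK ι → g * t * g⁻¹ ∈ KK ι → t * t = 1 → t ≠ 1 → g ∈ NN ι
  nc : ∀ g, ¬ ∀ m, g * ι m * g⁻¹ ∈ KK ι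
  four : ∃ r ∈ KK ι, ∃ s ∈ KK ι, Four r s

end st

/-- a standard `G₂(4)` -/
structure Su (M : Type u) [Group M] (G : Type u') [Group G] where
  D : Dat M
  ι : M →* G
  st : St ι

namespace Su
variable {M : Type u} [Group M] {G : Type u'} [Group G] (Γ : Su M G)
abbrev K : Subgroup G := KK Γ.ι
abbrev N : Subgroup G := NN Γ.ι
abbrev y (t : F4) : G := Γ.ι (Γ.D.y t)
abbrev xa (t : F4) : G := Γ.ι (Γ.D.xa t)
abbrev xb (t : F4) : G := Γ.ι (Γ.D.xb t)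
abbrev x1 (t : F4) : G := Γ.ι (Γ.D.x1 t)
abbrev x2 (t : F4) : G := Γ.ι (Γ.D.x2 t)
abbrev x3 (t : F4) : G := Γ.ι (Γ.D.x3 t)
abbrev qa (x : V) : G := Γ.ι (Γ.D.qa x)
abbrev na : G := Γ.ι Γ.D.na
abbrev nb : G := Γ.ι Γ.D.nb
abbrev h : G := Γ.ι Γ.D.h
end Su

/-- a conjugate of `K` contains the four-group `{r a · y a}` -/
structure Cf (M : Type u) [Group M] (G : Type u') [Group G] extends Su M G where
  r : F4 → G
  g : G
  r_add : ∀ s t, r (s + t) = r s * r t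
  rK : ∀ a, r a ∈ KK ι
  gN : g ∉ NN ι
  ry : ∀ a, r a * ι (D.y a) ∈ KK (cj g ι)

/-- the four-group `R`, the odd group `O` with `C_K(r a) = C_O(r a) R` -/
structure Ro (M : Type u) [Group M] (G : Type u') [Group G] extends Su M G where
  r : F4 → G
  O : Subgroup G
  r_add : ∀ s t, r (s + t) = r s * r t
  rK : ∀ a, r a ∈ KK ι
  r_ne : ∀ a, r a = 1 → a = 0
  OK : O ≤ KK ι
  Oodd : Odd (Nat.card O)
  rO : ∀ a, r a ∈ normalizer (O : Set G)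
  cenK : ∀ k ∈ KK ι, ∀ a, a ≠ 0 → Commute k (r a) → ∃ o ∈ O, ∃ b, k = o * r b

/-- an element moving the block `K` to the next one -/
structure Bl (M : Type u) [Group M] (G : Type u') [Group G] extends Ro M G where
  u : G
  uO : u ∈ centralizer (O : Set G)
  uY : ∀ t, Commute u (ι (D.y t))
  ur : ∀ a, u * r a * u⁻¹ = r a * ι (D.y a)
  uJ : ∀ j ∈ D.J, ∃ q ∈ D.QA, u * ι j * u⁻¹ = ι (q * j)

/-- the elements `e b` -/
structure Wd (M : Type u) [Group M] (G : Type u') [Group G] extends Ro M G where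
  e : F4 → G
  s : F4
  ε : F4 → F4 → F4
  e_zero : e 0 = 1
  e_mul : ∀ b b', e b * e b' = e (b + b') * ι (D.y (ε b b'))
  ε_self : ∀ b, ε b b = s * b
  ε_comm : ∀ b b', ε b b' = ε b' b
  eO : ∀ b, e b ∈ centralizer (O : Set G)
  eJ : ∀ b, ∀ j ∈ D.J, Commute (e b) (ι j)
  er : ∀ a b, e b * r a * (e b)⁻¹ = r a * ι (D.y (a * b))
  he : ∀ b, ι D.h * e b * (ι D.h)⁻¹ = e (v * b)

namespace Wd
variable {M : Type u} [Group M] {G : Type u'} [Group G] (Γ : Wd M G)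
/-- the standard lift of a vector -/
def el (x : V) : G := Γ.r (x 0) * Γ.e (x 1) * Γ.qa x
/-- the elements `w_β = n_b e(β) n_b⁻¹` -/
def wb (β : F4) : G := Γ.nb * Γ.e β * Γ.nb⁻¹
/-- the group `W` of order `2 ^ 14` -/
def W : Subgroup G := closure (Set.range Γ.el ∪ Set.range Γ.y)
open Classical in
/-- the class in `V = W / Y` -/
noncomputable def cl (g : G) : V := if h : ∃ x t, g = Γ.el x * Γ.y t then h.choose else 0
end Wd

/-- the final frame: all relations are exact -/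
structure Fr (M : Type u) [Group M] (G : Type u') [Group G] extends Wd M G where
  c : F4
  s0 : s = 0
  ε0 : ∀ b b', ε b b' = 0
  rC : ∀ a, r a ∈ centralizer (O : Set G)
  we : ∀ β b, toWd.wb β * e b * (toWd.wb β)⁻¹ = e b * ι (D.x3 (β ^ 2 * b)) * ι (D.y (β * b ^ 2))
  wx : ∀ β u, toWd.wb β * ι (D.xb u) * (toWd.wb β)⁻¹ =
    ι (D.xb u) * r (β ^ 2 * u) * e (β * u) * ι (D.x3 (β ^ 3 * u)) * ι (D.y (c * β * u))

/-! ## the abstract configurations -/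

/-- `W = 2^(2+12)` with `N(W) ∩ C(Y)` acting as `A₈` -/
structure AS (G : Type u') [Group G] where
  y : F4 → G
  W : Subgroup G
  O : Subgroup G
  cl : G → V
  π : G → S8
  y_add : ∀ s t, y (s + t) = y s * y t
  y_ne : ∀ t, y t = 1 → t = 0
  yW : ∀ t, y t ∈ W
  Wy : ∀ g ∈ W, ∀ t, Commute g (y t)
  cl_mul : ∀ g ∈ W, ∀ g' ∈ W, cl (g * g') = cl g + cl g'
  cl_y : ∀ t, cl (y t) = 0
  cl_zero : ∀ g ∈ W, cl g = 0 → ∃ t, g = y t
  cl_surj : ∀ x, ∃ g ∈ W, cl g = x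
  sq : ∀ g ∈ W, g * g = y (qf (cl g))
  cm : ∀ g ∈ W, ∀ g' ∈ W, g * g' = g' * g * y (bf (cl g) (cl g'))
  Oodd : Odd (Nat.card O)
  OW : O ≤ centralizer (W : Set G)
  π_mul : ∀ n ∈ normalizer (W : Set G) ⊓ centralizer (Set.range y),
    ∀ n' ∈ normalizer (W : Set G) ⊓ centralizer (Set.range y), π (n * n') = π n * π n'
  π_mem : ∀ n, π n ∈ A8
  π_surj : ∀ σ ∈ A8, ∃ n ∈ normalizer (W : Set G) ⊓ centralizer (Set.range y),
    n ∈ centralizer (O : Set G) ∧ π n = σ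
  act : ∀ n ∈ normalizer (W : Set G) ⊓ centralizer (Set.range y), ∀ g ∈ W,
    cl (n * g * n⁻¹) = P (π n) (cl g)
  ker : ∀ n ∈ normalizer (W : Set G) ⊓ centralizer (Set.range y), π n = 1 →
    ∃ g ∈ W, ∃ o ∈ O, n = g * o
  cen : ∀ g ∈ centralizer (Set.range y), ∀ r ∈ W, cl r = rb → (∃ t, g * r * g⁻¹ = r * y t) →
    g ∈ normalizer (W : Set G)
  inv : ∃ t ∈ normalizer (W : Set G) ⊓ centralizer (Set.range y), t * t = 1 ∧ π t ≠ 1

namespace AS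
variable {G : Type u'} [Group G] (S : AS G)
/-- `Y = Z(W)` -/
def Y : Subgroup G := rg S.y S.y_add
/-- `N(W) ∩ C(Y)` -/
abbrev N1 : Subgroup G := normalizer (S.W : Set G) ⊓ centralizer (Set.range S.y)
/-- the sixteen elements `x₃(u) y(t)` -/
def VV (g : G) : Prop := g ∈ S.W ∧ ∃ u : F4, S.cl g = u • sb
/-- the eight elements of `VV` perpendicular to `z = y 1` -/
def Vz (g : G) : Prop := g ∈ S.W ∧ (S.cl g = 0 ∨ S.cl g = sb)
end AS

/-- the elements `j` (field automorphism) and `l` (a transvection of `VV`) -/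
structure AJ (G : Type u') [Group G] extends AS G where
  j : G
  l : G
  nY : normalizer (Set.range y) ≤ normalizer (W : Set G)
  jy : ∀ t, j * y t * j⁻¹ = y (t ^ 2)
  jO : j ∈ centralizer (O : Set G)
  jcl : ∀ g ∈ W, cl (j * g * j⁻¹) = kap (cl g)
  lO : l ∈ centralizer (O : Set G)
  lz : Commute l (y 1)
  lV : ∀ g, toAS.VV g → toAS.VV (l * g * l⁻¹)
  lVz : ∀ g, toAS.Vz g → toAS.Vz (l * g * l⁻¹)
  ly : cl (l * y w * l⁻¹) = sb
  zy : IsConj (y 1) (y w)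
  vv : ∀ σ ∈ [db 0 1 2 3, db 0 2 1 3, db 4 5 6 7, db 4 6 5 7], ∃ n ∈ toAS.N1,
    (∀ g, toAS.VV g → Commute n g) ∧ π n = σ

/-- the extraspecial group `Q` of order `2 ^ 9` -/
structure XS (G : Type u') [Group G] where
  z : G
  y0 : G
  r : G
  Q : Subgroup G
  O : Subgroup G
  es : LX.ES Q z
  yQ : y0 ∈ Q
  y2 : y0 * y0 = 1
  y1 : y0 ≠ 1
  yz : y0 ≠ z
  zy : IsConj z y0
  card : Nat.card Q = 512
  plus : ∃ E ≤ Q, (∀ a ∈ E, a * a = 1) ∧ Nat.card E = 32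
  Oodd : Odd (Nat.card O)
  OQ : O ≤ centralizer (Q : Set G)
  tr : ∀ s ∈ Q, s * s = 1 → s ≠ 1 → s ≠ z → ∃ g ∈ normalizer (Q : Set G), g * y0 * g⁻¹ = s
  nY : ∀ g, Commute g z → (g * y0 * g⁻¹ = y0 ∨ g * y0 * g⁻¹ = y0 * z) → g ∈ normalizer (Q : Set G)
  ker : ∀ g ∈ normalizer (Q : Set G), (∀ q ∈ Q, g * q * g⁻¹ = q ∨ g * q * g⁻¹ = q * z) →
    ∃ q ∈ Q, ∃ o ∈ O, g = q * o
  cardC : Nat.card (centralizer ({z, y0} : Set G)) = 2 ^ 14 * 20160 * Nat.card O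
  rN : r ∈ normalizer (Q : Set G)
  rO : r ∈ centralizer (O : Set G)
  r2 : r * r = 1
  rQ : r ∉ Q

end CL.Co1S
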