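import Cfsg.Agent.INV.CO1.Defs

/-! The model `V = F₄⁶` of the `A₈`-module `W / Y`. -/

set_option autoImplicit false
set_option maxHeartbeats 200000
set_option synthInstance.maxSize 2000
open Subgroup

namespace CL.Co1S
open F4

/-- the permutations induced by `x_a(t)` -/
def pa : F4 → S8 | o => 1 | l => db 0 1 2 3 | w => db 0 2 1 3 | v => db 0 3 1 2
/-- the permutations induced by `w_β` -/
def pw : F4 → S8 | o => 1 | l => db 4 5 6 7 | w => db 4 6 5 7 | v => db 4 7 5 6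
/-- the 3-cycle `a ↦ b ↦ c ↦ a` -/
def c3 (a b c : Fin 8) : S8 := Equiv.swap a c * Equiv.swap a b
/-- the orbit of `rb` (336 vectors) -/
def T3 (x : V) : Prop := ∃ σ ∈ A8, P σ rb = x

theorem f4_add_self (a : F4) : a + a = 0 := by revert a; decide

namespace Md

theorem two : (2 : F4) = 0 := by decide
theorem vw : v = w + 1 := by decide
theorem ww : w * w = w + 1 := by decide
theorem p4 (a : F4) : a ^ 4 = a := by revert a; decide

theorem V_eta (x : V) : x = ![x 0, x 1, x 2, x 3, x 4, x 5] := by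
  funext i; fin_cases i <;> rfl

theorem V_all {p : V → Prop} (h : ∀ a b c d e f : F4, p ![a, b, c, d, e, f]) (x : V) : p x := by
  rw [V_eta x]; exact h ..

theorem V_ext {x y : V} (h0 : x 0 = y 0) (h1 : x 1 = y 1) (h2 : x 2 = y 2) (h3 : x 3 = y 3) (h4 : x 4 = y 4)
    (h5 : x 5 = y 5) : x = y := by
  rw [V_eta x, V_eta y, h0, h1, h2, h3, h4, h5]

/-- `V` as a product -/
def eV : (F4 × F4 × F4 × F4 × F4 × F4) ≃ V where
  toFun t := ![t.1, t.2.1, t.2.2.1, t.2.2.2.1, t.2.2.2.2.1, t.2.2.2.2.2]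
  invFun x := (x 0, x 1, x 2, x 3, x 4, x 5)
  left_inv _ := rfl
  right_inv x := (V_eta x).symm

theorem card_sub {p : V → Prop} (q : F4 → F4 → F4 → F4 → F4 → F4 → Bool)
    (h : ∀ a b c d e f, p ![a, b, c, d, e, f] ↔ q a b c d e f = true) :
    Nat.card {x : V // p x} = ∑ a, ∑ b, ∑ c, ∑ d, ∑ e, ∑ f, if q a b c d e f then 1 else 0 := by
  rw [← Nat.card_congr (eV.subtypeEquiv (p := fun t => q t.1 t.2.1 t.2.2.1 t.2.2.2.1 t.2.2.2.2.1 t.2.2.2.2.2 = true)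
    fun _ => (h ..).symm), Nat.card_eq_fintype_card, Fintype.card_subtype, Finset.card_filter]
  simp only [Fintype.sum_prod_type]

/-- field arithmetic in `F₄` -/
macro "f4" : tactic => `(tactic| (have := two; have := vw; have := ww; grind))

def S0 (z : Fin 8 → F4) : Prop := z 0 + z 1 + z 2 + z 3 + z 4 + z 5 + z 6 + z 7 = 0

theorem s0_iff {z : Fin 8 → F4} : S0 z ↔ ∑ i, z i = 0 := by rw [S0, Fin.sum_univ_eight]

theorem S0.comp {z : Fin 8 → F4} (h : S0 z) (σ : S8) : S0 fun i => z (σ i) := by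
  rw [s0_iff] at h ⊢; rw [Equiv.sum_comp σ z, h]

theorem s0_emb (x : V) : S0 (emb x) := by
  simp only [S0, emb, Matrix.cons_val]; f4

theorem pr_emb (x : V) : pr (emb x) = x := by
  apply V_ext <;> simp only [pr, emb, Matrix.cons_val] <;> f4

theorem emb_pr {z : Fin 8 → F4} (h : S0 z) (i : Fin 8) : emb (pr z) i = z i + (z 0 + z 1 + z 2 + z 3 + z 4) := by
  unfold S0 at h
  fin_cases i <;> simp [pr, emb] <;> f4

theorem pr_const (z : Fin 8 → F4) (c : F4) : pr (fun i => z i + c) = pr z := by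
  apply V_ext <;> simp only [pr, Matrix.cons_val] <;> f4

theorem P_pr {z : Fin 8 → F4} (h : S0 z) (σ : S8) : P σ (pr z) = pr fun i => z (σ⁻¹ i) := by
  unfold P
  simp only [emb_pr h]
  exact pr_const _ _

theorem emb_P (σ : S8) (x : V) : ∃ c, ∀ i, emb (P σ x) i = emb x (σ⁻¹ i) + c :=
  ⟨_, emb_pr ((s0_emb x).comp σ⁻¹)⟩

theorem stab {σ : S8} {x : V} (h : P σ x = x) : ∃ c, ∀ i, emb x (σ i) = emb x i + c := by
  obtain ⟨c, hc⟩ := emb_P σ x
  exact ⟨c, fun i => by simpa [h] using hc (σ i)⟩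

theorem fix_of {σ : S8} {x : V} (h : ∀ i, emb x (σ⁻¹ i) = emb x i) : P σ x = x := by
  unfold P; simp only [h]; exact pr_emb x

theorem bf_pr {z z' : Fin 8 → F4} (h : S0 z) (h' : S0 z') : bf (pr z) (pr z') = ∑ i, z i * z' i := by
  unfold S0 at h h'
  rw [Fin.sum_univ_eight]
  simp only [bf, pr, Matrix.cons_val]
  f4

end Md
open Md

theorem V_add_self (x : V) : x + x = 0 := funext fun i => f4_add_self (x i)
theorem card_V : Nat.card V = 4096 := by simp [Nat.card_eq_fintype_card, card_eq]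
theorem bf_comm (x y : V) : bf x y = bf y x := by unfold bf; ring
theorem bf_self (x : V) : bf x x = 0 := by unfold bf; f4
theorem bf_add_left (x x' y : V) : bf (x + x') y = bf x y + bf x' y := by simp only [bf, Pi.add_apply]; ring
theorem bf_add_right (x y y' : V) : bf x (y + y') = bf x y + bf x y' := by simp only [bf, Pi.add_apply]; ring
theorem bf_smul_left (c : F4) (x y : V) : bf (c • x) y = c * bf x y := by
  simp only [bf, Pi.smul_apply, smul_eq_mul]; ring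
theorem bf_smul_right (c : F4) (x y : V) : bf x (c • y) = c * bf x y := by
  simp only [bf, Pi.smul_apply, smul_eq_mul]; ring
theorem qf_add (x y : V) : qf (x + y) = qf x + qf y + bf x y := by simp only [qf, bf, Pi.add_apply]; ring
theorem qf_smul (c : F4) (x : V) : qf (c • x) = c ^ 2 * qf x := by
  simp only [qf, Pi.smul_apply, smul_eq_mul]; ring
theorem bf_nondeg {x : V} (h : ∀ y, bf x y = 0) : x = 0 := by
  apply V_ext
  · simpa [bf] using h ![0, 1, 0, 0, 0, 0]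
  · simpa [bf] using h ![1, 0, 0, 0, 0, 0]
  · simpa [bf] using h ![0, 0, 0, 0, 0, 1]
  · simpa [bf] using h ![0, 0, 0, 0, 1, 0]
  · simpa [bf] using h ![0, 0, 0, 1, 0, 0]
  · simpa [bf] using h ![0, 0, 1, 0, 0, 0]
theorem bf_surj {x : V} (h : x ≠ 0) (t : F4) : ∃ y, bf x y = t := by
  obtain ⟨y, hy⟩ := not_forall.1 (mt bf_nondeg h)
  exact ⟨(t * (bf x y)⁻¹) • y, by rw [bf_smul_right, mul_assoc, inv_mul_cancel₀ hy, mul_one]⟩
/-- an additive bijection preserving `bf` is linear -/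
theorem lin_of_bf {f : V → V} (hs : Function.Surjective f) (h : ∀ x y, bf (f x) (f y) = bf x y)
    (c : F4) (x : V) : f (c • x) = c • f x := by
  have : f (c • x) + c • f x = 0 := bf_nondeg fun y => by
    obtain ⟨y, rfl⟩ := hs y
    rw [bf_add_left, bf_smul_left, h, h, bf_smul_left, f4_add_self]
  rw [← add_zero (f _), ← V_add_self (c • f x), ← add_assoc, this, zero_add]

theorem P_one (x : V) : P 1 x = x := pr_emb x
theorem P_mul (σ τ : S8) (x : V) : P (σ * τ) x = P σ (P τ x) := (P_pr ((s0_emb x).comp τ⁻¹) σ).symm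
theorem Md.emb_add (x y : V) (i : Fin 8) : emb (x + y) i = emb x i + emb y i := by
  fin_cases i <;> simp [emb] <;> ring
theorem Md.emb_smul (c : F4) (x : V) (i : Fin 8) : emb (c • x) i = c * emb x i := by
  fin_cases i <;> simp [emb] <;> ring
theorem P_add (σ : S8) (x y : V) : P σ (x + y) = P σ x + P σ y := by
  apply V_ext <;> simp only [P, pr, emb_add, Pi.add_apply, Matrix.cons_val] <;> ring
theorem P_smul (σ : S8) (c : F4) (x : V) : P σ (c • x) = c • P σ x := by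
  apply V_ext <;> simp only [P, pr, emb_smul, Pi.smul_apply, smul_eq_mul, Matrix.cons_val] <;> ring
theorem P_zero (σ : S8) : P σ 0 = 0 := by simpa using P_smul σ 0 0
theorem P_inv_P (σ : S8) (x : V) : P σ⁻¹ (P σ x) = x := by rw [← P_mul, inv_mul_cancel, P_one]
theorem P_P_inv (σ : S8) (x : V) : P σ (P σ⁻¹ x) = x := by rw [← P_mul, mul_inv_cancel, P_one]
theorem Md.P_of {σ : S8} (t : Fin 8 → Fin 8) (h : ∀ i, σ⁻¹ i = t i) (x : V) :
    P σ x = pr fun i => emb x (t i) := by simp only [P, h]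
theorem Md.qf_rot (x : V) : qf (P (finRotate 8) x) = qf x := by
  rw [P_of ![7, 0, 1, 2, 3, 4, 5, 6] (by decide)]
  simp only [qf, pr, emb, Matrix.cons_val]; f4
theorem Md.qf_sw (x : V) : qf (P (Equiv.swap 0 (finRotate 8 0)) x) = qf x := by
  rw [P_of ![1, 0, 2, 3, 4, 5, 6, 7] (by decide)]
  simp only [qf, pr, emb, Matrix.cons_val]; f4
theorem qf_P (σ : S8) (x : V) : qf (P σ x) = qf x := by
  have hσ : σ ∈ closure ({finRotate 8, Equiv.swap 0 (finRotate 8 0)} : Set S8) := by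
    rw [Equiv.Perm.closure_cycle_adjacent_swap isCycle_finRotate support_finRotate]; trivial
  induction hσ using closure_induction generalizing x with
  | mem σ h => rcases h with rfl | rfl; exacts [qf_rot x, qf_sw x]
  | one => rw [P_one]
  | mul a b _ _ ha hb => rw [P_mul, ha, hb]
  | inv a _ ha => rw [← ha, P_P_inv]
theorem bf_P (σ : S8) (x y : V) : bf (P σ x) (P σ y) = bf x y := by
  have := qf_P σ (x + y)
  rw [P_add, qf_add, qf_add, qf_P, qf_P] at this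
  exact add_left_cancel this
theorem Md.rb_fix {σ : S8} (e : P σ rb = rb) : σ 5 = 5 ∧ σ 6 = 6 ∧ σ 7 = 7 := by
  obtain ⟨c, hc⟩ := stab e
  have k1 : ∀ c, ∀ a b : Fin 8, a ≠ b → emb rb a = emb rb 0 + c → emb rb b = emb rb 1 + c → c = 0 := by
    decide +kernel
  have k2 : ∀ i ∈ [5, 6, 7], ∀ d, emb rb d = emb rb i + 0 → d = i := by decide +kernel
  obtain rfl := k1 c _ _ (σ.injective.ne (by decide)) (hc 0) (hc 1)
  exact ⟨k2 _ (by simp) _ (hc 5), k2 _ (by simp) _ (hc 6), k2 _ (by simp) _ (hc 7)⟩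
theorem P_faith {σ τ : S8} (h : ∀ x, P σ x = P τ x) : σ = τ := by
  ext i
  have := (rb_fix (σ := (Equiv.swap 5 i)⁻¹ * (τ⁻¹ * σ) * Equiv.swap 5 i)
    (by simp only [P_mul, h, P_inv_P])).1
  simp only [Equiv.Perm.coe_mul, Function.comp_apply, Equiv.swap_apply_left, Equiv.Perm.inv_eq_iff_eq] at this
  rw [this]

theorem kap_kap (x : V) : kap (kap x) = x := by
  apply V_ext <;> simp only [kap, Matrix.cons_val, ← pow_mul] <;> exact p4 _
theorem kap_add (x y : V) : kap (x + y) = kap x + kap y := by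
  apply V_ext <;> simp only [kap, Matrix.cons_val, Pi.add_apply] <;> f4
theorem kap_smul (c : F4) (x : V) : kap (c • x) = c ^ 2 • kap x := by
  apply V_ext <;> simp only [kap, Matrix.cons_val, Pi.smul_apply, smul_eq_mul] <;> ring
theorem qf_kap (x : V) : qf (kap x) = qf x ^ 2 := by simp only [kap, qf, Matrix.cons_val]; f4
theorem bf_kap (x y : V) : bf (kap x) (kap y) = bf x y ^ 2 := by simp only [kap, bf, Matrix.cons_val]; f4
theorem Md.emb_kap (x : V) (i : Fin 8) : emb (kap x) i = emb x i ^ 2 := by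
  fin_cases i <;> simp [emb, kap] <;> f4
theorem kap_P (σ : S8) (x : V) : kap (P σ x) = P σ (kap x) := by
  apply V_ext <;> simp only [P, pr, kap, Matrix.cons_val] <;> simp only [← kap.eq_1, emb_kap] <;> f4

theorem P_pa (t : F4) (x : V) : P (pa t) x = ![x 0, x 1, x 2, x 3 + t * x 2, x 4 + t ^ 2 * x 2,
    x 5 + t ^ 3 * x 2 + t ^ 2 * x 3 + t * x 4] := by
  have h0 : o = 0 := rfl
  have h1 : l = 1 := rfl
  cases t
  on_goal 1 => rw [P_of ![0, 1, 2, 3, 4, 5, 6, 7] (by decide)]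
  on_goal 2 => rw [P_of ![1, 0, 3, 2, 4, 5, 6, 7] (by decide)]
  on_goal 3 => rw [P_of ![2, 3, 0, 1, 4, 5, 6, 7] (by decide)]
  on_goal 4 => rw [P_of ![3, 2, 1, 0, 4, 5, 6, 7] (by decide)]
  all_goals apply V_ext <;> simp only [pr, emb, Matrix.cons_val, h0, h1] <;> f4
theorem P_pw (b : F4) (x : V) : P (pw b) x = ![x 0 + b ^ 2 * x 2, x 1 + b * x 2, x 2, x 3, x 4,
    x 5 + b * x 0 + b ^ 2 * x 1 + b ^ 3 * x 2] := by
  have h0 : o = 0 := rfl
  have h1 : l = 1 := rfl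
  cases b
  on_goal 1 => rw [P_of ![0, 1, 2, 3, 4, 5, 6, 7] (by decide)]
  on_goal 2 => rw [P_of ![0, 1, 2, 3, 5, 4, 7, 6] (by decide)]
  on_goal 3 => rw [P_of ![0, 1, 2, 3, 6, 7, 4, 5] (by decide)]
  on_goal 4 => rw [P_of ![0, 1, 2, 3, 7, 6, 5, 4] (by decide)]
  all_goals apply V_ext <;> simp only [pr, emb, Matrix.cons_val, h0, h1] <;> f4
theorem P_na (x : V) : P (db 0 1 3 4) x = ![x 0, x 1, x 5, x 4, x 3, x 2] := by
  rw [P_of ![1, 0, 2, 4, 3, 5, 6, 7] (by decide)]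
  apply V_ext <;> simp only [pr, emb, Matrix.cons_val] <;> f4
theorem P_c567 (x : V) : P (c3 5 6 7) x = ![v * x 0, w * x 1, x 2, x 3, x 4, x 5] := by
  rw [P_of ![0, 1, 2, 3, 4, 7, 5, 6] (by decide)]
  apply V_ext <;> simp only [pr, emb, Matrix.cons_val] <;> f4
theorem P_c012 (x : V) : P (c3 0 1 2) x = ![x 0, x 1, x 2, v * x 3, w * x 4, x 5] := by
  rw [P_of ![2, 0, 1, 3, 4, 5, 6, 7] (by decide)]
  apply V_ext <;> simp only [pr, emb, Matrix.cons_val] <;> f4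
theorem kap_frob (x : V) : kap (P (db 0 1 6 7) x) = fun i => x i ^ 2 := by
  rw [P_of ![1, 0, 2, 3, 4, 5, 7, 6] (by decide)]
  apply V_ext <;> simp only [kap, pr, emb, Matrix.cons_val] <;> f4
theorem db_mem {a b c d : Fin 8} (h : a ≠ b) (h' : c ≠ d) : db a b c d ∈ A8 := by
  simp [db, Equiv.Perm.mem_alternatingGroup, h, h']
theorem c3_mem {a b c : Fin 8} (h : a ≠ b) (h' : a ≠ c) : c3 a b c ∈ A8 := db_mem h' h
theorem A5.one : A5 1 := ⟨one_mem _, rfl, rfl, rfl⟩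
theorem pa_mem (t : F4) : A5 (pa t) := by
  cases t
  · exact A5.one
  all_goals exact ⟨db_mem (by decide) (by decide), by decide⟩
theorem na_mem : A5 (db 0 1 3 4) := ⟨db_mem (by decide) (by decide), by decide⟩
theorem pw_mem (t : F4) : pw t ∈ A8 := by
  cases t
  · exact one_mem _
  all_goals exact db_mem (by decide) (by decide)
theorem A5.mul {σ τ : S8} (h : A5 σ) (h' : A5 τ) : A5 (σ * τ) :=
  ⟨mul_mem h.1 h'.1, by simp [h.2, h'.2], by simp [h.2, h'.2], by simp [h.2, h'.2]⟩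
theorem A5.inv {σ : S8} (h : A5 σ) : A5 σ⁻¹ :=
  ⟨inv_mem h.1, Equiv.Perm.inv_eq_iff_eq.2 h.2.1.symm, Equiv.Perm.inv_eq_iff_eq.2 h.2.2.1.symm,
    Equiv.Perm.inv_eq_iff_eq.2 h.2.2.2.symm⟩
theorem Md.ne_fix {σ : S8} {a i : Fin 8} (h : σ a = a) (hi : i ≠ a) : σ i ≠ a := fun e =>
  hi (σ.injective (e.trans h.symm))
theorem Md.top_fix {σ : S8} (h : A5 σ) (a b : F4) : P σ ![a, b, 0, 0, 0, 0] = ![a, b, 0, 0, 0, 0] := by
  obtain ⟨-, h5, h6, h7⟩ := h.inv
  have k : ∀ a b : F4, ∀ j : Fin 8, j ≠ 5 → j ≠ 6 → j ≠ 7 → emb ![a, b, 0, 0, 0, 0] j = 0 := by decide +kernel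
  refine fix_of fun i => ?_
  by_cases e5 : i = 5
  · rw [e5, h5]
  by_cases e6 : i = 6
  · rw [e6, h6]
  by_cases e7 : i = 7
  · rw [e7, h7]
  rw [k a b i e5 e6 e7, k a b _ (ne_fix h5 e5) (ne_fix h6 e6) (ne_fix h7 e7)]
/-- elements of `A₅` act trivially on the first two coordinates and only through the last four on the
last four -/
theorem A5.P_eq {σ : S8} (h : A5 σ) (x : V) :
    P σ x = ![x 0, x 1, 0, 0, 0, 0] + P σ ![0, 0, x 2, x 3, x 4, x 5] ∧
      P σ ![0, 0, x 2, x 3, x 4, x 5] 0 = 0 ∧ P σ ![0, 0, x 2, x 3, x 4, x 5] 1 = 0 := by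
  obtain ⟨-, h5, h6, h7⟩ := h.inv
  refine ⟨?_, by simp [P, pr, h5, h6, h7, emb], by simp [P, pr, h5, h6, h7, emb]⟩
  rw [← top_fix h, ← P_add]
  congr 1
  apply V_ext <;> simp
theorem A5.rb {σ : S8} (h : A5 σ) : P σ rb = rb := top_fix h 1 0
theorem a5_of_rb {σ : S8} (h : σ ∈ A8) (e : P σ rb = rb) : A5 σ := ⟨h, rb_fix e⟩

namespace Md

def gn : Fin 5 → S8 := ![pa 1, pa w, db 0 1 3 4, pw 1, pw w]
/-- words in the generators -/
def ev (L : List (Fin 5)) : S8 := (L.map gn).prod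

theorem ev_mem {H : Subgroup S8} {L : List (Fin 5)} (h : ∀ i ∈ L, gn i ∈ H) : ev L ∈ H :=
  list_prod_mem fun x hx => by obtain ⟨i, hi, rfl⟩ := List.mem_map.1 hx; exact h i hi

theorem ev_A8 (L : List (Fin 5)) : ev L ∈ A8 := ev_mem fun i _ => by
  fin_cases i
  exacts [(pa_mem 1).1, (pa_mem w).1, na_mem.1, pw_mem 1, pw_mem w]

theorem ev_app (L L' : List (Fin 5)) : ev (L ++ L') = ev L * ev L' := by simp [ev]

/-- the generators as tables -/
def gt (g : Fin 5) (j : ℕ) : ℕ :=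
  (match g.1 with | 0 => 16434369 | 1 => 16433690 | 2 => 16431233 | 3 => 14571144 | _ => 11789960) / 8 ^ j % 8
def evn (L : List (Fin 5)) (j : ℕ) : ℕ := L.foldr gt j

theorem ev_val (L : List (Fin 5)) (i : Fin 8) : (ev L i).1 = evn L i.1 := by
  induction L with
  | nil => rfl
  | cons g L ih =>
    have k : ∀ g j, (gn g j).1 = gt g j.1 := by decide +kernel
    exact (k g (ev L i)).trans (congrArg (gt g) ih)

theorem ev_eq {L : List (Fin 5)} {i j : Fin 8} : ev L i = j ↔ evn L i.1 = j.1 := by rw [Fin.ext_iff, ev_val]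

theorem ev_pow {L : List (Fin 5)} {m : ℕ} (i : Fin 8) : ((ev L ^ m) i).1 = (evn L)^[m] i.1 := by
  induction m with
  | zero => rfl
  | succ m ih => rw [pow_succ', Equiv.Perm.mul_apply, ev_val, ih, Function.iterate_succ_apply']

def T0 : List (List (Fin 5)) := [[], [0], [1], [1, 0], [2, 1, 0]]
def T1 : List (List (Fin 5)) := [[], [0, 2, 1, 2, 1], [2, 1, 0, 2, 1], [1, 2, 1]]
def T2 : List (List (Fin 5)) := [[], [0, 2], [2, 0]]
def T7 : List (List (Fin 5)) := [[1, 0, 2, 4, 3], [1, 2, 4, 3], [0, 2, 4, 3], [2, 4, 3], [4, 3], [4], [3], []]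
def T6 : List (List (Fin 5)) :=
  [[4, 1, 0, 2, 4], [4, 1, 2, 4], [4, 0, 2, 4], [4, 2, 4], [2, 4, 2, 4], [3, 2, 4, 3, 2, 4], []]
def T5 : List (List (Fin 5)) := [[3, 1, 0, 2, 3], [3, 1, 2, 3], [3, 0, 2, 3], [3, 2, 3], [2, 3, 2, 3], []]

/-- one sifting step -/
theorem sift (T : List (List (Fin 5))) (F : List (Fin 8)) (k : Fin 8)
    (h : k ∉ F ∧ ∀ j ∉ F, ∃ t ∈ T, evn t k.1 = j.1 ∧ ∀ a ∈ F, evn t a.1 = a.1) {σ : S8}
    (hσ : σ ∈ A8 ∧ ∀ a ∈ F, σ a = a) :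
    ∃ t ∈ T, (ev t)⁻¹ * σ ∈ A8 ∧ ∀ a ∈ k :: F, ((ev t)⁻¹ * σ) a = a := by
  obtain ⟨t, ht, e, hF⟩ := h.2 (σ k) fun hm => h.1 (σ.injective (hσ.2 _ hm) ▸ hm)
  refine ⟨t, ht, mul_mem (inv_mem (ev_A8 t)) hσ.1, fun a ha => ?_⟩
  rw [Equiv.Perm.mul_apply, Equiv.Perm.inv_eq_iff_eq]
  rcases List.mem_cons.1 ha with rfl | ha
  · exact (ev_eq.2 e).symm
  · rw [hσ.2 a ha, ev_eq.2 (hF a ha)]

theorem dec5 {σ : S8} (h : A5 σ) : ∃ a ∈ T0, ∃ b ∈ T1, ∃ c ∈ T2, σ = ev a * (ev b * ev c) := by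
  obtain ⟨a, ha, h0⟩ := sift T0 [5, 6, 7] 0 (by decide +kernel) (σ := σ) ⟨h.1, by simpa using h.2⟩
  obtain ⟨b, hb, h1⟩ := sift T1 _ 1 (by decide +kernel) h0
  obtain ⟨c, hc, h2, h3⟩ := sift T2 _ 2 (by decide +kernel) h1
  refine ⟨a, ha, b, hb, c, hc, ?_⟩
  generalize hρ : (ev c)⁻¹ * ((ev b)⁻¹ * ((ev a)⁻¹ * σ)) = ρ at h2 h3
  suffices ρ = 1 by
    rw [this, inv_mul_eq_one, eq_inv_mul_iff_mul_eq, eq_inv_mul_iff_mul_eq] at hρ
    exact hρ.symm
  have k : ∀ j : Fin 8, j ∉ [2, 1, 0, 5, 6, 7] → j = 3 ∨ j = 4 := by decide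
  have n : ∀ j : Fin 8, j ∉ [2, 1, 0, 5, 6, 7] → ρ j ∉ [2, 1, 0, 5, 6, 7] := fun j hj hm =>
    hj (ρ.injective (h3 _ hm) ▸ hm)
  have h34 : ρ 3 ≠ ρ 4 := ρ.injective.ne (by decide)
  simp only [List.mem_cons, List.not_mem_nil, or_false, forall_eq_or_imp, forall_eq] at h3
  rcases k _ (n 3 (by decide)) with e3 | e3 <;> rcases k _ (n 4 (by decide)) with e4 | e4
  · exact absurd (e3.trans e4.symm) h34
  · ext i; fin_cases i <;> simp [h3, e3, e4]
  · have : ρ = Equiv.swap 3 4 := by ext i; fin_cases i <;> simp [h3, e3, e4] <;> decide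
    simp [this, Equiv.Perm.mem_alternatingGroup] at h2
  · exact absurd (e3.trans e4.symm) h34

end Md

theorem A5.two {σ : S8} (h : A5 σ) {n : ℕ} (e : σ ^ 2 ^ n = 1) : σ * σ = 1 := by
  obtain ⟨a, ha, b, hb, c, hc, h1⟩ := dec5 h
  have k : ∀ a ∈ T0, ∀ b ∈ T1, ∀ c ∈ T2, ∃ m ∈ [2, 3, 5], ∀ i : Fin 8, (evn (a ++ (b ++ c)))^[m] i.1 = i.1 := by
    decide +kernel
  obtain ⟨m, hm, e2⟩ := k a ha b hb c hc
  have e3 : σ ^ m = 1 := by
    rw [h1, ← ev_app, ← ev_app]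
    exact Equiv.ext fun i => Fin.ext ((ev_pow i).trans (e2 i))
  have odd : ∀ m : ℕ, m.Coprime 2 → σ ^ m = 1 → σ * σ = 1 := fun m hm e3 => by
    have := pow_gcd_eq_one.2 ⟨e3, e⟩
    rw [hm.pow_right n, pow_one] at this
    rw [this, mul_one]
  simp only [List.mem_cons, List.not_mem_nil, or_false] at hm
  rcases hm with rfl | rfl | rfl
  exacts [sq σ ▸ e3, odd 3 (by decide) e3, odd 5 (by decide) e3]
theorem A5.four {σ : S8} (h : A5 σ) (e : σ ^ 4 = 1) : σ ^ 2 = 1 := (sq σ).trans (h.two (n := 2) e)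
theorem gen_A5 {σ : S8} (h : A5 σ) : σ ∈ closure ({pa 1, pa w, db 0 1 3 4} : Set S8) := by
  obtain ⟨a, ha, b, hb, c, hc, rfl⟩ := dec5 h
  have k : ∀ L ∈ T0 ++ T1 ++ T2, ev L ∈ closure ({pa 1, pa w, db 0 1 3 4} : Set S8) := fun L hL =>
    ev_mem fun i hi => subset_closure (by
      have : ∀ L ∈ T0 ++ T1 ++ T2, ∀ i ∈ L, i = 0 ∨ i = 1 ∨ i = 2 := by decide
      rcases this L hL i hi with rfl | rfl | rfl <;> simp [gn])
  exact mul_mem (k a (by simp [ha])) (mul_mem (k b (by simp [hb])) (k c (by simp [hc])))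
theorem gen_A8 : closure ({pa 1, pa w, db 0 1 3 4, pw 1, pw w} : Set S8) = A8 := by
  refine le_antisymm ((closure_le _).2 ?_) fun σ h => ?_
  · rintro _ (rfl | rfl | rfl | rfl | rfl)
    exacts [(pa_mem 1).1, (pa_mem w).1, na_mem.1, pw_mem 1, pw_mem w]
  obtain ⟨a, -, h0⟩ := sift T7 [] 7 (by decide +kernel) (σ := σ) ⟨h, by simp⟩
  obtain ⟨b, -, h1⟩ := sift T6 _ 6 (by decide +kernel) h0
  obtain ⟨c, -, h2, h3⟩ := sift T5 _ 5 (by decide +kernel) h1
  have k : ∀ L, ev L ∈ closure ({pa 1, pa w, db 0 1 3 4, pw 1, pw w} : Set S8) := fun L =>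
    ev_mem fun i _ => subset_closure (by fin_cases i <;> simp [gn])
  have := closure_mono (k := {pa 1, pa w, db 0 1 3 4, pw 1, pw w}) (by simp [Set.insert_subset_iff])
    (gen_A5 ⟨h2, h3 5 (by simp), h3 6 (by simp), h3 7 (by simp)⟩)
  simpa using mul_mem (k a) (mul_mem (k b) (mul_mem (k c) this))
theorem card_A8 : Nat.card A8 = 20160 := by
  rw [nat_card_alternatingGroup, Nat.card_eq_fintype_card, Fintype.card_fin]; rfl

namespace Md
open Equiv

theorem orb_even {y : V} {a b : Fin 8} (hab : a ≠ b) (h : P (swap a b) y = y) (σ : S8) :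
    ∃ τ ∈ A8, P τ y = P σ y := by
  rcases Int.units_eq_one_or (Perm.sign σ) with e | e
  · exact ⟨σ, Perm.mem_alternatingGroup.2 e, rfl⟩
  · exact ⟨σ * swap a b, by simp [Perm.mem_alternatingGroup, e, hab], by rw [P_mul, h]⟩

theorem t3_of (σ : S8) : T3 (P σ rb) := orb_even (a := 0) (b := 1) (by decide) (by decide +kernel) σ

def cd : F4 → ℕ | o => 0 | l => 1 | w => 2 | v => 3

theorem sorted : ∀ a b, cd a ≤ cd b → ∀ c, cd b ≤ cd c → ∀ d, cd c ≤ cd d → ∀ e, cd d ≤ cd e →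
    ∀ f, cd e ≤ cd f → ∀ g, cd f ≤ cd g → ∀ h, cd g ≤ cd h → a + b + c + d + e + f + g + h = 0 →
    qf (pr ![a, b, c, d, e, f, g, h]) = 0 → (∃ k : F4, pr ![a, b, c, d, e, f, g, h] = k • sb) ∨
      pr ![a, b, c, d, e, f, g, h] = P (swap 3 7 * swap 3 5 * swap 0 6 * swap 0 2) ub ∨
      ∃ t ∈ [[], [(6, 7), (0, 5)], [(1, 7), (1, 5), (0, 6)], [(2, 5), (1, 6), (0, 7)]],
        pr ![a, b, c, d, e, f, g, h] = P (t.map fun p : Fin 8 × Fin 8 => swap p.1 p.2).prod rb := by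
  decide +kernel

theorem inv_type {σ : S8} (h2 : σ * σ = 1) :
    σ.cycleType = Multiset.replicate (σ.support.card / 2) 2 ∧ σ.support.card = 2 * σ.cycleType.card := by
  have e := Perm.cycleType_of_pow_prime_eq_one (p := 2) ((sq σ).trans h2)
  have e2 := σ.sum_cycleType
  rw [e, Multiset.sum_replicate, smul_eq_mul] at e2
  exact ⟨by rw [← e2, Nat.mul_div_cancel _ two_pos]; exact e, by omega⟩

theorem inv_conj {σ : S8} (h : σ ∈ A8) (h1 : σ ≠ 1) (h2 : σ * σ = 1) :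
    ∃ τ, σ = τ * pa 1 * τ⁻¹ ∨ σ = τ * (pa 1 * pw 1) * τ⁻¹ := by
  obtain ⟨e1, e2⟩ := inv_type h2
  have s1 := Perm.sign_of_cycleType σ
  rw [Perm.mem_alternatingGroup.1 h, σ.sum_cycleType, eq_comm, neg_one_pow_eq_one_iff_even (by decide)] at s1
  have s2 : σ.support.card ≤ 8 := σ.support.card_le_univ
  have s3 : σ.support.card ≠ 0 := by simpa using h1
  have k : ∀ ρ : S8, ρ * ρ = 1 → ρ.support.card = σ.support.card → ∃ τ, σ = τ * ρ * τ⁻¹ := fun ρ a b => by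
    obtain ⟨τ, e⟩ := isConj_iff.1 (Perm.isConj_iff_cycleType_eq.2 ((inv_type a).1.trans (b ▸ e1.symm)))
    exact ⟨τ, e.symm⟩
  obtain ⟨m, hm⟩ := s1
  rcases (show σ.support.card = 4 ∨ σ.support.card = 8 by omega) with e | e
  · exact (k _ (by decide +kernel) (by rw [e]; decide +kernel)).imp fun _ => Or.inl
  · exact (k _ (by decide +kernel) (by rw [e]; decide +kernel)).imp fun _ => Or.inr

theorem fix_conj (τ σ : S8) (x : V) : P (τ * σ * τ⁻¹) x = x ↔ P σ (P τ⁻¹ x) = P τ⁻¹ x := by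
  rw [P_mul, P_mul]
  exact ⟨fun h => by rw [← P_inv_P τ (P σ _), h], fun h => by rw [h, P_P_inv]⟩

/-- `P τ` as a permutation of `V` -/
def eP (τ : S8) : V ≃ V := ⟨P τ, P τ⁻¹, P_inv_P τ, P_P_inv τ⟩

theorem V_iff {x y : V} :
    x = y ↔ x 0 = y 0 ∧ x 1 = y 1 ∧ x 2 = y 2 ∧ x 3 = y 3 ∧ x 4 = y 4 ∧ x 5 = y 5 :=
  ⟨by rintro rfl; simp, fun h => V_ext h.1 h.2.1 h.2.2.1 h.2.2.2.1 h.2.2.2.2.1 h.2.2.2.2.2⟩

/-- the fixed space -/
def Fx (σ : S8) : Submodule F4 V where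
  carrier := {x | P σ x = x}
  add_mem' := fun {a b} ha hb => by rw [Set.mem_ofPred_eq, P_add, ha, hb]
  zero_mem' := P_zero σ
  smul_mem' := fun c x hx => by rw [Set.mem_ofPred_eq, P_smul, hx]

theorem eq_of_fix {σ τ : S8} (h : τ ∈ A8) (h1 : τ ≠ 1) (hσ : σ = pa 1 ∨ σ = pa 1 * pw 1)
    (e : ∀ x, P σ x = x → P τ x = x) : τ = σ := by
  rcases hσ with rfl | rfl
  · obtain ⟨h5, h6, h7⟩ := rb_fix (e rb (by decide +kernel))
    obtain ⟨c, hc⟩ := stab (e ![0, 0, 0, 1, 1, 0] (by decide +kernel))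
    obtain ⟨d, hd⟩ := stab (e ![1, 1, 0, 0, 0, 1] (by decide +kernel))
    obtain rfl : c = 0 := by simpa [h7] using hc 7
    obtain rfl : d = 0 := by simpa [h7] using hd 7
    have k : ∀ i j : Fin 8, emb ![0, 0, 0, 1, 1, 0] j = emb ![0, 0, 0, 1, 1, 0] i + 0 →
        emb ![1, 1, 0, 0, 0, 1] j = emb ![1, 1, 0, 0, 0, 1] i + 0 → i < 5 → j ≠ 5 → j ≠ 6 → j ≠ 7 →
        j = i ∨ j = pa 1 i := by decide +kernel
    have k' : ∀ i : Fin 8, i < 5 → τ i = i ∨ τ i = pa 1 i := fun i hi =>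
      k i _ (hc i) (hd i) hi (ne_fix h5 hi.ne) (ne_fix h6 (hi.trans (by decide)).ne)
        (ne_fix h7 (hi.trans (by decide)).ne)
    have h4 : τ 4 = 4 := (k' 4 (by decide)).elim id id
    have n01 : τ 0 ≠ τ 1 := τ.injective.ne (by decide)
    have n23 : τ 2 ≠ τ 3 := τ.injective.ne (by decide)
    have k2 : ∀ a b c d : Fin 8, (a = 0 ∨ a = pa 1 0) → (b = 1 ∨ b = pa 1 1) → (c = 2 ∨ c = pa 1 2) →
        (d = 3 ∨ d = pa 1 3) → a ≠ b → c ≠ d → ∃ ρ ∈ [([] : List (Fin 8 × Fin 8)), [(0, 1)], [(2, 3)],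
        [(0, 1), (2, 3)]], ∀ i, ![a, b, c, d, 4, 5, 6, 7] i = (ρ.map fun p => swap p.1 p.2).prod i := by
      decide +kernel
    obtain ⟨ρ, hρ, e⟩ := k2 _ _ _ _ (k' 0 (by decide)) (k' 1 (by decide)) (k' 2 (by decide)) (k' 3 (by decide))
      n01 n23
    have e2 : τ = (ρ.map fun p => swap p.1 p.2).prod := Equiv.ext fun i => by
      rw [← e i]; fin_cases i <;> simp [h4, h5, h6, h7]
    simp only [List.mem_cons, List.not_mem_nil, or_false] at hρ
    rcases hρ with rfl | rfl | rfl | rfl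
    · exact absurd e2 h1
    · simp [e2, Perm.mem_alternatingGroup] at h
    · simp [e2, Perm.mem_alternatingGroup] at h
    · rw [e2]; decide +kernel
  · obtain ⟨a, ha⟩ := stab (e ![0, 0, 0, v, v, w] (by decide +kernel))
    obtain ⟨b, hb⟩ := stab (e ![1, 1, 0, 0, 0, 1] (by decide +kernel))
    obtain ⟨c, hc⟩ := stab (e ![v, w, 0, w, v, 1] (by decide +kernel))
    have k1 : ∀ a, ∀ i j k : Fin 8, i ≠ j → i ≠ k → j ≠ k →
        emb ![0, 0, 0, v, v, w] i = emb ![0, 0, 0, v, v, w] 4 + a →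
        emb ![0, 0, 0, v, v, w] j = emb ![0, 0, 0, v, v, w] 5 + a →
        emb ![0, 0, 0, v, v, w] k = emb ![0, 0, 0, v, v, w] 6 + a → a = 0 := by decide +kernel
    have k2 : ∀ a, ∀ i j k : Fin 8, i ≠ j → i ≠ k → j ≠ k →
        emb ![1, 1, 0, 0, 0, 1] i = emb ![1, 1, 0, 0, 0, 1] 0 + a →
        emb ![1, 1, 0, 0, 0, 1] j = emb ![1, 1, 0, 0, 0, 1] 1 + a →
        emb ![1, 1, 0, 0, 0, 1] k = emb ![1, 1, 0, 0, 0, 1] 2 + a → a = 0 := by decide +kernel
    obtain rfl := k1 a _ _ _ (τ.injective.ne (by decide)) (τ.injective.ne (by decide))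
      (τ.injective.ne (by decide)) (ha 4) (ha 5) (ha 6)
    obtain rfl := k2 b _ _ _ (τ.injective.ne (by decide)) (τ.injective.ne (by decide))
      (τ.injective.ne (by decide)) (hb 0) (hb 1) (hb 2)
    have k : ∀ c, ∀ i j : Fin 8, emb ![0, 0, 0, v, v, w] j = emb ![0, 0, 0, v, v, w] i + 0 →
        emb ![1, 1, 0, 0, 0, 1] j = emb ![1, 1, 0, 0, 0, 1] i + 0 →
        emb ![v, w, 0, w, v, 1] j = emb ![v, w, 0, w, v, 1] i + c →
        j = if c = 0 then i else (pa 1 * pw 1) i := by decide +kernel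
    have k' := fun i => k c i _ (ha i) (hb i) (hc i)
    by_cases h0 : c = 0
    · exact absurd (Equiv.ext (by simpa [h0] using k')) h1
    · exact Equiv.ext (by simpa only [if_neg h0] using k')

end Md

/-- the singular vectors: types `(5,1,1,1)`, `(2,2,2,2)`, `(4,4)` -/
theorem sing {x : V} (h : qf x = 0) (h0 : x ≠ 0) :
    T3 x ∨ (∃ σ ∈ A8, P σ ub = x) ∨ ∃ σ ∈ A8, ∃ c : F4, c ≠ 0 ∧ P σ (c • sb) = x := by
  set s := Tuple.sort fun i => cd (emb x i)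
  have m : ∀ i j : Fin 8, i ≤ j → cd (emb x (s i)) ≤ cd (emb x (s j)) := fun _ _ h =>
    Tuple.monotone_sort (fun i => cd (emb x i)) h
  have e : pr ![emb x (s 0), emb x (s 1), emb x (s 2), emb x (s 3), emb x (s 4), emb x (s 5), emb x (s 6),
      emb x (s 7)] = P s⁻¹ x := rfl
  have := sorted _ _ (m 0 1 (by decide)) _ (m 1 2 (by decide)) _ (m 2 3 (by decide)) _ (m 3 4 (by decide)) _
    (m 4 5 (by decide)) _ (m 5 6 (by decide)) _ (m 6 7 (by decide)) ((s0_emb x).comp s) (by rw [e, qf_P, h])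
  rw [e] at this
  have k : ∀ {y}, P s⁻¹ x = y → x = P s y := fun h => by rw [← h, P_P_inv]
  rcases this with ⟨c, hc⟩ | hc | ⟨t, -, hc⟩
  · obtain ⟨τ, hτ, e⟩ := orb_even (y := c • sb) (a := 0) (b := 1) (by decide)
      (by rw [P_smul, show P _ sb = sb by decide +kernel]) s
    exact Or.inr (Or.inr ⟨τ, hτ, c, by rintro rfl; exact h0 (by rw [k hc, zero_smul, P_zero]), e.trans (k hc).symm⟩)
  · rw [k hc, ← P_mul]
    exact Or.inr (Or.inl (orb_even (a := 3) (b := 4) (by decide) (by decide +kernel) _))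
  · rw [k hc, ← P_mul]
    exact Or.inl (t3_of _)
theorem ub_four : ∃ σ ∈ A8, P σ ub = ub ∧ σ ^ 4 = 1 ∧ σ ^ 2 ≠ 1 :=
  ⟨ev [2, 3, 0, 2, 4, 1], ev_A8 _, by decide +kernel⟩
theorem T3.P {x : V} (h : T3 x) {σ : S8} (hσ : σ ∈ A8) : T3 (P σ x) := by
  obtain ⟨τ, hτ, rfl⟩ := h
  exact ⟨σ * τ, mul_mem hσ hτ, P_mul ..⟩
theorem T3.smul {x : V} (h : T3 x) {c : F4} (hc : c ≠ 0) : T3 (c • x) := by
  obtain ⟨τ, hτ, rfl⟩ := h
  have k : ∀ c : F4, c ≠ 0 → ∃ m ∈ [0, 1, 2], c • rb = Co1S.P (c3 5 6 7 ^ m) rb := by decide +kernel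
  obtain ⟨m, -, e⟩ := k c hc
  rw [← P_smul, e, ← P_mul]
  exact t3_of _
theorem T3.ne {x : V} (h : T3 x) : x ≠ 0 := by
  obtain ⟨τ, hτ, rfl⟩ := h
  exact fun e => absurd (by rw [← P_inv_P τ rb, e, P_zero] : rb = 0) (by decide)
theorem T3.qf {x : V} (h : T3 x) : qf x = 0 := by
  obtain ⟨τ, hτ, rfl⟩ := h
  rw [qf_P]; decide
/-- the 336 vectors span `V` additively -/
theorem T3_span (I : AddSubgroup V) (h : ∀ x, T3 x → x ∈ I) : I = ⊤ := by
  have k : ∀ (t : List (Fin 8 × Fin 8)) (c : F4), c • P (t.map fun p => Equiv.swap p.1 p.2).prod rb ∈ I := by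
    intro t c
    by_cases hc : c = 0
    · rw [hc, zero_smul]; exact zero_mem _
    · exact h _ ((t3_of _).smul hc)
  refine eq_top_iff.2 fun x _ => ?_
  have := add_mem (add_mem (add_mem (add_mem (add_mem (k [] (x 0 + x 2 + x 5)) (k [(6, 7)] (x 1)))
    (k [(6, 7), (3, 5)] (x 2))) (k [(2, 5), (1, 7), (0, 6)] (x 3))) (k [(2, 5), (1, 6), (0, 7)] (x 4)))
    (k [(6, 7), (4, 5)] (x 5))
  rw [show P _ rb = ![1, 0, 0, 0, 0, 0] by decide +kernel, show P _ rb = ![0, 1, 0, 0, 0, 0] by decide +kernel,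
    show P _ rb = ![1, 0, 1, 0, 0, 0] by decide +kernel, show P _ rb = ![0, 0, 0, 1, 0, 0] by decide +kernel,
    show P _ rb = ![0, 0, 0, 0, 1, 0] by decide +kernel, show P _ rb = ![1, 0, 0, 0, 0, 1] by decide +kernel] at this
  convert this using 1
  apply V_ext <;> simp
  f4
/-- an involution is conjugate in `S₈` to `db 0 1 2 3` or `db 0 1 2 3 * db 4 5 6 7` -/
theorem card_fix {σ : S8} (h : σ ∈ A8) (h1 : σ ≠ 1) (h2 : σ * σ = 1) :
    Nat.card {x : V // P σ x = x} = 256 := by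
  obtain ⟨τ, e⟩ := inv_conj h h1 h2
  have k : ∀ ρ, Nat.card {x : V // P (τ * ρ * τ⁻¹) x = x} = Nat.card {x : V // P ρ x = x} := fun ρ =>
    Nat.card_congr ((eP τ⁻¹).subtypeEquiv fun x => fix_conj τ ρ x)
  rcases e with rfl | rfl
  · rw [k, card_sub (fun _ _ c d e _ => c = 0 ∧ d = e) fun a b c d e f => by
      simp only [P_pa, V_iff, Matrix.cons_val]; revert a b c d e f; decide +kernel]
    decide +kernel
  · rw [k, card_sub (fun a b c d e _ => c = 0 ∧ a + b = d + e) fun a b c d e f => by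
      simp only [P_mul, P_pa, P_pw, V_iff, Matrix.cons_val]; revert a b c d e f; decide +kernel]
    decide +kernel
/-- every four-group of `A₈` fixes at most 64 vectors -/
theorem card_fix2 {σ τ : S8} (h : σ ∈ A8) (h' : τ ∈ A8) (h1 : σ ≠ 1) (h1' : τ ≠ 1) (hn : σ ≠ τ)
    (h2 : σ * σ = 1) (h2' : τ * τ = 1) (hc : Commute σ τ) :
    Nat.card {x : V // P σ x = x ∧ P τ x = x} ≤ 64 := by
  have _ := h2'
  have _ := hc
  have lt : Fx σ ⊓ Fx τ < Fx σ := by
    refine lt_of_le_of_ne inf_le_left fun e => hn ?_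
    obtain ⟨ρ, e2⟩ := inv_conj h h1 h2
    have k : ∀ π, π = pa 1 ∨ π = pa 1 * pw 1 → σ = ρ * π * ρ⁻¹ → σ = τ := fun π hπ e3 => by
      have := eq_of_fix (τ := ρ⁻¹ * τ * ρ⁻¹⁻¹) ((inferInstance : A8.Normal).conj_mem τ h' ρ⁻¹)
        (fun e => h1' (conj_eq_one_iff.1 e)) hπ fun x hx => by
          rw [fix_conj, inv_inv]
          refine (e.ge (show P σ _ = _ from ?_)).2
          rw [e3, fix_conj, P_inv_P, hx]
      rw [e3, ← this]; group
    exact e2.elim (k _ (Or.inl rfl)) (k _ (Or.inr rfl))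
  have c1 : Nat.card (Fx σ) = 256 := card_fix h h1 h2
  have c4 : Nat.card F4 = 4 := by rw [Nat.card_eq_fintype_card, card_eq]
  have f1 := Submodule.finrank_lt_finrank_of_lt lt
  rw [Module.natCard_eq_pow_finrank (K := F4), c4] at c1
  have f2 : Module.finrank F4 (Fx σ) = 4 := Nat.pow_right_injective (by decide : 2 ≤ 4) c1
  change Nat.card (Fx σ ⊓ Fx τ : Submodule F4 V) ≤ 4 ^ 3
  rw [Module.natCard_eq_pow_finrank (K := F4), c4]
  exact Nat.pow_le_pow_right (by decide) (by omega)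

end CL.Co1S
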