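import Cfsg.Agent.INV.CO1.Mod

/-! The real form `{x | kap x = x} = O₆⁺(2)`-module.
Real vectors: `x = ![b², b, c, d, d², e]` with `b, d ∈ F₄`, `c, e ∈ {0,1}`; `emb x ∈ {0,1}⁸`. -/

set_option autoImplicit false
set_option maxHeartbeats 200000
set_option synthInstance.maxSize 4000
open Subgroup

namespace CL.Co1S
open F4 Md

/-- real vectors -/
def Re (x : V) : Prop := kap x = x
/-- `V₄ × V₄` -/
def V44 (σ : S8) : Prop := ∃ s t, σ = pa s * pw t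

namespace MR

instance decRe : DecidablePred Re := fun x => inferInstanceAs (Decidable (kap x = x))

/-- reduction to coordinates -/
macro "vs" : tactic => `(tactic| simp only [Re, kap, bf, qf, sb, V_iff, P_mul, P_pa, P_pw, P_c012, P_c567, sq,
  Matrix.cons_val, Pi.add_apply, Pi.smul_apply, Pi.zero_apply, smul_eq_mul])

theorem sq01 (a : F4) : a = a ^ 2 ↔ a = 0 ∨ a = 1 := by revert a; decide

def b1 : V := ![1, 1, 0, 0, 0, 0]
def b2 : V := ![v, w, 0, 0, 0, 0]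
def b3 : V := ![0, 0, 1, 0, 0, 0]
def b4 : V := ![0, 0, 0, 1, 1, 0]
def b5 : V := ![0, 0, 0, w, v, 0]

theorem re_b : Re b1 ∧ Re b2 ∧ Re b3 ∧ Re b4 ∧ Re b5 ∧ Re sb := by decide

end MR
open MR

theorem Re.zero : Re 0 := by decide
theorem Re.add {x y : V} (h : Re x) (h' : Re y) : Re (x + y) := by rw [Re, kap_add, h, h']
theorem Re.map {x : V} (h : Re x) (σ : S8) : Re (P σ x) := by rw [Re, kap_P, h]
theorem re_kap_add (x : V) : Re (kap x + x) := by rw [Re, kap_add, kap_kap, add_comm]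
theorem Re.qf01 {x : V} (h : Re x) : qf x = 0 ∨ qf x = 1 := (sq01 _).1 (by rw [← qf_kap, h])
theorem Re.bf01 {x y : V} (h : Re x) (h' : Re y) : bf x y = 0 ∨ bf x y = 1 :=
  (sq01 _).1 (by rw [← bf_kap, h, h'])
theorem re_sb : Re sb := by decide
theorem not_re_rb : ¬ Re rb := by decide
theorem Re.smul_sb {c : F4} (h : Re (c • sb)) : c = 0 ∨ c = 1 := by revert c; decide
theorem card_Re : Nat.card {x : V // Re x} = 64 := by
  rw [card_sub (fun a b c d e f => a = b * b ∧ c * c = c ∧ e = d * d ∧ f * f = f) fun a b c d e f => by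
    vs; revert a b c d e f; decide +kernel]
  decide +kernel
theorem card_Re_perp : Nat.card {x : V // Re x ∧ bf x sb = 0} = 32 := by
  rw [card_sub (fun a b c d e f => a = b * b ∧ c = 0 ∧ e = d * d ∧ f * f = f) fun a b c d e f => by
    vs; revert a b c d e f; decide +kernel]
  decide +kernel
theorem MR.dec (x : V) : x = bf x b2 • b1 + bf x b1 • b2 + bf x sb • b3 + bf x b5 • b4 + bf x b4 • b5 +
    bf x b3 • sb := by
  simp only [b1, b2, b3, b4, b5]; vs; f4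
theorem re_nondeg {x : V} (h : ∀ y, Re y → bf x y = 0) : x = 0 := by
  obtain ⟨h1, h2, h3, h4, h5, h6⟩ := re_b
  rw [dec x, h _ h1, h _ h2, h _ h3, h _ h4, h _ h5, h _ h6]; simp
theorem MR.sm {x : V} (h : Re x) {c : F4} (hc : c = 0 ∨ c = 1) : Re (c • x) := by
  rcases hc with rfl | rfl
  · rw [zero_smul]; exact Re.zero
  · rwa [one_smul]
theorem re_of_bf {x : V} (h : ∀ y, Re y → bf x y = 0 ∨ bf x y = 1) : Re x := by
  obtain ⟨h1, h2, h3, h4, h5, h6⟩ := re_b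
  rw [dec x]
  exact (((((sm h1 (h _ h2)).add (sm h2 (h _ h1))).add (sm h3 (h _ h6))).add (sm h4 (h _ h5))).add
    (sm h5 (h _ h4))).add (sm h6 (h _ h3))
theorem re_of_bf' {x : V} (h : ∀ y, Re y → bf y sb = 0 → bf x y = 0 ∨ bf x y = 1) :
    Re x ∨ Re (x + w • sb) := by
  obtain ⟨h1, h2, h3, h4, h5, h6⟩ := re_b
  have := ((((sm h1 (h _ h2 (by decide))).add (sm h2 (h _ h1 (by decide)))).add (sm h3 (h _ h6 (by decide)))).add
    (sm h4 (h _ h5 (by decide)))).add (sm h5 (h _ h4 (by decide)))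
  have k : ∀ c : F4, (c = 0 ∨ c = 1) ∨ (c + w = 0 ∨ c + w = 1) := by decide
  rw [dec x, add_assoc _ _ (w • sb), ← add_smul]
  exact (k _).imp (fun e => this.add (sm h6 e)) fun e => this.add (sm h6 e)
theorem Re.exists_kap {y : V} (h : Re y) : ∃ x, kap x + x = y :=
  ⟨w • y, by rw [kap_smul, h, ← add_smul, show w ^ 2 + w = 1 by decide, one_smul]⟩
/-- an additive functional on the real vectors is `bf u` -/
theorem exists_dual {χ : V → F4} (h01 : ∀ x, Re x → χ x = 0 ∨ χ x = 1)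
    (ha : ∀ x y, Re x → Re y → χ (x + y) = χ x + χ y) : ∃ u, Re u ∧ ∀ x, Re x → χ x = bf u x := by
  obtain ⟨h1, h2, h3, h4, h5, h6⟩ := re_b
  have h0 : χ 0 = 0 := by simpa using ha 0 0 Re.zero Re.zero
  have hs : ∀ {x}, Re x → ∀ b, Re b → χ (bf x b • 0 + 0) = 0 ∧ ∀ y, χ (bf x b • y) = bf x b * χ y := by
    intro x hx b hb
    rcases hx.bf01 hb with e | e <;> simp [e, h0]
  refine ⟨_, (((((sm h2 (h01 _ h1)).add (sm h1 (h01 _ h2))).add (sm h6 (h01 _ h3))).add (sm h5 (h01 _ h4))).add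
    (sm h4 (h01 _ h5))).add (sm h3 (h01 _ h6)), fun x hx => ?_⟩
  have r1 := sm h1 (hx.bf01 h2)
  have r2 := sm h2 (hx.bf01 h1)
  have r3 := sm h3 (hx.bf01 h6)
  have r4 := sm h4 (hx.bf01 h5)
  have r5 := sm h5 (hx.bf01 h4)
  conv_lhs => rw [dec x]
  rw [ha _ _ ((((r1.add r2).add r3).add r4).add r5) (sm h6 (hx.bf01 h3)), ha _ _ (((r1.add r2).add r3).add r4) r5,
    ha _ _ ((r1.add r2).add r3) r4, ha _ _ (r1.add r2) r3, ha _ _ r1 r2, (hs hx _ h1).2, (hs hx _ h2).2,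
    (hs hx _ h3).2, (hs hx _ h4).2, (hs hx _ h5).2, (hs hx _ h6).2]
  simp only [bf_add_left, bf_smul_left, bf_comm x]
  ring
theorem Re.sing {x : V} (h : Re x) (hq : qf x = 0) (h0 : x ≠ 0) : ∃ σ ∈ A8, P σ sb = x := by
  rcases Co1S.sing hq h0 with ⟨σ, -, rfl⟩ | ⟨σ, -, rfl⟩ | ⟨σ, hσ, c, hc, rfl⟩ <;> have := h.map σ⁻¹ <;>
    rw [P_inv_P] at this
  · exact absurd this not_re_rb
  · exact absurd this (by decide)
  · exact ⟨σ, hσ, by rw [this.smul_sb.resolve_left hc, one_smul]⟩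
theorem exists_re_sb : ∃ x, Re x ∧ qf x = 0 ∧ bf x sb = 1 := ⟨b3, by decide⟩
/-- a totally singular real 3-space -/
theorem exists_ts : ∃ U : AddSubgroup V, Nat.card U = 8 ∧ ∀ x ∈ U, Re x ∧ qf x = 0 := by
  let U : AddSubgroup V :=
    { carrier := {x | Re x ∧ x 2 = 0 ∧ x 3 = x 1}
      zero_mem' := ⟨Re.zero, rfl, rfl⟩
      add_mem' := fun ha hb => ⟨ha.1.add hb.1, by simp [ha.2.1, hb.2.1], by simp [ha.2.2, hb.2.2]⟩
      neg_mem' := fun {x} hx => by rwa [neg_eq_of_add_eq_zero_left (V_add_self x)] }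
  refine ⟨U, ?_, fun x hx => ⟨hx.1, ?_⟩⟩
  · change Nat.card {x : V // Re x ∧ x 2 = 0 ∧ x 3 = x 1} = 8
    rw [card_sub (fun a b c d e f => a = b * b ∧ c = 0 ∧ e = a ∧ d = b ∧ f * f = f) fun a b c d e f => by
      vs; revert a b c d e f; decide +kernel]
    decide +kernel
  · obtain ⟨h1, h2, h3⟩ := hx
    have e0 : x 1 ^ 2 = x 0 := congrFun h1 0
    have e4 : x 3 ^ 2 = x 4 := congrFun h1 4
    rw [qf, h2, ← e0, ← e4, h3]; f4
/-- vectors of weight two -/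
def MR.pv : Fin 5 → V :=
  ![![0, 0, 0, 1, 1, 0], ![0, 0, 0, w, v, 0], ![0, 0, 0, v, w, 1], ![1, 1, 0, 0, 0, 1], ![v, w, 0, 0, 0, 1]]
theorem eq_one_of_perp {σ : S8} (h : ∀ x, Re x → bf x sb = 0 → P σ x = x) : σ = 1 := by
  have k : ∀ p, (Re (pv p) ∧ bf (pv p) sb = 0) ∧ ∃ m : Fin 8, ∀ a, ∀ i : Fin 8,
      emb (pv p) i = emb (pv p) m + a → ∀ j, emb (pv p) j = emb (pv p) (m + 1) + a → i ≠ j →
      ∀ k, emb (pv p) k = emb (pv p) (m + 2) + a → i ≠ k → j ≠ k → a = 0 := by decide +kernel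
  have k2 : ∀ i j : Fin 8, (∀ p, emb (pv p) j = emb (pv p) i) → j = i := by decide +kernel
  have k3 : ∀ i : Fin 8, i ≠ i + 1 ∧ i ≠ i + 2 ∧ i + 1 ≠ i + 2 := by decide
  refine Equiv.ext fun i => k2 i _ fun p => ?_
  obtain ⟨c, hc⟩ := stab (h _ (k p).1.1 (k p).1.2)
  obtain ⟨m, hm⟩ := (k p).2
  rw [hc, hm c _ (hc _) _ (hc _) (σ.injective.ne (k3 _).1) _ (hc _) (σ.injective.ne (k3 _).2.1)
    (σ.injective.ne (k3 _).2.2), add_zero]
theorem c3_sb : P (c3 0 1 2) sb = sb ∧ P (c3 5 6 7) sb = sb := by decide +kernel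
theorem V44.sq {σ : S8} (h : V44 σ) : σ * σ = 1 := by
  obtain ⟨s, t, rfl⟩ := h
  revert s t; decide +kernel
theorem V44.mul {σ τ : S8} (h : V44 σ) (h' : V44 τ) : V44 (σ * τ) := by
  obtain ⟨s, t, rfl⟩ := h
  obtain ⟨s', t', rfl⟩ := h'
  have k : ∀ s t, pa (s + t) = pa s * pa t ∧ pw (s + t) = pw s * pw t ∧ pw s * pa t = pa t * pw s := by
    decide +kernel
  refine ⟨s + s', t + t', ?_⟩
  rw [(k s s').1, (k t t').2.1, mul_assoc, ← mul_assoc (pw t), (k t s').2.2]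
  simp only [mul_assoc]

namespace MR
open Equiv

def la : Fin 6 → S8 := ![1, swap 0 1, swap 0 2, swap 1 2, c3 0 1 2, c3 0 2 1]
def lb : Fin 6 → S8 := ![1, swap 5 6, swap 5 7, swap 6 7, c3 5 6 7, c3 5 7 6]
def le : Fin 2 → S8 := ![1, db 0 4 1 5 * db 2 6 3 7]

theorem v44_sb (s t : F4) : P (pa s * pw t) sb = sb := by vs; simp

theorem blk {σ : S8} (h : P σ sb = sb) : (∀ i, σ i < 4 ↔ i < 4) ∨ ∀ i, σ i < 4 ↔ ¬ i < 4 := by
  obtain ⟨c, hc⟩ := stab h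
  have k : ∀ c, ∀ i j : Fin 8, emb sb j = emb sb i + c → (j < 4 ↔ if c = 0 then i < 4 else ¬ i < 4) := by
    decide +kernel
  by_cases h0 : c = 0
  · exact Or.inl fun i => by simpa [h0] using k c i _ (hc i)
  · exact Or.inr fun i => by simpa [h0] using k c i _ (hc i)

theorem dec_sb {σ : S8} (h : P σ sb = sb) : ∃ s t a b e, σ = pa s * pw t * (la a * lb b * le e) := by
  have le2 : ∀ e, le e * le e = 1 ∧ P (le e) sb = sb := by decide +kernel
  obtain ⟨e, he⟩ : ∃ e, (σ * le e) 3 < 4 := by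
    rcases blk h with h | h
    · exact ⟨0, (h 3).2 (by decide)⟩
    · exact ⟨1, (h 7).2 (by decide)⟩
  have h1 : P (σ * le e) sb = sb := by rw [P_mul, (le2 e).2, h]
  have bk : ∀ {ρ : S8}, P ρ sb = sb → ρ 3 < 4 → ∀ i, ρ i < 4 ↔ i < 4 := fun h h3 =>
    (blk h).resolve_right fun h => (h 3).1 h3 (by decide)
  have k1 : ∀ j k : Fin 8, j < 4 → ¬ k < 4 → ∃ s t, (pa s * pw t) 3 = j ∧ (pa s * pw t) 4 = k := by decide +kernel
  obtain ⟨s, t, e3, e4⟩ := k1 _ _ he (mt (bk h1 he 4).1 (by decide))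
  have h2 : P ((pa s * pw t)⁻¹ * (σ * le e)) sb = sb := by
    rw [P_mul, h1]; conv_lhs => rw [← v44_sb s t, P_inv_P]
  have f3 : ((pa s * pw t)⁻¹ * (σ * le e)) 3 = 3 := by
    rw [Perm.mul_apply, Perm.inv_eq_iff_eq, e3]
  have f4 : ((pa s * pw t)⁻¹ * (σ * le e)) 4 = 4 := by
    rw [Perm.mul_apply, Perm.inv_eq_iff_eq, e4]
  generalize hρ : (pa s * pw t)⁻¹ * (σ * le e) = ρ at h2 f3 f4
  have b := bk h2 (by rw [f3]; decide)
  have ne : ∀ i j, i ≠ j → ρ i ≠ ρ j := fun _ _ => ρ.injective.ne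
  have ka : ∀ x : Fin 8, x < 4 → x ≠ 3 → ∀ y, y < 4 → y ≠ 3 → x ≠ y → ∀ z, z < 4 → z ≠ 3 → x ≠ z → y ≠ z →
      ∃ a, la a 0 = x ∧ la a 1 = y ∧ la a 2 = z := by decide +kernel
  have kb : ∀ x : Fin 8, ¬ x < 4 → x ≠ 4 → ∀ y, ¬ y < 4 → y ≠ 4 → x ≠ y → ∀ z, ¬ z < 4 → z ≠ 4 → x ≠ z → y ≠ z →
      ∃ a, lb a 5 = x ∧ lb a 6 = y ∧ lb a 7 = z := by decide +kernel
  obtain ⟨a, a0, a1, a2⟩ := ka _ ((b 0).2 (by decide)) (ne_fix f3 (by decide)) _ ((b 1).2 (by decide))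
    (ne_fix f3 (by decide)) (ne _ _ (by decide)) _ ((b 2).2 (by decide)) (ne_fix f3 (by decide))
    (ne _ _ (by decide)) (ne _ _ (by decide))
  obtain ⟨c, c5, c6, c7⟩ := kb _ (mt (b 5).1 (by decide)) (ne_fix f4 (by decide)) _ (mt (b 6).1 (by decide))
    (ne_fix f4 (by decide)) (ne _ _ (by decide)) _ (mt (b 7).1 (by decide)) (ne_fix f4 (by decide))
    (ne _ _ (by decide)) (ne _ _ (by decide))
  have kc : ∀ a c i, (la a * lb c) i = ![la a 0, la a 1, la a 2, 3, 4, lb c 5, lb c 6, lb c 7] i := by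
    decide +kernel
  have : la a * lb c = ρ := Equiv.ext fun i => by
    rw [kc, a0, a1, a2, c5, c6, c7]; fin_cases i <;> simp [f3, f4]
  refine ⟨s, t, a, c, e, ?_⟩
  rw [this, ← hρ, mul_assoc _⁻¹, mul_assoc σ, (le2 e).1, mul_one, mul_inv_cancel_left]

theorem cj_of {g σ : S8} (h : V44 σ) (k : ∀ s, (∃ a b, g * pa s * g⁻¹ = pa a * pw b) ∧
    ∃ a b, g * pw s * g⁻¹ = pa a * pw b) : V44 (g * σ * g⁻¹) := by
  obtain ⟨s, t, rfl⟩ := h
  rw [← conj_mul]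
  exact V44.mul (k s).1 (k t).2

end MR

/-- `V₄ × V₄` is normal in the stabiliser of `sb` -/
theorem V44.conj {σ τ : S8} (h : V44 σ) (hτ : P τ sb = sb) : V44 (τ * σ * τ⁻¹) := by
  obtain ⟨s, t, a, b, e, rfl⟩ := dec_sb hτ
  have n : V44 (pa s * pw t) := ⟨s, t, rfl⟩
  clear hτ
  have := (n.mul (cj_of (g := la a) (cj_of (g := lb b) (cj_of (g := le e) h (by revert e; decide +kernel))
    (by revert b; decide +kernel)) (by revert a; decide +kernel))).mul n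
  rw [← inv_eq_of_mul_eq_one_right n.sq] at this
  conv at this => enter [1, 1, 1]; rw [inv_eq_of_mul_eq_one_right n.sq]
  convert this using 1
  group

theorem MR.red {n r : S8} (hn : V44 n) (hr : P r sb = sb) (h : (n * r) ^ 16 = 1) (h3 : r ^ 3 = 1) : r = 1 := by
  have k : ∀ m : ℕ, ∃ n', V44 n' ∧ (n * r) ^ m = n' * r ^ m := by
    intro m
    induction m with
    | zero => exact ⟨1, ⟨0, 0, by decide +kernel⟩, by simp⟩
    | succ m ih =>
      obtain ⟨n', h1, h2⟩ := ih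
      exact ⟨_, hn.mul (h1.conj hr), by rw [pow_succ', h2, pow_succ']; group⟩
  obtain ⟨n', h1, h2⟩ := k 16
  rw [h, show 16 = 3 * 5 + 1 from rfl, pow_succ, pow_mul, h3, one_pow, one_mul] at h2
  obtain rfl : n' = r := by rw [← inv_eq_of_mul_eq_one_right h1.sq]; exact inv_eq_of_mul_eq_one_right h2.symm
  rwa [pow_succ, sq, h1.sq, one_mul] at h3

/-- elements of order three -/
def MR.O3 (g : S8) : Prop := g ≠ 1 ∧ g ^ 3 = 1
instance MR.decO3 : DecidablePred O3 := fun g => inferInstanceAs (Decidable (g ≠ 1 ∧ g ^ 3 = 1))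
theorem MR.o3 : ∀ a b e, la a * lb b * le e = 1 ∨ O3 (la a * lb b * le e) ∨
    O3 (la a * lb b * le e * c3 0 1 2 * (la a * lb b * le e)⁻¹ * (c3 0 1 2)⁻¹) ∨
    O3 (la a * lb b * le e * c3 5 6 7 * (la a * lb b * le e)⁻¹ * (c3 5 6 7)⁻¹) := by decide +kernel

/-- among the 576 even permutations fixing `sb` (i.e. the partition `0123 | 4567`) -/
theorem v44_of {σ : S8} (h : σ ∈ A8) (hs : P σ sb = sb) (h1 : σ ^ 16 = 1)
    (h2 : (σ * c3 0 1 2 * σ⁻¹ * (c3 0 1 2)⁻¹) ^ 16 = 1)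
    (h3 : (σ * c3 5 6 7 * σ⁻¹ * (c3 5 6 7)⁻¹) ^ 16 = 1) : V44 σ := by
  have _ := h
  obtain ⟨s, t, a, b, e, rfl⟩ := dec_sb hs
  have n : V44 (pa s * pw t) := ⟨s, t, rfl⟩
  have := o3 a b e
  have hr : P (la a * lb b * le e) sb = sb := by
    rw [← P_inv_P (pa s * pw t) (P _ sb), ← P_mul (pa s * pw t) (_ * _), hs]
    conv_lhs => rw [← v44_sb s t, P_inv_P]
  generalize la a * lb b * le e = r at *
  generalize pa s * pw t = m at *
  have st : ∀ {g}, P g sb = sb → P g⁻¹ sb = sb := fun {g} h => by conv_lhs => rw [← h, P_inv_P]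
  have cm : ∀ c, P c sb = sb → (m * r * c * (m * r)⁻¹ * c⁻¹) ^ 16 = 1 → (r * c * r⁻¹ * c⁻¹) ^ 3 = 1 →
      r * c * r⁻¹ * c⁻¹ = 1 := fun c hc e => by
    refine red (n.mul (n.conj (τ := r * c * r⁻¹) (by rw [P_mul, P_mul, st hr, hc, hr])))
      (by rw [P_mul, P_mul, P_mul, st hc, st hr, hc, hr]) ?_
    rw [← e, mul_inv_rev m, inv_eq_of_mul_eq_one_right n.sq]
    congr 1
    group
  rcases this with rfl | ⟨e1, e2⟩ | ⟨e1, e2⟩ | ⟨e1, e2⟩
  · rwa [mul_one]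
  · exact absurd (red n hr h1 e2) e1
  · exact absurd (cm _ c3_sb.1 h2 e2) e1
  · exact absurd (cm _ c3_sb.2 h3 e2) e1
theorem V44.move {σ : S8} (h : V44 σ) {x : V} (hx : bf x sb = 0) : ∃ c : F4, P σ x + x = c • sb := by
  obtain ⟨s, t, rfl⟩ := h
  have e : x 2 = 0 := by simpa [bf, sb] using hx
  refine ⟨(P (pa s * pw t) x + x) 5, ?_⟩
  vs
  simp [e, f4_add_self]
theorem V44.eq_one {σ : S8} (h : V44 σ) (e : ∀ x, bf x sb = 0 → P σ x + x = 0 ∨ P σ x + x = sb) :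
    σ = 1 := by
  obtain ⟨s, t, rfl⟩ := h
  have k : s = 0 ∧ t = 0 := by
    have e1 := e ![1, 0, 0, 0, 0, 0] (by decide)
    have e2 := e ![w, 0, 0, 0, 0, 0] (by decide)
    have e3 := e ![0, 0, 0, 0, 1, 0] (by decide)
    have e4 := e ![0, 0, 0, 0, w, 0] (by decide)
    clear e
    revert e1 e2 e3 e4
    vs
    revert s t; decide +kernel
  rw [k.1, k.2]; decide +kernel
theorem re_of_v44 {x : V} (hx : bf x sb = 0)
    (e : ∀ σ ∈ [db 0 1 2 3, db 0 2 1 3, db 4 5 6 7, db 4 6 5 7], P σ x + x = 0 ∨ P σ x + x = sb) :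
    ∃ c : F4, Re (x + c • sb) := by
  have e1 := e (pa 1) (by simp [pa])
  have e2 := e (pa w) (by simp [pa])
  have e3 := e (pw 1) (by simp [pw])
  have e4 := e (pw w) (by simp [pw])
  refine ⟨x 5, ?_⟩
  clear e
  revert hx e1 e2 e3 e4
  vs
  generalize x 0 = a, x 1 = b, x 2 = c, x 3 = d, x 4 = e, x 5 = f
  revert a b c d e f; decide +kernel
theorem rho_sum {x : V} (h : Re x) (hx : bf x sb = 0) :
    x + P (c3 0 1 2 * c3 5 6 7) x + P ((c3 0 1 2 * c3 5 6 7) ^ 2) x = 0 ∨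
      x + P (c3 0 1 2 * c3 5 6 7) x + P ((c3 0 1 2 * c3 5 6 7) ^ 2) x = sb := by
  revert h hx
  vs
  generalize x 0 = a, x 1 = b, x 2 = c, x 3 = d, x 4 = e, x 5 = f
  revert a b c d e f; decide +kernel

end CL.Co1S
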