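import Cfsg.Agent.INV.CO1.Defs
import Cfsg.Agent.S5432
import Cfsg.Agent.S0296
import Cfsg.Agent.SPOR.A10.ESPin
import Cfsg.Agent.INV.STD.O8B
import Cfsg.Agent.SOLV.Basic

/-! `N(Q) / Q O ≅ Ω₈⁺(2)`. -/

set_option autoImplicit false
set_option linter.unusedSectionVars false
open Subgroup

namespace CL.Co1S

/-- `Ω₈⁺(2)` -/
abbrev Om8 := Cfsg.Omega (ZMod 2) (Cfsg.quadFormPlus 4 (ZMod 2))

variable {G : Type*} [Group G] [Finite G]

theorem simple_Om8 : IsSimpleGroup Om8 :=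
  have := Cfsg.Agent.S0296.result (F := ZMod 2) 4 le_rfl
  ((QuotientGroup.quotientMulEquivOfEq (card_eq_one.1 StdO8.card_center_Om)).trans
    QuotientGroup.quotientBot).symm.isSimpleGroup
theorem nonab_Om8 : ¬ IsMulCommutative Om8 := fun h => by
  have := StdO8.card_center_Om
  rw [show center StdO8.Om = ⊤ from eq_top_iff.2 fun a _ => mem_center_iff.2 fun b => h.1.1 b a, card_top,
    StdO8.card_Om] at this
  omega

namespace XS
variable (S : XS G)

theorem comm_z {g : G} (hg : g ∈ normalizer (S.Q : Set G)) : Commute g S.z := by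
  have m := (mem_normalizer_iff.1 hg _).1 S.es.z_mem
  rcases S.es.cent _ m (fun y hy => by
    have := S.es.z_comm _ ((mem_normalizer_iff.1 (inv_mem hg) _).1 hy)
    calc _ = g * (S.z * (g⁻¹ * y * g⁻¹⁻¹)) * g⁻¹ := by group
      _ = _ := by rw [← this]; group) with e | e
  · exact absurd (by simpa using e) S.es.z_ne
  · exact mul_inv_eq_iff_eq_mul.1 e
/-- `C(Q) = ⟨z⟩ O` -/
theorem cenQ {g : G} (hg : g ∈ centralizer (S.Q : Set G)) : g ∈ S.O ∨ S.z * g ∈ S.O := by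
  obtain ⟨q, hq, o, ho, rfl⟩ := S.ker g (centralizer_le_normalizer _ hg) fun q hq =>
    .inl (by rw [← hg q hq, mul_inv_cancel_right])
  rcases S.es.cent q hq (fun y hy => by simpa using (mul_mem hg (inv_mem (S.OQ ho)) y hy).symm) with rfl | rfl
  · exact .inl (by simpa)
  · exact .inr (by rwa [← mul_assoc, S.es.z_sq, one_mul])
/-- a 2-element of `Q O` lies in `Q` -/
theorem mem_Q {q o : G} (hq : q ∈ S.Q) (ho : o ∈ S.O) {n : ℕ} (h : (q * o) ^ 2 ^ n = 1) : o = 1 := by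
  have : (q * o) ^ (4 * 2 ^ n) = 1 := by rw [mul_comm 4, pow_mul, h, one_pow]
  rw [Commute.mul_pow (S.OQ ho q hq), pow_mul, S.es.pow_four hq, one_pow, one_mul,
    show 4 * 2 ^ n = 2 ^ (n + 2) by ring] at this
  exact orderOf_eq_one_iff.1 (Nat.eq_one_of_dvd_coprimes ((Nat.coprime_two_left.2 S.Oodd).pow_left _)
    (orderOf_dvd_of_pow_eq_one this) (orderOf_dvd_natCard _ ho))
/-- `O` = the elements of odd order of `C(Q)` -/
theorem N_O : normalizer (S.Q : Set G) ≤ normalizer (S.O : Set G) := fun g hg => mem_normalizer_fintype fun o ho => by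
  refine (S.cenQ fun q hq => ?_).resolve_right fun h => S.es.z_ne ?_
  · have := S.OQ ho _ ((mem_normalizer_iff.1 (inv_mem hg) _).1 hq)
    calc _ = g * (g⁻¹ * q * g⁻¹⁻¹ * o) * g⁻¹ := by group
      _ = _ := by rw [this]; group
  · have k := orderOf_dvd_iff_pow_eq_one.1 (orderOf_dvd_natCard _ h)
    have c : Commute S.z (g * o * g⁻¹) := ((S.comm_z hg).symm.mul_right (S.OQ ho _ S.es.z_mem)).mul_right
      (S.comm_z hg).symm.inv_right
    rw [c.mul_pow, conj_pow, orderOf_dvd_iff_pow_eq_one.1 (orderOf_dvd_natCard _ ho)] at k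
    obtain ⟨j, hj⟩ := S.Oodd
    simpa [hj, pow_succ, pow_mul, sq, S.es.z_sq] using k
/-- `H = N(Q) → Aut Q → Out Q ≅ O₈⁺(2)` (`S5432`, `plus`); the kernel is `Q C(Q) = Q O`. `H` is transitive on the noncentral involutions
of `Q` (`tr`) with stabiliser `C(z, y0)` (`nY`, `cardC`); there are 270 of them (`CL.…es_cases`: 272 or 240 solutions of `x² = 1`; in the second case
`238 · 2¹⁴ · 20160 / 512` does not divide `|O₈⁺(2)| = 348364800`). So the image has order `174182400`, index 2, hence contains and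
equals the commutator subgroup (`CL.StdO8.card_Om`, `index_Om`). -/
theorem exists_μ : ∃ μ : normalizer (S.Q : Set G) →* Om8, Function.Surjective μ ∧
    ∀ g, μ g = 1 ↔ ∃ q ∈ S.Q, ∃ o ∈ S.O, (g : G) = q * o := by
  obtain ⟨E, hE, E2, cE⟩ := S.plus
  obtain ⟨e⟩ := (Cfsg.Agent.S5432.result S.es.isExtraspecial 4 (by norm_num) S.card).1 ⟨E.subgroupOf S.Q,
    ⟨⟨⟨fun a b => Subtype.ext (Subtype.ext (by
      have k : ∀ x : E.subgroupOf S.Q, ((x : S.Q) : G)⁻¹ = x := fun x => inv_eq_of_mul_eq_one_right (E2 _ x.2)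
      exact (by rw [mul_inv_rev, k, k]; rfl : _ = ((b : S.Q) * a : G)⁻¹).trans (k (b * a))))⟩⟩, fun a ha => Subtype.ext (by simpa [sq] using E2 _ ha)⟩,
    by rw [Nat.card_congr (subgroupOfEquivOfLe hE).toEquiv, cE]; rfl⟩
  let ν := e.toMonoidHom.comp ((QuotientGroup.mk' _).comp S.Q.normalizerMonoidHom)
  have hk : ∀ g, ν g = 1 ↔ ∃ q ∈ S.Q, ∃ o ∈ S.O, (g : G) = q * o := fun g => by
    refine (e.map_eq_one_iff.trans (QuotientGroup.eq_one_iff _)).trans ⟨fun ⟨y, h⟩ => S.ker _ g.2 fun q hq => ?_,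
      fun ⟨q, hq, o, ho, h⟩ => ⟨⟨q, hq⟩, MulEquiv.ext fun x => Subtype.ext ?_⟩⟩
    · exact (show (y : G) * q * (y : G)⁻¹ = g * q * (g : G)⁻¹ from congrArg Subtype.val (DFunLike.congr_fun h (⟨q, hq⟩ : S.Q))) ▸
        S.es.conj_cases hq y.2
    · change q * x * q⁻¹ = g * x * (g : G)⁻¹
      rw [h, mul_assoc q o, ← S.OQ ho _ x.2]; group
  have ON := S.OQ.trans (centralizer_le_normalizer _)
  have c1 : Nat.card ν.ker = Nat.card S.O * 512 := by
    rw [show ν.ker = (S.O ⊔ S.Q).subgroupOf _ from Subgroup.ext fun g => (hk g).trans ⟨fun ⟨q, hq, o, ho, h⟩ =>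
      mem_subgroupOf.2 (h ▸ mul_mem (mem_sup_right hq) (mem_sup_left ho)), fun h => by
        obtain ⟨o, ho, q, hq, h⟩ := (mem_sup_of_le_normalizer ON).1 h
        exact ⟨q, hq, o, ho, h.symm.trans (S.OQ ho q hq).symm⟩⟩,
      Nat.card_congr (subgroupOfEquivOfLe (sup_le ON le_normalizer)).toEquiv, CL.card_sup_of_disjoint ON
        (eq_bot_iff.2 fun o ho => S.mem_Q (one_mem _) ho.1 (n := 2) (by rw [one_mul]; exact S.es.pow_four ho.2)), S.card]
  let _ : MulAction (normalizer (S.Q : Set G)) S.Q := MulAction.compHom _ S.Q.normalizerMonoidHom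
  have sm : ∀ (g : normalizer (S.Q : Set G)) (x : S.Q), ((g • x : S.Q) : G) = g * x * (g : G)⁻¹ := fun _ _ => rfl
  have c2 := (MulAction.stabilizer (normalizer (S.Q : Set G)) (⟨S.y0, S.yQ⟩ : S.Q)).card_mul_index
  have h1 : MulAction.stabilizer (normalizer (S.Q : Set G)) (⟨S.y0, S.yQ⟩ : S.Q) =
      (centralizer {S.z, S.y0}).subgroupOf _ := Subgroup.ext fun g => by
    simp only [MulAction.mem_stabilizer_iff, Subtype.ext_iff, sm, mem_subgroupOf, mem_centralizer_iff,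
      Set.mem_insert_iff, Set.mem_singleton_iff, forall_eq_or_imp, forall_eq, (S.comm_z g.2).eq, true_and,
      mul_inv_eq_iff_eq_mul]
    exact eq_comm
  have h2 : MulAction.orbit (normalizer (S.Q : Set G)) (⟨S.y0, S.yQ⟩ : S.Q) =
      {x | x ^ 2 = 1} \ {1, ⟨S.z, S.es.z_mem⟩} := Set.ext fun x => by
    simp only [Set.mem_sdiff, Set.mem_ofPred_eq, Set.mem_insert_iff, Set.mem_singleton_iff, Subtype.ext_iff, not_or,
      MulAction.mem_orbit_iff, sm, coe_one, sq, coe_mul]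
    refine ⟨fun ⟨g, k⟩ => k ▸ ⟨by rw [conj_mul, S.y2]; simp, by simpa using S.y1, fun n => S.yz ?_⟩, fun k => ?_⟩
    · rwa [← (S.comm_z g.2).mul_inv_cancel, mul_left_inj, mul_right_inj] at n
    · obtain ⟨g, hg, k⟩ := S.tr x x.2 k.1 k.2.1 k.2.2
      exact ⟨⟨g, hg⟩, k⟩
  have z1 : (1 : S.Q) ≠ ⟨S.z, S.es.z_mem⟩ := fun k => S.es.z_ne (congrArg Subtype.val k).symm
  have c3 := Set.ncard_sdiff_add_ncard_of_subset (s := {1, ⟨S.z, S.es.z_mem⟩}) (t := {x : S.Q | x ^ 2 = 1}) (by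
    rintro _ (rfl | rfl)
    exacts [one_pow 2, Subtype.ext ((sq _).trans S.es.z_sq)])
  rw [MulAction.index_stabilizer, h1, h2, Nat.card_congr (subgroupOfEquivOfLe fun g hg => S.nY g
    (hg _ (by simp)).symm (.inl (by rw [← hg S.y0 (by simp), mul_inv_cancel_right]))).toEquiv, S.cardC,
    ← ν.ker.card_mul_index, index_ker, c1, mul_comm _ (Nat.card S.O), mul_assoc, mul_assoc _ 512,
    mul_right_inj' Nat.card_pos.ne'] at c2
  rw [Set.ncard_pair z1, ← Nat.card_coe_set_eq {x : S.Q | x ^ 2 = 1}] at c3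
  have c4 : Nat.card ν.range * ν.range.index = 174182400 * 2 := by
    rw [card_mul_index, ← StdO8.Om.card_mul_index, StdO8.card_Om, StdO8.index_Om]
  have c5 : Nat.card ν.range = 174182400 := by
    rcases A10.es_cases S.es (m := 3) S.card with ⟨-, k⟩ | ⟨-, k⟩ <;> change _ = Nat.card {x : S.Q // x ^ 2 = 1} at c3
    · omega
    · exact absurd (Dvd.intro _ c4) (by rw [show Nat.card ν.range = 153538560 by omega]; norm_num)
  have c6 : ν.range.index = 2 := by rw [c5] at c4; omega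
  have c7 : StdO8.Om = ν.range := eq_of_le_of_card_ge (commutator_le.2 fun a _ b _ => by
    simp only [commutatorElement_def, mul_mem_iff_of_index_two c6, inv_mem_iff]; tauto) (by rw [c5, StdO8.card_Om])
  exact ⟨ν.codRestrict _ fun g => c7.ge ⟨g, rfl⟩, fun x => let ⟨g, k⟩ := c7.le x.2; ⟨g, Subtype.ext k⟩,
    fun g => Subtype.ext_iff.trans (hk g)⟩
/-- a normal subgroup `M₀` of `N(Q)` lies in `Q O`, or contains every 2-element modulo `Q`: if `μ(M₀) ≠ 1` then `N(Q) = M₀ Q O` -/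
theorem dich {M₀ : Subgroup G} (hQ : S.Q ≤ M₀) (h : M₀ ≤ normalizer (S.Q : Set G))
    (hn : normalizer (S.Q : Set G) ≤ normalizer (M₀ : Set G)) :
    (∀ m ∈ M₀, ∃ q ∈ S.Q, ∃ o ∈ S.O, m = q * o) ∨
      ∀ t ∈ normalizer (S.Q : Set G), ∀ n : ℕ, t ^ 2 ^ n = 1 → t ∈ M₀ := by
  obtain ⟨μ, hs, hk⟩ := S.exists_μ
  have := simple_Om8
  have : (M₀.subgroupOf (normalizer (S.Q : Set G))).Normal := normal_subgroupOf_of_le_normalizer hn
  refine (((this.map μ hs).eq_bot_or_eq_top).imp (fun e m hm => (hk ⟨m, h hm⟩).1 (e.le ⟨_, hm, rfl⟩))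
    fun e t ht n t2 => ?_)
  have k1 : ∃ o ∈ S.O, t * o⁻¹ ∈ M₀ := by
    obtain ⟨m, hm, k⟩ := e.ge (mem_top (μ ⟨t, ht⟩))
    obtain ⟨q, hq, o, ho, k⟩ := (hk (m⁻¹ * ⟨t, ht⟩)).1 (by rw [map_mul, map_inv, k, inv_mul_cancel])
    refine ⟨o, ho, ?_⟩
    rw [inv_mul_eq_iff_eq_mul.1 (show (m : G)⁻¹ * t = q * o from k), ← mul_assoc, mul_inv_cancel_right]
    exact mul_mem hm (hQ hq)
  obtain ⟨o, ho, k1⟩ := k1
  have k2 : ∀ n : ℕ, t ^ n * (o ^ n)⁻¹ ∈ M₀ := fun n => by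
    induction n with
    | zero => simp
    | succ n ih =>
      rw [show t ^ (n + 1) * (o ^ (n + 1))⁻¹ = t * (t ^ n * (o ^ n)⁻¹) * t⁻¹ * (t * o⁻¹) by group]
      exact mul_mem ((mem_normalizer_iff.1 (hn ht) _).1 ih) k1
  have k3 := k2 (Nat.card S.O)
  rw [orderOf_dvd_iff_pow_eq_one.1 (orderOf_dvd_natCard _ ho), inv_one, mul_one] at k3
  obtain ⟨m, hm⟩ := exists_pow_eq_self_of_coprime (x := t) (n := Nat.card S.O)
    (((Nat.coprime_two_right.2 S.Oodd).pow_right n).coprime_dvd_right (orderOf_dvd_of_pow_eq_one t2))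
  exact hm ▸ pow_mem k3 m

end XS
end CL.Co1S
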