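import Cfsg.Agent.INV.CO1.AS1
import Cfsg.Agent.INV.CO1.ModR

/-! CO1/S7a: the extraspecial group `Q = P₀ ⟨j'⟩` and its normaliser in `D = N(Y) ∩ C(z)`, `z = y 1`. -/

set_option autoImplicit false
set_option linter.unusedSectionVars false
open Subgroup

namespace CL.Co1S
open F4

/-- the data of `Q` -/
structure AQ (G : Type*) [Group G] extends AJ G where
  Q : Subgroup G
  j2 : j * j = 1 ∨ j * j = y 1
  jP : ∀ p ∈ W, Re (cl p) → j * p * j⁻¹ = p ∨ j * p * j⁻¹ = p * y 1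
  mem_Q : ∀ g, g ∈ Q ↔ (g ∈ W ∧ Re (cl g)) ∨ (j⁻¹ * g ∈ W ∧ Re (cl (j⁻¹ * g)))

variable {G : Type*} [Group G] [Finite G]

namespace S7

/-- `P ∪ j P` -/
def ext (P : Subgroup G) (j : G) (hj : j ∈ normalizer (P : Set G)) (h2 : j * j ∈ P) : Subgroup G where
  carrier := {g | g ∈ P ∨ j⁻¹ * g ∈ P}
  one_mem' := .inl (one_mem _)
  mul_mem' := by
    rintro g h (a | a) (b | b)
    · exact .inl (mul_mem a b)
    · exact .inr (by simpa [mul_assoc] using mul_mem ((mem_normalizer_iff.1 (inv_mem hj) g).1 a) b)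
    · exact .inr (by simpa only [mul_assoc] using mul_mem a b)
    · exact .inl (by simpa [mul_assoc] using mul_mem (mul_mem ((mem_normalizer_iff.1 hj _).1 a) h2) b)
  inv_mem' := by
    rintro g (a | a)
    · exact .inl (inv_mem a)
    · exact .inr (by
        simpa [mul_assoc] using mul_mem ((mem_normalizer_iff.1 (inv_mem hj) _).1 (inv_mem a)) (inv_mem h2))

/-- the real part of `W` -/
def P0 (S : AS G) : Subgroup G where
  carrier := {g | g ∈ S.W ∧ Re (S.cl g)}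
  one_mem' := ⟨one_mem _, S.cl_one ▸ Re.zero⟩
  mul_mem' := fun a b => ⟨mul_mem a.1 b.1, S.cl_mul _ a.1 _ b.1 ▸ a.2.add b.2⟩
  inv_mem' := fun a => ⟨inv_mem a.1, (S.cl_inv a.1).symm ▸ a.2⟩

omit [Finite G] in
theorem y_P0 (S : AS G) (t : F4) : S.y t ∈ P0 S := ⟨S.yW t, (S.cl_y t).symm ▸ Re.zero⟩

omit [Finite G] in
theorem card_P0 (S : AS G) : Nat.card (P0 S) = 256 := by
  choose s hs hs' using S.cl_surj
  have : Function.Bijective fun p : {x : V // Re x} × F4 => (⟨s p.1 * S.y p.2,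
      mul_mem (show s p.1 ∈ P0 S from ⟨hs _, (hs' _).symm ▸ p.1.2⟩) (y_P0 S _)⟩ : P0 S) := by
    constructor
    · rintro ⟨x, a⟩ ⟨x', a'⟩ e
      have e := congrArg Subtype.val e
      have e1 := congrArg S.cl e
      simp only at e e1
      rw [S.cl_mul _ (hs _) _ (S.yW _), S.cl_mul _ (hs _) _ (S.yW _), S.cl_y, S.cl_y, hs', hs', add_zero,
        add_zero] at e1
      obtain rfl := Subtype.ext e1
      rw [S.y_inj (mul_left_cancel e)]
    · rintro ⟨u, hu⟩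
      obtain ⟨a, e⟩ := S.eq_of_cl hu.1 (hs (S.cl u)) (hs' _).symm
      exact ⟨(⟨S.cl u, hu.2⟩, a), Subtype.ext e.symm⟩
  rw [← Nat.card_eq_of_bijective _ this, Nat.card_prod, card_Re, Nat.card_eq_fintype_card, F4.card_eq]

omit [Finite G] in
theorem j_W (S : AJ G) : S.j ∈ normalizer (S.W : Set G) :=
  S.nY (mem_normalizer_fintype (by rintro _ ⟨t, rfl⟩; exact ⟨_, (S.jy t).symm⟩))

/-- change `j` by an element acting trivially -/
def mulJ (S : AJ G) (a : G) (h1 : a ∈ S.toAS.N1) (h2 : a ∈ centralizer (S.O : Set G)) (h3 : S.π a = 1) :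
    AJ G :=
  { S with
    j := S.j * a
    jy := fun t => by
      rw [← S.jy, mul_assoc S.j, ← h1.2 _ ⟨t, rfl⟩]; group
    jO := mul_mem S.jO h2
    jcl := fun g hg => by
      rw [show S.j * a * g * (S.j * a)⁻¹ = S.j * (a * g * a⁻¹) * S.j⁻¹ by group,
        S.jcl _ ((mem_normalizer_iff.1 h1.1 g).1 hg), S.act a h1 g hg, h3, P_one] }

omit [Finite G] in
theorem step1 (S : AJ G) : ∃ S' : AJ G, S'.j * S'.j ∈ S'.W := by
  have jW := j_W S
  have h1 : S.j * S.j ∈ S.toAS.N1 := ⟨mul_mem jW jW, S.mem_C2.2 fun t => mul_inv_eq_iff_eq_mul.1 (by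
    rw [show S.j * S.j * S.y t * (S.j * S.j)⁻¹ = S.j * (S.j * S.y t * S.j⁻¹) * S.j⁻¹ by group, S.jy, S.jy,
      ← pow_mul, Md.p4])⟩
  obtain ⟨g, hg, o, ho, e⟩ := S.ker _ h1 (S.π_eq h1 fun g hg => by
    rw [show S.j * S.j * g * (S.j * S.j)⁻¹ = S.j * (S.j * g * S.j⁻¹) * S.j⁻¹ by group,
      S.jcl _ ((mem_normalizer_iff.1 jW g).1 hg), S.jcl _ hg, kap_kap, P_one])
  obtain ⟨k, hk⟩ := S.Oodd
  have oc : o ∈ centralizer (S.O : Set G) := by
    rw [eq_inv_mul_of_mul_eq e.symm]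
    exact mul_mem (inv_mem (le_centralizer_iff.1 S.OW hg)) (mul_mem S.jO S.jO)
  refine ⟨mulJ S (o ^ k) (S.O_le (pow_mem ho k)) (pow_mem oc k) (S.π_O (pow_mem ho k)), ?_⟩
  change S.j * o ^ k * (S.j * o ^ k) ∈ S.W
  have h2 : o ^ (2 * k + 1) = 1 := hk ▸ orderOf_dvd_iff_pow_eq_one.1 (orderOf_dvd_natCard _ ho)
  rwa [mul_assoc, ← mul_assoc (o ^ k), S.jO _ (pow_mem ho k), mul_assoc, ← mul_assoc, e, mul_assoc, ← pow_add,
    ← pow_succ', ← two_mul, h2, mul_one]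

omit [Finite G] in
theorem step2 (S : AJ G) (h : S.j * S.j ∈ S.W) : ∃ S' : AJ G, S'.j * S'.j ∈ S'.W ∧
    ∀ p ∈ P0 S'.toAS, S'.j * p * S'.j⁻¹ = p ∨ S'.j * p * S'.j⁻¹ = p * S'.y 1 := by
  have jW := j_W S
  have ex : ∀ p ∈ P0 S.toAS, ∃ t, S.j * p * S.j⁻¹ = p * S.y t := fun p hp =>
    S.eq_of_cl ((mem_normalizer_iff.1 jW p).1 hp.1) hp.1 ((S.jcl p hp.1).trans hp.2)
  choose s hs hs' using S.cl_surj
  choose! τ hτ using ex
  have sp : ∀ x, Re x → s x ∈ P0 S.toAS := fun x hx => ⟨hs x, (hs' x).symm ▸ hx⟩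
  have add : ∀ p ∈ P0 S.toAS, ∀ q ∈ P0 S.toAS, τ (p * q) = τ p + τ q := fun p hp q hq => by
    refine S.y_inj (mul_left_cancel (a := p * q) ?_)
    rw [← hτ _ (mul_mem hp hq), ← conj_mul, hτ p hp, hτ q hq, S.y_add, mul_assoc p, ← mul_assoc (S.y _),
      ← (S.Wy q hq.1 _).eq]; group
  have key : ∀ p ∈ P0 S.toAS, τ p + τ p ^ 2 = τ (s (S.cl p)) + τ (s (S.cl p)) ^ 2 := fun p hp => by
    obtain ⟨a, e⟩ := S.eq_of_cl hp.1 (hs (S.cl p)) (hs' _).symm
    have h1 : τ (S.y a) = a + a ^ 2 := S.y_inj (mul_left_cancel (a := S.y a) (by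
      rw [← hτ _ (y_P0 _ a), S.jy, S.y_add, ← mul_assoc, S.y_sq, one_mul]))
    have h2 := add _ (sp _ hp.2) _ (y_P0 _ a)
    rw [← e, h1] at h2
    rw [h2]
    exact (by decide : ∀ t a : F4, t + (a + a ^ 2) + (t + (a + a ^ 2)) ^ 2 = t + t ^ 2) _ _
  obtain ⟨u, -, hu⟩ := exists_dual (χ := fun x => τ (s x) + τ (s x) ^ 2)
    (fun x _ => (by decide : ∀ t : F4, t + t ^ 2 = 0 ∨ t + t ^ 2 = 1) _) fun x x' hx hx' => by
      have := key _ (mul_mem (sp x hx) (sp x' hx'))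
      rw [S.cl_mul _ (hs _) _ (hs _), hs', hs', add _ (sp x hx) _ (sp x' hx')] at this
      rw [← this]
      exact (by decide : ∀ t a : F4, t + a + (t + a) ^ 2 = t + t ^ 2 + (a + a ^ 2)) _ _
  refine ⟨mulJ S (s (w • u)) (S.W_le (hs _)) (le_centralizer_iff.1 S.OW (hs _)) (S.π_W (hs _)), ?_,
    fun p hp => ?_⟩
  · change S.j * s (w • u) * (S.j * s (w • u)) ∈ S.W
    simpa [mul_assoc] using mul_mem (mul_mem ((mem_normalizer_iff.1 jW _).1 (hs (w • u))) h) (hs (w • u))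
  · change S.j * s (w • u) * p * (S.j * s (w • u))⁻¹ = p ∨
      S.j * s (w • u) * p * (S.j * s (w • u))⁻¹ = p * S.y 1
    have hp : p ∈ P0 S.toAS := hp
    have e := hu _ hp.2
    rw [show S.j * s (w • u) * p * (S.j * s (w • u))⁻¹ = S.j * (s (w • u) * p * (s (w • u))⁻¹) * S.j⁻¹ by group,
      S.conj_W (hs _) hp.1, ← conj_mul, hτ p hp, S.jy, hs', bf_smul_left, ← e, ← key p hp, mul_assoc, ← S.y_add]
    rcases (by decide : ∀ t : F4, t + (w * (t + t ^ 2)) ^ 2 = 0 ∨ t + (w * (t + t ^ 2)) ^ 2 = 1) (τ p) with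
      c | c <;> rw [c]
    · exact .inl (by rw [S.y_zero, mul_one])
    · exact .inr rfl

omit [Finite G] in
/-- an element of `W` commuting with `j` and the real elements -/
theorem cent (S : AJ G) {a : G} (ha : a ∈ S.W) (hj : S.j * a * S.j⁻¹ = a)
    (h : ∀ p ∈ P0 S.toAS, a * p * a⁻¹ = p) : a = 1 ∨ a = S.y 1 := by
  obtain ⟨t, rfl⟩ := S.cl_zero a ha (re_nondeg fun x hx => by
    obtain ⟨p, hp, rfl⟩ := S.cl_surj x
    exact S.y_ne _ (mul_eq_left.1 ((S.conj_W ha hp).symm.trans (h p ⟨hp, hx⟩))))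
  rcases (by decide : ∀ t : F4, t ^ 2 = t → t = 0 ∨ t = 1) t (S.y_inj ((S.jy t).symm.trans hj)) with rfl | rfl
  exacts [.inl S.y_zero, .inr rfl]

omit [Finite G] in
theorem jz (S : AJ G) : S.j * S.y 1 * S.j⁻¹ = S.y 1 := by rw [S.jy, one_pow]

/-- commute modulo `z` -/
def Cz (z a b : G) : Prop := a * b = b * a ∨ a * b = b * a * z

omit [Finite G] in
theorem Cz.symm {z a b : G} (z2 : z * z = 1) (h : Cz z a b) : Cz z b a :=
  h.imp Eq.symm fun e => by rw [e, mul_assoc, z2, mul_one]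

omit [Finite G] in
theorem Cz.mul {z a b c : G} (z2 : z * z = 1) (hc : Commute c z) (h : Cz z a b) (h' : Cz z a c) :
    Cz z a (b * c) := by
  rcases h with e | e <;> rcases h' with e' | e' <;> rw [Cz, ← mul_assoc, e]
  · exact .inl (by rw [mul_assoc, e', mul_assoc])
  · exact .inr (by rw [mul_assoc, e']; group)
  · exact .inr (by rw [mul_assoc, ← hc.eq, ← mul_assoc, mul_assoc b, e']; group)
  · exact .inl (by rw [mul_assoc, ← hc.eq, ← mul_assoc, mul_assoc b, e', ← mul_assoc, mul_assoc _ z, z2]; group)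

end S7

open S7

/-- Change `j`. `j² ∈ N₁` acts trivially on `W / Y` (`kap_kap`), so `j² = g o` (`π_eq`, `ker`); replace `j` by an odd power `j ^ m`,
`m = |O|` (it has the same properties as `kap ^ odd = kap`), so that `j² ∈ W`. For `p ∈ W` real,
`j p j⁻¹ = p y(τ p)`, `τ` is additive (`Y` is central in `W`), `χ = τ + τ²` has values in `{0,1}`, vanishes on `Y`
(`t² + t ∈ {0,1}`) and so is a function of the class: `χ = bf u` (`exists_dual`). Take `g ∈ W` with class `w • u` and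
`j' = j g`: `j' p j'⁻¹ = p y(τ p + v · bf u p)` and `t = τ + v χ` satisfies `t + t² = 0`. Then `j'² ∈ W` commutes with `j'`, so is real,
and centralises the real `p` (`j'` acts on `{p, p z}`, `z` fixed), so its class is 0 (`re_nondeg`, `conj_W`), `j'² = y t` with `t² = t`.
`Q` is the subgroup with the carrier of `mem_Q`. -/
theorem AJ.exists_aq (S : AJ G) : Nonempty (AQ G) := by
  obtain ⟨S, h⟩ := step1 S
  obtain ⟨S, h, hP⟩ := step2 S h
  have j2 : S.j * S.j = 1 ∨ S.j * S.j = S.y 1 := cent S h (by group) fun p hp => by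
    rw [show S.j * S.j * p * (S.j * S.j)⁻¹ = S.j * (S.j * p * S.j⁻¹) * S.j⁻¹ by group]
    rcases hP p hp with e | e
    · rw [e, e]
    · rw [e, ← conj_mul, e, jz, mul_assoc, S.y_sq, mul_one]
  exact ⟨{ S with
    Q := ext (P0 S.toAS) S.j (mem_normalizer_fintype fun p hp => by
      rcases hP p hp with e | e <;> rw [e]
      exacts [hp, mul_mem (show p ∈ P0 _ from hp) (y_P0 _ 1)]) (by
      rcases j2 with e | e <;> rw [e]
      exacts [one_mem _, y_P0 _ 1])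
    j2 := j2
    jP := fun p h1 h2 => hP p ⟨h1, h2⟩
    mem_Q := fun _ => Iff.rfl }⟩

namespace AQ
variable (S : AQ G)

theorem j_mem : S.j ∈ S.Q := (S.mem_Q _).2 (.inr (by rw [inv_mul_cancel]; exact one_mem (P0 S.toAS)))
theorem j_W : S.j ∈ normalizer (S.W : Set G) := S7.j_W S.toAJ
theorem mem_of_re {g : G} (hg : g ∈ S.W) (h : Re (S.cl g)) : g ∈ S.Q := (S.mem_Q _).2 (.inl ⟨hg, h⟩)
theorem j_yw : S.j * S.y w ≠ S.y w * S.j := fun e =>
  absurd (S.y_inj ((S.jy w).symm.trans (mul_inv_eq_iff_eq_mul.2 e))) (by decide)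
theorem j_notW : S.j ∉ S.W := fun h => S.j_yw (S.Wy _ h w)
theorem re_of_mem {g : G} (hg : g ∈ S.W) (h : g ∈ S.Q) : Re (S.cl g) := by
  rcases (S.mem_Q g).1 h with e | e
  · exact e.2
  · exact absurd (by simpa using mul_mem hg (inv_mem e.1)) S.j_notW
theorem cases {g : G} (h : g ∈ S.Q) : g ∈ P0 S.toAS ∨ ∃ p ∈ P0 S.toAS, g = S.j * p :=
  ((S.mem_Q g).1 h).imp_right fun e => ⟨_, e, (mul_inv_cancel_left _ _).symm⟩
theorem j_z : Commute S.j (S.y 1) := mul_inv_eq_iff_eq_mul.1 (jz S.toAJ)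
theorem es : LX.ES S.Q (S.y 1) := by
  have z2 := S.y_sq 1
  have zc : ∀ x ∈ S.Q, Commute x (S.y 1) := fun x hx => by
    rcases S.cases hx with h | ⟨p, h, rfl⟩
    exacts [S.Wy x h.1 1, S.j_z.mul_left (S.Wy p h.1 1)]
  have c1 : ∀ p ∈ P0 S.toAS, ∀ q ∈ P0 S.toAS, Cz (S.y 1) p q := fun p hp q hq => by
    rw [Cz, S.cm p hp.1 q hq.1]
    rcases hp.2.bf01 hq.2 with e | e <;> rw [e]
    exacts [.inl (by rw [S.y_zero, mul_one]), .inr rfl]
  have c2 : ∀ p ∈ P0 S.toAS, Cz (S.y 1) S.j p := fun p hp => (S.jP p hp.1 hp.2).imp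
    mul_inv_eq_iff_eq_mul.1 fun e => by rw [mul_inv_eq_iff_eq_mul.1 e, mul_assoc, ← S.j_z.eq, mul_assoc]
  have c3 : ∀ a, Cz (S.y 1) a S.j → (∀ p ∈ P0 S.toAS, Cz (S.y 1) a p) → ∀ x ∈ S.Q, Cz (S.y 1) a x :=
    fun a h1 h2 x hx => by
      rcases S.cases hx with h | ⟨p, h, rfl⟩
      exacts [h2 x h, h1.mul z2 (S.Wy p h.1 1) (h2 p h)]
  have sq : ∀ p ∈ P0 S.toAS, p * p ∈ zpowers (S.y 1) := fun p hp => by
    rw [S.sq p hp.1]
    rcases hp.2.qf01 with e | e <;> rw [e]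
    exacts [S.y_zero ▸ one_mem _, mem_zpowers _]
  refine ⟨S.mem_of_re (S.yW 1) (y_P0 _ 1).2, fun e => one_ne_zero (S.y_ne 1 e), z2, fun x hx => (zc x hx).eq,
    fun x hx c => ?_, fun x hx y hy => c3 x ((c3 _ (.inl rfl) c2 x hx).symm z2)
      (fun p hp => (c3 p ((c2 p hp).symm z2) (c1 p hp) x hx).symm z2) y hy,
    fun x hx => (LX.mem_zpowers_of_sq z2).1 ?_, _, S.j_mem, _, S.mem_of_re (S.yW w) (y_P0 _ w).2, S.j_yw⟩
  · rcases S.cases hx with h | ⟨p, h, rfl⟩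
    · exact cent S.toAJ h.1 (by rw [← c _ S.j_mem, mul_inv_cancel_right]) fun p hp => by
        rw [c p (S.mem_of_re hp.1 hp.2), mul_inv_cancel_right]
    · have := c _ (S.mem_of_re (S.yW w) (y_P0 _ w).2)
      rw [mul_assoc, (S.Wy p h.1 w).eq, ← mul_assoc, ← mul_assoc] at this
      exact absurd (mul_right_cancel this) S.j_yw
  · rcases S.cases hx with h | ⟨p, h, rfl⟩
    · exact sq x h
    · have a : ∀ e ∈ zpowers (S.y 1), ∀ f ∈ zpowers (S.y 1), S.j * p * S.j⁻¹ = p * e → S.j * S.j = f →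
          S.j * p * (S.j * p) ∈ zpowers (S.y 1) := fun e he f hf h1 h2 => by
        obtain ⟨k, hk⟩ := mul_mem he hf
        rw [show S.j * p * (S.j * p) = S.j * p * S.j⁻¹ * (S.j * S.j) * p by group, h1, h2, mul_assoc p,
          ← show _ = e * f from hk, mul_assoc, ← ((S.Wy p h.1 1).zpow_right k).eq, ← mul_assoc]
        exact mul_mem (sq p h) ⟨k, rfl⟩
      rcases S.jP p h.1 h.2 with e | e <;> rcases S.j2 with f | f
      exacts [a 1 (one_mem _) _ (one_mem _) (by rw [e, mul_one]) f, a 1 (one_mem _) _ (mem_zpowers _)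
        (by rw [e, mul_one]) f, a _ (mem_zpowers _) _ (one_mem _) e f, a _ (mem_zpowers _) _ (mem_zpowers _) e f]
theorem card_Q : Nat.card S.Q = 512 := by
  have h : (P0 S.toAS).relIndex S.Q = 2 := relIndex_eq_two_iff_exists_notMem_and'.2
    ⟨_, inv_mem S.j_mem, fun e => S.j_notW (inv_mem_iff.1 e.1), fun b hb => ((S.mem_Q b).1 hb).symm⟩
  rw [← ((P0 S.toAS).subgroupOf S.Q).card_mul_index, Nat.card_congr (subgroupOfEquivOfLe (H := P0 S.toAS)
    fun p hp => S.mem_of_re hp.1 hp.2).toEquiv, card_P0, ← relIndex, h]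
theorem OQ : S.O ≤ centralizer (S.Q : Set G) := fun o ho q hq => by
  rcases S.cases hq with h | ⟨p, h, rfl⟩
  · exact S.OW ho q h.1
  · rw [mul_assoc, S.OW ho p h.1, ← mul_assoc, ← S.jO o ho, mul_assoc]
/-- an element of `D` lies in `N₁` or `N₁ j` (use `nY`) -/
theorem D_cases {g : G} (hz : Commute g (S.y 1))
    (h : g * S.y w * g⁻¹ = S.y w ∨ g * S.y w * g⁻¹ = S.y w * S.y 1) :
    g ∈ S.toAS.N1 ∨ g * S.j⁻¹ ∈ S.toAS.N1 := by
  have yv : S.y v = S.y w * S.y 1 := by rw [← S.y_add]; rfl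
  have a : ∀ g, Commute g (S.y 1) → g * S.y w * g⁻¹ = S.y w → g ∈ S.toAS.N1 := fun g h1 h2 => by
    have h2 : Commute g (S.y w) := mul_inv_eq_iff_eq_mul.1 h2
    have : g ∈ S.toAS.C2 := S.mem_C2.2 fun t => by
      cases t
      exacts [(show S.y o = 1 from S.y_zero) ▸ Commute.one_right g, h1, h2, yv ▸ h2.mul_right h1]
    exact ⟨S.nY (centralizer_le_normalizer _ this), this⟩
  refine h.imp (a g hz) fun e => a _ (hz.mul_left S.j_z.inv_left) ?_
  have e1 : S.j * (S.y w * S.y 1) * S.j⁻¹ = S.y w := by rw [← yv, S.jy]; rfl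
  calc _ = g * S.j⁻¹ * (S.j * (S.y w * S.y 1) * S.j⁻¹) * (g * S.j⁻¹)⁻¹ := by rw [e1]
    _ = g * S.y w * g⁻¹ * (g * S.y 1 * g⁻¹) := by group
    _ = _ := by rw [e, hz.mul_inv_cancel, mul_assoc, S.y_sq, mul_one]
/-- `C_D(P₀ / z) = Q O`: for `g ∈ N₁`, `π g` fixes the real vectors so `π g = 1`, `g = a o`, and `bf (cl a) p ∈ {0,1}` for
real `p` gives `cl a` real -/
theorem QC {g : G} (hg : g ∈ S.toAS.N1 ∨ g * S.j⁻¹ ∈ S.toAS.N1)
    (h : ∀ p ∈ S.W, Re (S.cl p) → g * p * g⁻¹ = p ∨ g * p * g⁻¹ = p * S.y 1) :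
    ∃ q ∈ S.Q, ∃ o ∈ S.O, g = q * o := by
  have a : ∀ g ∈ S.toAS.N1, (∀ p ∈ S.W, Re (S.cl p) → g * p * g⁻¹ = p ∨ g * p * g⁻¹ = p * S.y 1) →
      ∃ q ∈ S.Q, ∃ o ∈ S.O, g = q * o := fun g hg h => by
    obtain ⟨q, hq, o, ho, rfl⟩ := S.ker g hg (eq_one_of_perp fun x hx _ => by
      obtain ⟨p, hp, rfl⟩ := S.cl_surj x
      rw [← S.act g hg p hp]
      rcases h p hp hx with e | e <;> rw [e]
      rw [S.cl_mul _ hp _ (S.yW 1), S.cl_y, add_zero])
    refine ⟨q, S.mem_of_re hq (re_of_bf fun x hx => ?_), o, ho, rfl⟩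
    obtain ⟨p, hp, rfl⟩ := S.cl_surj x
    have := h p hp hx
    rw [show q * o * p * (q * o)⁻¹ = q * (o * p * o⁻¹) * q⁻¹ by group, ← S.OW ho p hp, mul_inv_cancel_right,
      S.conj_W hq hp] at this
    exact this.imp (fun e => S.y_ne _ (mul_eq_left.1 e)) fun e => S.y_inj (mul_left_cancel e)
  rcases hg with hg | hg
  · exact a g hg h
  have gz : g * S.y 1 * g⁻¹ = S.y 1 := by
    simpa using ((S.mem_C2.1 hg.2 1).mul_left S.j_z).mul_inv_cancel
  obtain ⟨q, hq, o, ho, e⟩ := a _ hg fun p hp hr => by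
    rw [show g * S.j⁻¹ * p * (g * S.j⁻¹)⁻¹ = g * (S.j⁻¹ * p * S.j⁻¹⁻¹) * g⁻¹ by group]
    rcases S.es.conj_cases (S.mem_of_re hp hr) (inv_mem S.j_mem) with e | e <;> rw [e]
    · exact h p hp hr
    · rw [← conj_mul, gz]
      exact ((h p hp hr).imp (fun e => by rw [e]) fun e => by rw [e, mul_assoc, S.y_sq, mul_one]).symm
  exact ⟨q * S.j, mul_mem hq S.j_mem, o, ho, by rw [mul_assoc, ← S.jO o ho, ← mul_assoc, ← e, inv_mul_cancel_right]⟩
/-- `D ≤ N(Q)`: `n ∈ N₁` normalises `P₀`; `n j n⁻¹` centralises `P₀ / z`, so is `q o` with `o = 1` (2-element) -/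
theorem N1_le : S.toAS.N1 ≤ normalizer (S.Q : Set G) := fun n hn => by
  have a : ∀ n ∈ S.toAS.N1, ∀ p ∈ P0 S.toAS, n * p * n⁻¹ ∈ P0 S.toAS := fun n hn p hp =>
    ⟨(mem_normalizer_iff.1 hn.1 p).1 hp.1, (S.act n hn p hp.1).symm ▸ hp.2.map _⟩
  have ny : ∀ t, Commute n (S.y t) := S.mem_C2.1 hn.2
  obtain ⟨q, hq, o, ho, e⟩ := S.QC (g := n * S.j * n⁻¹)
    (S.D_cases (((ny 1).mul_left S.j_z).mul_left (ny 1).inv_left) (.inr (by
      rw [show n * S.j * n⁻¹ * S.y w * (n * S.j * n⁻¹)⁻¹ = n * (S.j * (n⁻¹ * S.y w * n) * S.j⁻¹) * n⁻¹ by group,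
        (ny w).inv_mul_cancel, S.jy, (ny _).mul_inv_cancel, ← S.y_add]; rfl))) fun p hp hr => by
      have h := a _ (inv_mem hn) p ⟨hp, hr⟩
      rw [show n * S.j * n⁻¹ * p * (n * S.j * n⁻¹)⁻¹ = n * (S.j * (n⁻¹ * p * n⁻¹⁻¹) * S.j⁻¹) * n⁻¹ by group]
      refine (S.jP _ h.1 h.2).imp (fun e => by rw [e]; group) fun e => ?_
      rw [e, ← conj_mul, (ny 1).mul_inv_cancel]; group
  have o4 : o ^ 2 ^ 2 = 1 := by
    have := congrArg (· ^ 4) e
    rw [conj_pow, S.es.pow_four S.j_mem, Commute.mul_pow (S.OQ ho q hq), S.es.pow_four hq] at this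
    simpa using this.symm
  have o1 : o = 1 := orderOf_eq_one_iff.1 (Nat.eq_one_of_dvd_coprimes
    ((Nat.coprime_two_left.2 S.Oodd).pow_left 2) (orderOf_dvd_of_pow_eq_one o4) (orderOf_dvd_natCard _ ho))
  rw [o1, mul_one] at e
  refine mem_normalizer_fintype fun x hx => ?_
  rcases S.cases hx with h | ⟨p, h, rfl⟩
  · exact S.mem_of_re (a n hn x h).1 (a n hn x h).2
  · rw [← conj_mul, e]
    exact mul_mem hq (S.mem_of_re (a n hn p h).1 (a n hn p h).2)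

end AQ
end CL.Co1S
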