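import Cfsg.Agent.INV.CO1.S7a
import Cfsg.Agent.SPOR.LX

/-! `l` normalises `Q_V = C_Q(VV)`. -/

set_option autoImplicit false
open Subgroup

namespace CL.Co1S
open F4

variable {G : Type*} [Group G] [Finite G]

theorem inv_ind {p : G → Prop} {l : G} (h : ∀ x, p x → p (l * x * l⁻¹)) {x : G} (hx : p x) :
    p (l⁻¹ * x * l) := by
  have key : ∀ k : ℕ, p (l ^ k * x * (l ^ k)⁻¹) := fun k => by
    induction k with
    | zero => simpa using hx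
    | succ k ih => have := h _ ih; rw [pow_succ']; convert this using 1; group
  have e : l ^ (orderOf l - 1) = l⁻¹ := eq_inv_of_mul_eq_one_left (by
    rw [← pow_succ, Nat.sub_add_cancel (orderOf_pos l), pow_orderOf_eq_one])
  simpa [e] using key (orderOf l - 1)

namespace AQ
variable (S : AQ G)

/-- the centraliser of `VV` -/
def CV : Subgroup G := centralizer {x | S.toAS.VV x}
/-- `C_Q(VV)` -/
def QV (x : G) : Prop := x ∈ S.W ∧ Re (S.cl x) ∧ bf (S.cl x) sb = 0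

omit [Finite G] in
theorem mem_CV {g : G} : g ∈ S.CV ↔ ∀ x, S.toAS.VV x → Commute g x :=
  forall₂_congr fun _ _ => ⟨fun h => h.symm, fun h => h.symm⟩
omit [Finite G] in
theorem N1W {n g : G} (hn : n ∈ S.toAS.N1) (hg : g ∈ S.W) : n * g * n⁻¹ ∈ S.W :=
  (mem_normalizer_iff.1 hn.1 g).1 hg
omit [Finite G] in
theorem CV_le : S.CV ≤ S.toAS.N1 := fun g hg => by
  have h : g ∈ centralizer (Set.range S.y) := S.toAS.mem_C2.2 fun t =>
    S.mem_CV.1 hg _ ⟨S.yW t, 0, by rw [S.cl_y, zero_smul]⟩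
  exact ⟨S.nY (centralizer_le_normalizer _ h), h⟩
theorem CV_l {g : G} (h : g ∈ S.CV) : S.l * g * S.l⁻¹ ∈ S.CV := S.mem_CV.2 fun x hx => by
  have := (S.mem_CV.1 h _ (inv_ind S.lV hx)).map (MulAut.conj S.l).toMonoidHom
  simpa [mul_assoc] using this
theorem CV_l' {g : G} (h : g ∈ S.CV) : S.l⁻¹ * g * S.l ∈ S.CV := inv_ind (fun _ => S.CV_l) h
omit [Finite G] in
theorem W_CV {g : G} (hg : g ∈ S.W) : g ∈ S.CV ↔ bf (S.cl g) sb = 0 := by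
  refine ⟨fun h => ?_, fun h => S.mem_CV.2 fun x ⟨hx, u, e⟩ => mul_inv_eq_iff_eq_mul.1 ?_⟩
  · obtain ⟨x, hx, e⟩ := S.cl_surj sb
    have := S.toAS.conj_W hg hx
    rw [(S.mem_CV.1 h x ⟨hx, 1, by rw [e, one_smul]⟩).eq, mul_inv_cancel_right, left_eq_mul, e] at this
    exact S.y_ne _ this
  · rw [S.toAS.conj_W hg hx, e, bf_smul_right, h, mul_zero, S.toAS.y_zero, mul_one]
omit [Finite G] in
theorem π_sb {n : G} (h : n ∈ S.CV) : P (S.π n) sb = sb := by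
  obtain ⟨x, hx, e⟩ := S.cl_surj sb
  have := S.act n (S.CV_le h) x hx
  rw [(S.mem_CV.1 h x ⟨hx, 1, by rw [e, one_smul]⟩).eq, mul_inv_cancel_right, e] at this
  exact this.symm
omit [Finite G] in
theorem tau {σ : S8} (h : σ ∈ A8) (e : P σ sb = sb) (h3 : σ ^ 3 = 1) : ∃ τ ∈ S.CV, S.π τ = σ := by
  obtain ⟨n, hn, -, rfl⟩ := S.π_surj σ h
  have : n ^ 2 ∈ S.CV := S.mem_CV.2 fun x ⟨hx, u, hu⟩ => mul_inv_eq_iff_eq_mul.1 (by
    obtain ⟨t, ht⟩ := S.toAS.eq_of_cl (S.N1W hn hx) hx (by rw [S.act n hn x hx, hu, P_smul, e])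
    have c := (S.toAS.mem_C2.1 hn.2 t).eq
    calc _ = n * (n * x * n⁻¹) * n⁻¹ := by rw [pow_two]; group
      _ = n * x * n⁻¹ * (n * S.y t * n⁻¹) := by nth_rw 1 [ht]; group
      _ = x := by rw [ht, c, mul_inv_cancel_right, mul_assoc, S.toAS.y_sq, mul_one])
  refine ⟨(n ^ 2) ^ 2, pow_mem this 2, ?_⟩
  rw [← pow_mul, S.toAS.π_pow hn, show 2 * 2 = 3 + 1 from rfl, pow_succ, h3, one_mul]
omit [Finite G] in
theorem π_comm {a b : G} (ha : a ∈ S.toAS.N1) (hb : b ∈ S.toAS.N1) :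
    S.π (a * b * a⁻¹ * b⁻¹) = S.π a * S.π b * (S.π a)⁻¹ * (S.π b)⁻¹ := by
  rw [S.π_mul _ (mul_mem (mul_mem ha hb) (inv_mem ha)) _ (inv_mem hb), S.π_mul _ (mul_mem ha hb) _ (inv_mem ha),
    S.π_mul _ ha _ hb, S.toAS.π_inv ha, S.toAS.π_inv hb]
omit [Finite G] in
theorem v44 {x : G} (hx : x ∈ S.CV) (h1 : x ^ 16 ∈ S.O)
    (h : ∀ τ ∈ S.CV, (x * τ * x⁻¹ * τ⁻¹) ^ 16 ∈ S.O) : V44 (S.π x) := by
  have key : ∀ σ ∈ A8, P σ sb = sb → σ ^ 3 = 1 → (S.π x * σ * (S.π x)⁻¹ * σ⁻¹) ^ 16 = 1 :=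
    fun σ a b c => by
      obtain ⟨τ, hτ, rfl⟩ := S.tau a b c
      rw [← S.π_comm (S.CV_le hx) (S.CV_le hτ), ← S.toAS.π_pow (S.CV_le (mul_mem (mul_mem (mul_mem hx hτ)
        (inv_mem hx)) (inv_mem hτ))), S.toAS.π_O (h τ hτ)]
  exact v44_of (S.π_mem x) (S.π_sb hx) (by rw [← S.toAS.π_pow (S.CV_le hx), S.toAS.π_O h1])
    (key _ (c3_mem (by decide) (by decide)) c3_sb.1 (by decide))
    (key _ (c3_mem (by decide) (by decide)) c3_sb.2 (by decide))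
theorem U_l {g : G} (hg : g ∈ S.CV) (h : V44 (S.π g)) : V44 (S.π (S.l⁻¹ * g * S.l)) := by
  have key : ∀ g ∈ S.CV, V44 (S.π g) → (S.l⁻¹ * g * S.l) ^ 16 ∈ S.O := fun g hg h => by
    obtain ⟨a, ha, o, ho, e⟩ := S.ker (g ^ 2) (pow_mem (S.CV_le hg) 2)
      (by rw [S.toAS.π_pow (S.CV_le hg), pow_two, h.sq])
    have c : Commute a o := S.OW ho a ha
    have e1 : g ^ 16 = o ^ 8 := by
      rw [show 16 = 2 * 8 from rfl, pow_mul, e, c.mul_pow, show 8 = 4 * 2 from rfl, pow_mul,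
        S.toAS.pow4 ha, one_pow, one_mul]
    have e2 : (S.l⁻¹ * g * S.l) ^ 16 = S.l⁻¹ * g ^ 16 * S.l := by
      simpa using conj_pow (a := S.l⁻¹) (b := g) (i := 16)
    rw [e2, e1, mul_assoc, S.lO _ (pow_mem ho 8), inv_mul_cancel_left]
    exact pow_mem ho 8
  refine S.v44 (S.CV_l' hg) (key g hg h) fun τ hτ => ?_
  have h1 := S.CV_l hτ
  have := key _ (mul_mem (mul_mem (mul_mem hg h1) (inv_mem hg)) (inv_mem h1)) (by
    rw [S.π_comm (S.CV_le hg) (S.CV_le h1), inv_eq_of_mul_eq_one_right h.sq, mul_assoc, mul_assoc,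
      ← mul_assoc (S.π (S.l * τ * S.l⁻¹))]
    exact h.mul (h.conj (S.π_sb h1)))
  convert this using 2
  group

theorem QV.Q {S : AQ G} {x : G} (h : S.QV x) : x ∈ S.Q := S.mem_of_re h.1 h.2.1
omit [Finite G] in
theorem QV.CV {S : AQ G} {x : G} (h : S.QV x) : x ∈ S.CV := (S.W_CV h.1).2 h.2.2
theorem Q_N {n q : G} (hn : n ∈ S.toAS.N1) (hq : q ∈ S.Q) : n * q * n⁻¹ ∈ S.Q :=
  (mem_normalizer_iff.1 (S.N1_le hn) q).1 hq
theorem vz_of {g : G} (h : S.toAS.VV g) (hq : g ∈ S.Q) : S.toAS.Vz g := by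
  obtain ⟨hg, u, e⟩ := h
  have := S.re_of_mem hg hq
  rw [e] at this
  refine ⟨hg, ?_⟩
  rcases this.smul_sb with rfl | rfl <;> simp [e]
omit [Finite G] in
theorem cl_comm {a n : G} (ha : a ∈ S.W) (hn : n ∈ S.toAS.N1) :
    a * n * a⁻¹ * n⁻¹ ∈ S.W ∧ S.cl (a * n * a⁻¹ * n⁻¹) = P (S.π n) (S.cl a) + S.cl a := by
  have m := S.N1W hn (inv_mem ha)
  rw [show a * n * a⁻¹ * n⁻¹ = a * (n * a⁻¹ * n⁻¹) by group, S.cl_mul _ ha _ m, S.act n hn _ (inv_mem ha),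
    S.toAS.cl_inv ha, add_comm]
  exact ⟨mul_mem ha m, rfl⟩

theorem QV_l {x : G} (hx : S.QV x) : S.QV (S.l * x * S.l⁻¹) := by
  have hC := S.CV_l hx.CV
  have hN := S.CV_le hC
  have p4 : ∀ q ∈ S.Q, (S.l * q * S.l⁻¹) ^ 4 = 1 := fun q hq => by rw [conj_pow, S.es.pow_four hq]; simp
  have p16 : ∀ q ∈ S.Q, (S.l * q * S.l⁻¹) ^ 16 ∈ S.O := fun q hq => by
    rw [show 16 = 4 * 4 from rfl, pow_mul, p4 q hq, one_pow]; exact one_mem _
  have cm : ∀ g, S.l * x * S.l⁻¹ * g * (S.l * x * S.l⁻¹)⁻¹ * g⁻¹ =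
      S.l * (x * (S.l⁻¹ * g * S.l) * x⁻¹ * (S.l⁻¹ * g * S.l)⁻¹) * S.l⁻¹ := fun g => by group
  have cQ : ∀ g ∈ S.CV, x * g * x⁻¹ * g⁻¹ ∈ S.Q := fun g hg => by
    simpa only [mul_assoc] using mul_mem hx.Q (S.Q_N (S.CV_le hg) (inv_mem hx.Q))
  have hv := S.v44 hC (p16 x hx.Q) fun τ hτ => by rw [cm]; exact p16 _ (cQ _ (S.CV_l' hτ))
  have hz : ∀ g ∈ S.CV, V44 (S.π g) →
      S.toAS.Vz (S.l * x * S.l⁻¹ * g * (S.l * x * S.l⁻¹)⁻¹ * g⁻¹) := fun g hg h => by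
    rw [cm]
    obtain ⟨a, b⟩ := S.cl_comm hx.1 (S.CV_le (S.CV_l' hg))
    exact S.lVz _ (S.vz_of ⟨a, b ▸ (S.U_l hg h).move hx.2.2⟩ (cQ _ (S.CV_l' hg)))
  have hm : ∀ τ ∈ S.CV, S.l⁻¹ * (τ * (S.l * x * S.l⁻¹) * τ⁻¹) * S.l ∈ S.Q := fun τ hτ => by
    convert S.Q_N (S.CV_le (S.CV_l' hτ)) hx.Q using 1; group
  have q4 := p4 x hx.Q
  generalize S.l * x * S.l⁻¹ = X at *
  have h1 : S.π X = 1 := hv.eq_one fun p hp => by
    obtain ⟨g, hg, rfl⟩ := S.cl_surj p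
    have := (hz g ((S.W_CV hg).2 hp) ⟨0, 0, by rw [S.toAS.π_W hg]; rfl⟩).2
    rwa [S.cl_mul _ (S.N1W hN hg) _ (inv_mem hg), S.act X hN g hg, S.toAS.cl_inv hg] at this
  have hW : X ∈ S.W := S.toAS.mem_W hN h1 (k := 2) q4
  have hp := (S.W_CV hW).1 hC
  obtain ⟨c, hc⟩ := re_of_v44 hp fun σ hσ => by
    obtain ⟨n, hn, h, rfl⟩ := S.vv σ hσ
    have := (hz n (S.mem_CV.2 h) (by
      simp only [List.mem_cons, List.not_mem_nil, or_false] at hσ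
      rcases hσ with e | e | e | e <;> rw [e]
      exacts [⟨1, 0, (mul_one _).symm⟩, ⟨w, 0, (mul_one _).symm⟩, ⟨0, 1, (one_mul _).symm⟩,
        ⟨0, w, (one_mul _).symm⟩])).2
    rwa [(S.cl_comm hW hn).2] at this
  obtain ⟨τ, hτ, e⟩ := S.tau (σ := c3 0 1 2 * c3 5 6 7)
    (mul_mem (c3_mem (by decide) (by decide)) (c3_mem (by decide) (by decide)))
    (by rw [P_mul, c3_sb.2, c3_sb.1]) (by decide)
  have t1 := S.CV_le hτ
  have t2 := pow_mem t1 2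
  have m1 := S.N1W t1 hW
  have m2 := S.N1W t2 hW
  have s1 := S.π_sb hτ
  have s2 := S.π_sb (pow_mem hτ 2)
  have hs := rho_sum hc (by rw [bf_add_left, hp, bf_smul_left, bf_self, mul_zero, add_zero])
  rw [← e, ← S.toAS.π_pow t1, P_add, P_add, P_smul, P_smul, s1, s2, ← S.act τ t1 X hW,
    ← S.act _ t2 X hW] at hs
  have e3 : S.cl (X * (τ * X * τ⁻¹) * (τ ^ 2 * X * (τ ^ 2)⁻¹)) + c • sb =
      S.cl X + c • sb + (S.cl (τ * X * τ⁻¹) + c • sb) + (S.cl (τ ^ 2 * X * (τ ^ 2)⁻¹) + c • sb) := by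
    rw [S.cl_mul _ (mul_mem hW m1) _ m2, S.cl_mul _ hW _ m1]
    linear_combination -V_add_self (c • sb)
  rw [← e3] at hs
  have mW := mul_mem (mul_mem hW m1) m2
  have mQ : S.l⁻¹ * (X * (τ * X * τ⁻¹) * (τ ^ 2 * X * (τ ^ 2)⁻¹)) * S.l ∈ S.Q := by
    convert mul_mem (mul_mem (hm 1 (one_mem _)) (hm τ hτ)) (hm _ (pow_mem hτ 2)) using 1; group
  generalize X * (τ * X * τ⁻¹) * (τ ^ 2 * X * (τ ^ 2)⁻¹) = m at *
  have hV : S.toAS.VV m := ⟨mW, hs.elim (fun h => ⟨c, by linear_combination h - V_add_self (c • sb)⟩)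
    fun h => ⟨c + 1, by rw [add_smul, one_smul]; linear_combination h - V_add_self (c • sb)⟩⟩
  have := (S.lVz _ (S.vz_of (inv_ind S.lV hV) mQ)).2
  rw [show S.l * (S.l⁻¹ * m * S.l) * S.l⁻¹ = m by group] at this
  have hr : Re (c • sb) := by
    have r0 : Re (S.cl m) := by rcases this with h | h <;> rw [h]; exacts [Re.zero, re_sb]
    have r1 : Re (S.cl m + c • sb) := by rcases hs with h | h <;> rw [h]; exacts [Re.zero, re_sb]
    simpa [← add_assoc, V_add_self] using r0.add r1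
  refine ⟨hW, ?_, hp⟩
  simpa [add_assoc, V_add_self] using hc.add hr

end AQ
end CL.Co1S
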