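import Cfsg.Agent.INV.CO1.Defs
import Cfsg.Agent.INV.SecRk16
import Cfsg.Agent.INV.SylowAux
import Cfsg.Agent.TECH.SylIn

/-! An extraspecial group `Q` of order `2 ^ 9` in a group with central involution `z`: bad pairs. -/

set_option autoImplicit false
set_option linter.unusedSectionVars false
open Subgroup CL.MSS
open scoped commutatorElement

namespace CL.Co1S.Sq

theorem pick {G : Type*} [Group G] [Finite G] (U : Subgroup G) (L : List G) (h : L.length < Nat.card U) :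
    ∃ x ∈ U, x ∉ L := by
  classical
  by_contra! k
  have := Set.ncard_le_ncard (show (U : Set G) ⊆ L.toFinset from fun x hx => by simpa using k x hx)
  rw [Set.ncard_coe_finset] at this
  exact absurd (this.trans L.toFinset_card_le) (not_le.2 h)

theorem sing {G : Type*} [Group G] [Finite G] {Q U : Subgroup G} {z : G} (h : LX.ES Q z) (hU : U ≤ Q)
    (hc : 16 ≤ Nat.card U) : ∃ s ∈ U, s * s = 1 ∧ s ≠ 1 ∧ s ≠ z := by
  by_contra! k
  have sq : ∀ x ∈ U, x ≠ 1 → x ≠ z → x * x = z := fun x hx h1 h2 =>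
    (h.sq x (hU hx)).resolve_left fun e => h2 (k x hx e h1)
  have cm : ∀ x ∈ U, ∀ y ∈ U, x * x = z → y * y = z → x * y = y * x → x * y * (x * y) ≠ z := fun x _ y _ e e' c l => by
    rw [mul_assoc, ← mul_assoc y, ← c, mul_assoc, e', ← mul_assoc, e, h.z_sq] at l
    exact h.z_ne l.symm
  have ne : ∀ {x y : G}, y ≠ x⁻¹ → y ≠ x⁻¹ * z → x * y ≠ 1 ∧ x * y ≠ z := fun h1 h2 =>
    ⟨fun e => h1 (eq_inv_of_mul_eq_one_right e), fun e => h2 (eq_inv_mul_of_mul_eq e)⟩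
  obtain ⟨a, ha, a1⟩ := pick U [1, z] (by simp; omega)
  obtain ⟨b, hb, b1⟩ := pick U [1, z, a⁻¹, a⁻¹ * z] (by simp; omega)
  obtain ⟨c, hc, c1⟩ := pick U [1, z, a⁻¹, a⁻¹ * z, b⁻¹, b⁻¹ * z, (a * b)⁻¹, (a * b)⁻¹ * z] (by simp; omega)
  simp only [List.mem_cons, List.not_mem_nil, or_false, not_or] at a1 b1 c1
  obtain ⟨c1, c2, c3, c4, c5, c6, c7, c8⟩ := c1
  have a2 := sq a ha a1.1 a1.2
  have b2 := sq b hb b1.1 b1.2.1
  have c2' := sq c hc c1 c2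
  have ab := ne b1.2.2.1 b1.2.2.2
  have n1 : c * a ≠ a * c := fun e => cm a ha c hc a2 c2' e.symm (sq _ (mul_mem ha hc) (ne c3 c4).1 (ne c3 c4).2)
  have n2 : c * b ≠ b * c := fun e => cm b hb c hc b2 c2' e.symm (sq _ (mul_mem hb hc) (ne c5 c6).1 (ne c5 c6).2)
  exact cm _ (mul_mem ha hb) c hc (sq _ (mul_mem ha hb) ab.1 ab.2) c2'
    (h.mul_comm_of_not_comm (hU hc) (hU ha) (hU hb) n1 n2).symm
    (sq _ (mul_mem (mul_mem ha hb) hc) (ne c7 c8).1 (ne c7 c8).2)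

variable {H X : Type*} [Group H] [Group X] [Finite H] [Finite X] {π : H →* X} {z : H} {Q Q' : Subgroup H}

structure Hf (π : H →* X) (z : H) (Q : Subgroup H) : Prop where
  cz : ∀ x, x * z = z * x
  ker : ∀ x, π x = 1 ↔ x = 1 ∨ x = z
  es : LX.ES Q z
  card : Nat.card Q = 512
  hull : ∀ s ∈ Q, s * s = 1 → π s ≠ 1 → ∀ g, g⁻¹ * s * g ∈ Q → g ∈ normalizer (Q : Set H)
  K : ∀ b ∈ normalizer (Q : Set H), b * b = 1 → (∀ a ∈ Q, Commute (π a) (π b)) → b ∈ Q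

/-- the centraliser modulo `z` -/
def Cm (π : H →* X) (Q : Subgroup H) (b : H) : Subgroup H := Q ⊓ (centralizer {π b}).comap π

theorem mem_Cm {a b : H} : a ∈ Cm π Q b ↔ a ∈ Q ∧ Commute (π a) (π b) :=
  and_congr_right fun _ => mem_centralizer_singleton_iff

theorem cm_mem {a b : H} (ha : a ∈ Q) (hb : b ∈ normalizer (Q : Set H)) : ⁅a, b⁆ ∈ Q := by
  rw [show ⁅a, b⁆ = a * (b * a⁻¹ * b⁻¹) by rw [commutatorElement_def]; group]
  exact mul_mem ha ((mem_normalizer_iff.1 hb _).1 (inv_mem ha))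

theorem cm_mem' {a b : H} (ha : a ∈ normalizer (Q : Set H)) (hb : b ∈ Q) : ⁅a, b⁆ ∈ Q := by
  rw [← commutatorElement_inv]; exact inv_mem (cm_mem hb ha)

namespace Hf
variable (h : Hf π z Q)
include h

theorem πz : π z = 1 := (h.ker z).2 (.inr rfl)

theorem eqz {x y : H} (e : π x = π y) : x = y ∨ x = y * z := by
  rcases (h.ker (y⁻¹ * x)).1 (by rw [map_mul, map_inv, e, inv_mul_cancel]) with k | k
  exacts [.inl (inv_mul_eq_one.1 k).symm, .inr (inv_mul_eq_iff_eq_mul.1 k)]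

theorem memQ {x y : H} (e : π x = π y) (hy : y ∈ Q) : x ∈ Q := by
  rcases h.eqz e with rfl | rfl
  exacts [hy, mul_mem hy h.es.z_mem]

theorem comm_of {w x y : H} (e : π x = π y) (c : Commute w y) : Commute w x := by
  rcases h.eqz e with rfl | rfl
  exacts [c, c.mul_right (h.cz w)]

theorem cen {c : H} (e : π c = 1) (x : H) : Commute x c := h.comm_of (e.trans (map_one π).symm) (Commute.one_right x)

theorem qc {a b : H} (ha : a ∈ Q) (hb : b ∈ Q) : Commute (π a) (π b) := by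
  rcases h.es.comm a ha b hb with e | e
  · exact (show Commute a b from e).map π
  · show _ = _
    rw [← map_mul, e, map_mul, h.πz, mul_one, map_mul]

theorem q2 {a : H} (ha : a ∈ Q) : π a * π a = 1 := by rw [← map_mul]; exact (h.ker _).2 (h.es.sq a ha)

theorem pc {a b : H} (c : Commute (π a) (π b)) : π ⁅a, b⁆ = 1 := by
  rw [map_commutatorElement]; exact commutatorElement_eq_one_iff_commute.2 c

theorem N {s a : H} (hs : s ∈ Q) (s2 : s * s = 1) (s1 : π s ≠ 1) (c : Commute (π a) (π s)) :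
    a ∈ normalizer (Q : Set H) :=
  h.hull s hs s2 s1 a (h.memQ (by rw [map_mul, map_mul, map_inv, mul_assoc, ← c.eq, inv_mul_cancel_left]) hs)

theorem sing {U : Subgroup H} (hU : U ≤ Q) (hc : 16 ≤ Nat.card U) : ∃ s ∈ U, s * s = 1 ∧ π s ≠ 1 :=
  let ⟨s, hs, s2, s1, sz⟩ := Sq.sing h.es hU hc; ⟨s, hs, s2, fun e => ((h.ker s).1 e).elim s1 sz⟩

theorem cj (g : H) : Hf π z (g •ᶜ Q) := by
  refine ⟨h.cz, h.ker, ?_, (card_cj g Q).trans h.card, fun s hs s2 s1 k hk => ?_, fun b hb b2 c => ?_⟩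
  · have := h.es.conj g
    rwa [h.cz, mul_inv_cancel_right] at this
  · rw [← cj_normalizer, mem_cj]
    refine h.hull _ (mem_cj.1 hs) ?_ ?_ _ ?_
    · calc _ = g⁻¹ * (s * s) * g := by group
        _ = 1 := by rw [s2]; group
    · simpa [mul_assoc, inv_mul_eq_one] using s1
    · have := mem_cj.1 hk
      rwa [show g⁻¹ * (k⁻¹ * s * k) * g = (g⁻¹ * k * g)⁻¹ * (g⁻¹ * s * g) * (g⁻¹ * k * g) by group] at this
  · rw [← cj_normalizer, mem_cj] at hb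
    refine mem_cj.2 (h.K _ hb ?_ fun a ha => ?_)
    · calc _ = g⁻¹ * (b * b) * g := by group
        _ = 1 := by rw [b2]; group
    · have := (c _ (conj_mem_cj ha)).conj (π g)⁻¹
      simpa [mul_assoc] using this

variable {b : H} (hb : b ∈ normalizer (Q : Set H))
include hb

/-- the commutators with `b` -/
def Dm : Subgroup H where
  carrier := {c | ∃ a ∈ Q, π c = π ⁅a, b⁆}
  one_mem' := ⟨1, one_mem _, by simp⟩
  mul_mem' := by
    rintro c c' ⟨a, ha, e⟩ ⟨a', ha', e'⟩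
    refine ⟨a' * a, mul_mem ha' ha, ?_⟩
    rw [show ⁅a' * a, b⁆ = a' * ⁅a, b⁆ * a'⁻¹ * ⁅a', b⁆ by simp only [commutatorElement_def]; group, map_mul, e, e',
      map_mul, map_mul, map_mul, (h.qc ha' (cm_mem ha hb)).eq, map_inv, mul_inv_cancel_right]
  inv_mem' := by
    rintro c ⟨a, ha, e⟩
    exact ⟨a, ha, by rw [map_inv, e, inv_eq_of_mul_eq_one_right (h.q2 (cm_mem ha hb))]⟩

theorem D_le : h.Dm hb ≤ Q := fun _ ⟨_, ha, e⟩ => h.memQ e (cm_mem ha hb)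

theorem zD : z ∈ h.Dm hb := ⟨1, one_mem _, by simp [h.πz]⟩

theorem key {y a : H} (hy : y ∈ Q) (ha : a ∈ Q) : Commute y ⁅a, b⁆ ↔ Commute (y⁻¹ * (b⁻¹ * y * b)) a := by
  have hy' : b⁻¹ * y * b ∈ Q := by simpa using (mem_normalizer_iff.1 (inv_mem hb) _).1 hy
  have c1 := h.cen (h.pc (h.qc hy ha))
  have c2 := h.cen (h.pc (h.qc hy' (inv_mem ha)))
  have e : y * ⁅a, b⁆ * y⁻¹ = ⁅y, a⁆ * ⁅b⁻¹ * y * b, a⁻¹⁆ * ⁅a, b⁆ := by
    calc _ = ⁅y, a⁆ * (a * b * ⁅b⁻¹ * y * b, a⁻¹⁆) * a⁻¹ * b⁻¹ := by simp only [commutatorElement_def]; group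
      _ = _ := by rw [(c2 _).eq]; simp only [commutatorElement_def]; group
  have e' : y⁻¹ * (b⁻¹ * y * b) * a⁻¹ * (y⁻¹ * (b⁻¹ * y * b))⁻¹ = ⁅y, a⁆ * ⁅b⁻¹ * y * b, a⁻¹⁆ * a⁻¹ := by
    calc _ = y⁻¹ * ⁅b⁻¹ * y * b, a⁻¹⁆ * (a⁻¹ * y) := by simp only [commutatorElement_def]; group
      _ = ⁅b⁻¹ * y * b, a⁻¹⁆ * (a⁻¹ * y⁻¹ * ⁅y, a⁆) * y := by
        rw [(c2 _).eq]; simp only [commutatorElement_def]; group
      _ = _ := by rw [(c1 _).eq, ← mul_assoc, (c1 _).eq]; group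
  rw [← Commute.inv_right_iff (b := a)]
  exact ⟨fun c => mul_inv_eq_iff_eq_mul.1 (by
    rw [c.mul_inv_cancel, eq_comm, mul_eq_right] at e; rw [e', e, one_mul]), fun c =>
    mul_inv_eq_iff_eq_mul.1 (by rw [c.mul_inv_cancel, eq_comm, mul_eq_right] at e'; rw [e, e', one_mul])⟩

theorem perp {y : H} (hy : y ∈ Q) : y ∈ centralizer (h.Dm hb : Set H) ↔ y ∈ Cm π Q b := by
  have hy' : b⁻¹ * y * b ∈ Q := by simpa using (mem_normalizer_iff.1 (inv_mem hb) _).1 hy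
  have e : π (y⁻¹ * (b⁻¹ * y * b)) = 1 ↔ Commute (π y) (π b) := by
    rw [map_mul, map_mul, map_mul, map_inv, map_inv, inv_mul_eq_one, mul_assoc, eq_inv_mul_iff_mul_eq, eq_comm]; rfl
  rw [mem_Cm, ← e]
  exact ⟨fun k => ⟨hy, (h.ker _).2 (h.es.cent _ (mul_mem (inv_mem hy) hy') fun a ha =>
    (h.key hb hy ha).1 (k _ ⟨a, ha, rfl⟩).symm)⟩,
    fun k c ⟨a, ha, l⟩ => (h.comm_of l ((h.key hb hy ha).2 (h.cen k.2 a).symm)).symm⟩

theorem inf_eq : Q ⊓ centralizer (h.Dm hb : Set H) = Cm π Q b :=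
  Subgroup.ext fun _ => ⟨fun k => (h.perp hb k.1).1 k.2, fun k => ⟨k.1, (h.perp hb k.1).2 k⟩⟩

theorem mem_D {x : H} (hx : x ∈ Q) (c : x ∈ centralizer (Cm π Q b : Set H)) : x ∈ h.Dm hb := by_contra fun n => by
  obtain ⟨y, hy, k, l⟩ := h.es.exists_centralizes_not_comm (h.D_le hb) (h.zD hb) hx n
  exact l (c y ((h.perp hb hy).1 k)).symm

variable (b2 : π b * π b = 1)
include b2

theorem D_le_C : h.Dm hb ≤ Cm π Q b := fun c ⟨a, ha, e⟩ => mem_Cm.2 ⟨h.D_le hb ⟨a, ha, e⟩, by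
  have k := inv_eq_of_mul_eq_one_right (h.q2 (cm_mem ha hb))
  rw [e]
  refine (mul_inv_eq_iff_eq_mul.1 (Eq.trans ?_ k)).symm
  rw [map_commutatorElement, commutatorElement_inv, commutatorElement_def, commutatorElement_def,
    inv_eq_of_mul_eq_one_right b2, mul_assoc _ _ (π b), mul_assoc _ (π b) (π b), b2]; group⟩

theorem card_C : 32 ≤ Nat.card (Cm π Q b) := by
  have k := h.es.card_centralizer (h.D_le hb) (h.zD hb)
  have l := card_le_of_le (h.D_le_C hb b2)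
  rw [h.inf_eq hb, h.card] at k
  nlinarith

end Hf

/-- the normaliser of the other group -/
abbrev U (Q Q' : Subgroup H) : Subgroup H := Q ⊓ normalizer (Q' : Set H)
/-- the elements of `U` centralising `U'` modulo `z` -/
def U0 (π : H →* X) (Q Q' : Subgroup H) : Subgroup H := U Q Q' ⊓ (centralizer (π '' U Q' Q)).comap π
/-- the orthogonal complement of `U` -/
abbrev L (Q Q' : Subgroup H) : Subgroup H := Q ⊓ centralizer (U Q Q' : Set H)

theorem mem_U0 {a : H} : a ∈ U0 π Q Q' ↔ a ∈ U Q Q' ∧ ∀ b ∈ U Q' Q, Commute (π a) (π b) :=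
  and_congr_right fun _ => ⟨fun k b hb => (k _ ⟨b, hb, rfl⟩).symm, fun k _ ⟨b, hb, e⟩ => e ▸ (k b hb).symm⟩

structure Bp (π : H →* X) (z : H) (Q Q' : Subgroup H) : Prop where
  h : Hf π z Q
  h' : Hf π z Q'
  I : ∀ s ∈ Q, s ∈ Q' → s * s = 1 → π s = 1
  c : 32 ≤ Nat.card (U Q Q')
  c' : 32 ≤ Nat.card (U Q' Q)

theorem C_le (h' : Hf π z Q') {s : H} (hs : s ∈ Q') (s2 : s * s = 1) (s1 : π s ≠ 1) : Cm π Q s ≤ U Q Q' :=
  fun _ ha => ⟨ha.1, h'.N hs s2 s1 (mem_Cm.1 ha).2⟩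

theorem card_U (h : Hf π z Q) (h' : Hf π z Q') {s : H} (hs : s ∈ U Q' Q) (s2 : s * s = 1) (s1 : π s ≠ 1) :
    32 ≤ Nat.card (U Q Q') :=
  (h.card_C hs.2 (h'.q2 hs.1)).trans (card_le_of_le (C_le h' hs.1 s2 s1))

namespace Bp
variable (B : Bp π z Q Q')
include B

theorem symm : Bp π z Q' Q := ⟨B.h', B.h, fun s a b => B.I s b a, B.c', B.c⟩

theorem zU : z ∈ U Q Q' := ⟨B.h.es.z_mem, le_normalizer B.h'.es.z_mem⟩

theorem zU0 : z ∈ U0 π Q Q' := mem_U0.2 ⟨B.zU, fun _ _ => B.h.πz ▸ Commute.one_left _⟩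

theorem bad {a b : H} (ha : a ∈ U Q Q') (hb : b ∈ U Q' Q) (n : ¬ Commute (π a) (π b)) :
    ⁅a, b⁆ * ⁅a, b⁆ = z ∧ ¬ Commute a ⁅a, b⁆ ∧ ∀ i ∈ Q, i ∈ Q' → Commute i ⁅a, b⁆ := by
  have c2 : ⁅a, b⁆ * ⁅a, b⁆ = z := (B.h.es.sq _ (cm_mem ha.1 hb.2)).resolve_left fun e => n (by
    have := B.I _ (cm_mem ha.1 hb.2) (cm_mem' ha.2 hb.1) e
    rwa [map_commutatorElement, commutatorElement_eq_one_iff_commute] at this)
  refine ⟨c2, fun c => B.h.es.z_ne ?_, fun i hi hi' =>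
    ((B.h.perp hb.2 hi).2 (mem_Cm.2 ⟨hi, B.h'.qc hi' hb.1⟩) _ ⟨a, ha.1, rfl⟩).symm⟩
  have e : a⁻¹ * ⁅a, b⁆ = b * a⁻¹ * b⁻¹ := by rw [commutatorElement_def]; group
  have k := c.inv_left.mul_pow 2
  rw [e, conj_pow, sq ⁅a, b⁆, c2, sq, (B.h.cen (by rw [map_mul]; exact B.h.q2 (inv_mem ha.1)) b).mul_inv_cancel,
    eq_comm, mul_eq_left] at k
  exact k

theorem same {a b a' b' x : H} (ha : a ∈ U Q Q') (hb : b ∈ U Q' Q) (n : ¬ Commute (π a) (π b))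
    (ha' : a' ∈ U Q Q') (hb' : b' ∈ U Q' Q) (n' : ¬ Commute (π a') (π b')) (c : Commute x ⁅a', b'⁆) :
    Commute x ⁅a, b⁆ := by
  have k := ((B.bad ha' hb' n').2.2 _ (cm_mem ha.1 hb.2) (cm_mem' ha.2 hb.1)).mul_pow 2
  simp only [sq] at k
  rw [(B.bad ha hb n).1, (B.bad ha' hb' n').1, B.h.es.z_sq] at k
  have l := B.I _ (mul_mem (cm_mem ha.1 hb.2) (cm_mem ha'.1 hb'.2))
    (mul_mem (cm_mem' ha.2 hb.1) (cm_mem' ha'.2 hb'.1)) k
  rw [map_mul, mul_eq_one_iff_eq_inv, ← map_inv] at l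
  exact B.h.comm_of l c.inv_right

theorem two : Nat.card (U Q Q') ≤ 2 * Nat.card (U0 π Q Q') := by
  have := SR16.card_le_two_mul (E := U Q Q') (N := U0 π Q Q') fun x hx y hy nx ny => by
    refine mem_U0.2 ⟨mul_mem hx hy, fun b hb => by_contra fun n => ?_⟩
    rw [mem_U0, not_and] at nx ny
    push Not at nx ny
    obtain ⟨bx, h1, h2⟩ := nx hx
    obtain ⟨b', h3, h4⟩ := ny hy
    exact (B.bad (mul_mem hx hy) hb n).2.1 (B.h.es.mul_comm_of_not_comm (cm_mem (mul_mem hx hy).1 hb.2) hx.1 hy.1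
      (fun e => (B.bad hx h1 h2).2.1 (B.same hx h1 h2 (mul_mem hx hy) hb n e.symm))
      fun e => (B.bad hy h3 h4).2.1 (B.same hy h3 h4 (mul_mem hx hy) hb n e.symm)).symm
  rwa [inf_of_le_right (show U0 π Q Q' ≤ U Q Q' from inf_le_left)] at this

theorem ex0 : ∃ s ∈ U0 π Q Q', s * s = 1 ∧ π s ≠ 1 :=
  B.h.sing (fun _ ha => ha.1.1) (by have := B.two; have := B.c; omega)

theorem C_eq {s : H} (hs : s ∈ U0 π Q' Q) (s2 : s * s = 1) (s1 : π s ≠ 1) : Cm π Q s = U Q Q' :=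
  le_antisymm (C_le B.h' hs.1.1 s2 s1) fun a ha => mem_Cm.2 ⟨ha.1, ((mem_U0.1 hs).2 a ha).symm⟩

theorem L_eq {s : H} (hs : s ∈ U0 π Q' Q) (s2 : s * s = 1) (s1 : π s ≠ 1) : L Q Q' = B.h.Dm hs.1.2 := by
  refine le_antisymm (fun x hx => B.h.mem_D _ hx.1 (B.C_eq hs s2 s1 ▸ hx.2)) fun c hc =>
    ⟨B.h.D_le _ hc, fun y hy => ?_⟩
  exact ((B.h.perp hs.1.2 hy.1).2 ((B.C_eq hs s2 s1).ge hy) c hc).symm

theorem L_le : L Q Q' ≤ U0 π Q Q' := fun x hx => by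
  obtain ⟨s, hs, s2, s1⟩ := B.symm.ex0
  have k : x ∈ U Q Q' := (B.C_eq hs s2 s1).le (B.h.D_le_C hs.1.2 (B.h'.q2 hs.1.1) ((B.L_eq hs s2 s1).le hx))
  exact mem_U0.2 ⟨k, fun b hb => by_contra fun n => (B.bad k hb n).2.1
    (hx.2 _ ⟨cm_mem k.1 hb.2, le_normalizer (cm_mem' k.2 hb.1)⟩).symm⟩

theorem c0 : 32 ≤ Nat.card (U0 π Q Q') := by
  have k := B.h.es.card_centralizer (A := U Q Q') inf_le_left B.zU
  have l := card_le_of_le B.L_le
  have d : Nat.card (U Q Q') ∣ 2 ^ 9 := (card_dvd_of_le inf_le_left).trans B.h.card.dvd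
  obtain ⟨i, hi, e⟩ := (Nat.dvd_prime_pow Nat.prime_two).1 d
  have := B.two
  have := B.c
  rw [B.h.card] at k
  change Nat.card (L Q Q') * _ = _ at k
  rw [e] at *
  interval_cases i <;> omega

theorem L2 {x : H} (hx : x ∈ L Q Q') : x * x = 1 := by
  have xU := (B.L_le hx).1
  have k := SR16.card_le_two_mul (E := U0 π Q' Q) (N := centralizer {x}) fun a ha b hb na nb => by
    have l : ∀ {a}, a ∈ U0 π Q' Q → a ∉ centralizer {x} → a * x * a⁻¹ = x * z := fun {a} ha na =>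
      (B.h.eqz (by rw [map_mul, map_mul, map_inv, ((mem_U0.1 ha).2 x xU).mul_inv_cancel])).resolve_left
        fun e => na (mem_centralizer_singleton_iff.2 (mul_inv_eq_iff_eq_mul.1 e))
    refine mem_centralizer_singleton_iff.2 (mul_inv_eq_iff_eq_mul.1 ?_)
    calc _ = a * (b * x * b⁻¹) * a⁻¹ := by group
      _ = a * x * a⁻¹ * z := by rw [l hb nb, mul_assoc _ a⁻¹ z, B.h.cz a⁻¹]; group
      _ = _ := by rw [l ha na, mul_assoc, B.h.es.z_sq, mul_one]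
  obtain ⟨s, hs, s2, s1⟩ := B.h'.sing (U := U0 π Q' Q ⊓ centralizer {x}) (fun _ ha => ha.1.1.1)
    (by have := B.symm.c0; omega)
  obtain ⟨a, -, e⟩ := (B.L_eq hs.1 s2 s1).le hx
  have c : s * x * s⁻¹ = x := mul_inv_eq_iff_eq_mul.2 (mem_centralizer_singleton_iff.1 hs.2)
  have l : s * ⁅a, s⁆ * s⁻¹ * ⁅a, s⁆ = 1 := by
    rw [commutatorElement_def, inv_eq_of_mul_eq_one_right s2]
    calc _ = s * a * s * a⁻¹ * (s * s) * a * s * a⁻¹ * s := by simp only [mul_assoc]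
      _ = s * a * (s * s) * a⁻¹ * s := by nth_rewrite 1 [s2]; simp only [mul_assoc, one_mul, inv_mul_cancel_left]
      _ = 1 := by rw [s2, mul_one, mul_inv_cancel_right, s2]
  rcases B.h.eqz e with rfl | rfl
  · rwa [c] at l
  · rw [← mul_assoc, mul_assoc _ z, ← B.h.cz, ← mul_assoc, mul_left_inj] at c
    rw [c] at l
    rw [mul_assoc, ← mul_assoc z, ← B.h.cz, mul_assoc, B.h.es.z_sq, mul_one, l]

theorem lt : Nat.card (L Q' Q) < Nat.card (L Q Q') := by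
  obtain ⟨a, ha, na⟩ : ∃ a ∈ Q, a ∉ U Q Q' := by
    by_contra! k
    obtain ⟨s, hs, s2, s1⟩ := B.symm.ex0
    exact s1 (B.I s (B.h.K s hs.1.2 s2 fun a ha => ((mem_U0.1 hs).2 a (k a ha)).symm) hs.1.1 s2)
  have m : ∀ b ∈ L Q' Q, ⁅a, b⁆ ∈ L Q Q' ⊓ centralizer {a} := fun b hb => by
    have b0 := B.symm.L_le hb
    have k : ⁅a, b⁆ ∈ L Q Q' := by
      by_cases e : π b = 1
      · rw [commutatorElement_eq_one_iff_commute.2 (B.h.cen e a)]; exact one_mem _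
      · exact (B.L_eq b0 (B.symm.L2 hb) e).ge ⟨a, ha, rfl⟩
    refine ⟨k, mem_centralizer_singleton_iff.2 ?_⟩
    have e : a⁻¹ * ⁅a, b⁆ = b * a⁻¹ * b⁻¹ := by rw [commutatorElement_def]; group
    have l : a⁻¹ * ⁅a, b⁆ * (a⁻¹ * ⁅a, b⁆) = a⁻¹ * a⁻¹ := by
      rw [e, conj_mul, (B.h.cen (by rw [map_mul]; exact B.h.q2 (inv_mem ha)) b).mul_inv_cancel]
    have c2 := B.L2 k
    generalize ⁅a, b⁆ = c at l c2
    calc c * a = a * (a * (a⁻¹ * a⁻¹)) * c * a := by group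
      _ = a * c * a⁻¹ * (c * c) * a := by rw [← l]; group
      _ = _ := by rw [c2]; group
  let φ : L Q' Q →* X := MonoidHom.mk' (fun b => π ⁅a, b⁆) fun b b' => by
    have c := (mem_U0.1 (B.symm.L_le b.2)).2 _ (B.L_le (m _ b'.2).1).1
    rw [show ⁅a, ((b * b' : L Q' Q) : H)⁆ = ⁅a, (b : H)⁆ * (b * ⁅a, (b' : H)⁆ * (b : H)⁻¹) by
      simp only [commutatorElement_def, coe_mul]; group, map_mul, map_mul π _ (b : H)⁻¹, map_mul π (b : H), c.eq, map_inv,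
      mul_inv_cancel_right]
  have k := SR16.card_le_of_hom (C := π.ker) (K := (L Q Q' ⊓ centralizer {a}).map π) φ
    (fun b => mem_map_of_mem π (m b b.2)) fun b e => by_contra fun n => na ((B.C_eq (B.symm.L_le b.2)
      (B.symm.L2 b.2) n).le (mem_Cm.2 ⟨ha, commutatorElement_eq_one_iff_commute.1
        ((map_commutatorElement π ..).symm.trans e)⟩))
  have l : π.ker ≤ L Q Q' ⊓ centralizer {a} := fun x hx => ⟨⟨B.h.memQ (hx.trans (map_one π).symm) (one_mem _),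
    fun y _ => B.h.cen hx y⟩, mem_centralizer_singleton_iff.2 (B.h.cen hx a).symm⟩
  have l1 := (π.domRestrict (L Q Q' ⊓ centralizer {a})).ker.card_mul_index
  rw [index_ker, MonoidHom.domRestrict_range, MonoidHom.ker_domRestrict,
    Nat.card_congr (subgroupOfEquivOfLe l).toEquiv] at l1
  obtain ⟨y, hy, y1, y2⟩ := B.h.es.exists_centralizes_not_comm (K := U Q Q') inf_le_left B.zU ha na
  exact (k.trans l1.le).trans_lt (card_lt_of_lt (lt_of_le_of_ne inf_le_left fun e =>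
    y2 (mem_centralizer_singleton_iff.1 (e.ge ⟨hy, y1⟩).2).symm))

end Bp

namespace Hf
variable (h : Hf π z Q)
include h

theorem no_bad {s g : H} (hs : s ∈ Q) (s2 : s * s = 1) (n : g * s * g⁻¹ ∈ normalizer (Q : Set H)) :
    g * s * g⁻¹ ∈ Q := by_contra fun k => by
  have u2 : g * s * g⁻¹ * (g * s * g⁻¹) = 1 := by rw [conj_mul, s2]; simp
  have u1 : π (g * s * g⁻¹) ≠ 1 := fun e => k (h.memQ (e.trans (map_one π).symm) (one_mem _))
  have c := card_U h (h.cj g) ⟨conj_mem_cj hs, n⟩ u2 u1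
  obtain ⟨x, hx, x2, x1⟩ := h.sing (U := U Q (g •ᶜ Q)) inf_le_left (by omega)
  have B : Bp π z Q (g •ᶜ Q) := ⟨h, h.cj g, fun t ht ht' t2 => by_contra fun t1 =>
    k ((mem_normalizer_iff.1 (h.hull t ht t2 t1 g (mem_cj.1 ht')) s).1 hs), c, card_U (h.cj g) h hx x2 x1⟩
  exact lt_asymm B.lt B.symm.lt

theorem le_N {P : Subgroup H} (hP : IsPGroup 2 P) (l : Q ≤ P) : P ≤ normalizer (Q : Set H) := by_contra fun k => by
  obtain ⟨x, hx, n, n'⟩ := SylowAux.exists_mem_normalizer_of_lt hP (S := P ⊓ normalizer (Q : Set H))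
    (lt_of_le_of_ne inf_le_left fun e => k (e.ge.trans inf_le_right))
  obtain ⟨s, hs, s2, s1⟩ := h.sing le_rfl (by rw [h.card]; norm_num)
  have := h.no_bad hs s2 ((mem_normalizer_iff.1 n s).1 ⟨l hs, le_normalizer hs⟩).2
  exact n' ⟨hx, by simpa using inv_mem (h.hull s hs s2 s1 x⁻¹ (by simpa using this))⟩

theorem sc {b g : H} (hb : b ∈ Q) (n : g * b * g⁻¹ ∈ normalizer (Q : Set H)) : g * b * g⁻¹ ∈ Q := by
  have hu : g * b * g⁻¹ ∈ g •ᶜ Q := conj_mem_cj hb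
  generalize g * b * g⁻¹ = u at n hu
  obtain ⟨y, hy, y2, y1⟩ := h.sing (U := Cm π Q u) inf_le_left ((h.card_C n ((h.cj g).q2 hu)).trans' (by norm_num))
  let Y : Subgroup H := (centralizer {π u}).comap π
  obtain ⟨T, hT⟩ := (isPGroup_subgroupOf (IsPGroup.of_card (p := 2) (n := 1) (G := zpowers y) (by
    rw [Nat.card_zpowers, LX.orderOf_eq_two_of (fun e => y1 (by rw [e, map_one])) y2, pow_one])) Y).exists_le_sylow
  have yT : y ∈ (T : Subgroup Y).map Y.subtype := ⟨⟨y, hy.2⟩, hT (mem_zpowers y), rfl⟩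
  obtain ⟨x, hx, l⟩ := (sylIn_map_subtype T).exists_conj_le (h.cj g).es.isPGroup
    fun a ha => mem_centralizer_singleton_iff.2 ((h.cj g).qc ha hu)
  rw [← cj_mul] at l
  have k := (h.cj (x * g)).le_N (T.isPGroup'.map _) l yT
  rw [← cj_normalizer, mem_cj] at k
  have k1 := h.hull y hy.1 y2 y1 (x * g) (by simpa using h.no_bad (g := (x * g)⁻¹) hy.1 y2 (by simpa using k))
  have k2 : x * u * x⁻¹ ∈ Q := by
    rw [← cj_eq_of_mem_normalizer k1, cj_mul]; exact conj_mem_cj hu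
  exact h.memQ (by rw [map_mul, map_mul, map_inv, (show Commute (π x) (π u) from
    mem_centralizer_singleton_iff.1 hx).mul_inv_cancel]) k2

end Hf

end CL.Co1S.Sq
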